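import Cfsg.Agent.Mrg.Omega.ML.MinIrr
import Cfsg.Agent.Mrg.Omega.ML.Ex.Def
import Cfsg.Agent.MinSimple.MinParabolic
import Cfsg.Agent.MinSimple.Basic
import Cfsg.Agent.ZN.ChoiceSit
import Cfsg.Agent.Lib.MinNormalNonabelian

section


/-!
# THEOREM KL (#21261, in the form of #21588 (G)), `[A]` of CARD #18791: the literal input and output (helper969)

* `Inp T A V x y` : **the input**: `H` faithful on the elementary abelian 2-group `M = ⟨x^H⟩`, `T` a Sylow 2-subgroup of
  `H`, `x ≠ y` non-trivial `T`-fixed vectors, `N_H(T)` fixes `x` and `y`; `(U)`: `V ∋ x` of order 4 is normalised by all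
  `T`-minimal `P` which move `x`, and these `P` fix `y`; `A ≠ 1` elementary abelian, `A ≤ O₂(C_H(x)) ∩ O₂(C_H(y))`,
  `|A| = |M : C_M(A)|`, `|C| < |M : C_M(C)|` for `1 < C < A`; `H` a K-group (`A` is NOT assumed to be normal in `T`);
* `Sys T A V x y` : **the middle**: moreover `M` is irreducible, `|A| ≥ 4`, `A ≤ O₂(R)` for all `T ≤ R < H` and `T` is
  in at least two maximal subgroups;
* `KK K T A V x y` : **the output**: moreover `K = F*(H)` is simple and `H = KT`.
-/

set_option autoImplicit false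

namespace Cfsg.Agent.Omega.KL.Def

open Subgroup Cfsg Cfsg.Agent.ZN Cfsg.Agent.ClassTwoFusion.Quad Cfsg.Agent.Omega.ML.MinFrame
open Cfsg.Agent.MinSimple.MinParabolic (IsMinPar)

universe u v

/-- two `T`-fixed vectors, `x` moved only by minimal parabolics which normalise `V` and fix `y` -/
structure Two {H : Type u} [Group H] {M : Type v} [Group M] [MulDistribMulAction H M] (T : Subgroup H)
    (V : Subgroup M) (x y : M) : Prop where
  sq : ∀ m : M, m * m = 1
  faith : ∀ h : H, (∀ m : M, h • m = m) → h = 1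
  gen : orb (⊤ : Subgroup H) x = ⊤
  two : IsPGroup 2 T
  syl : ¬ 2 ∣ T.index
  x1 : x ≠ 1
  y1 : y ≠ 1
  xy : x ≠ y
  nx : ∀ g ∈ normalizer (T : Set H), g • x = x
  ny : ∀ g ∈ normalizer (T : Set H), g • y = y
  cV : Nat.card V = 4
  xV : x ∈ V
  uni : ∀ P : Subgroup H, IsMinPar T P → (∃ p ∈ P, p • x ≠ x) →
    (∀ p ∈ P, ∀ w ∈ V, p • w ∈ V) ∧ ∀ p ∈ P, p • y = y

/-- an exact atom -/
structure Atom {H : Type u} [Group H] (M : Type v) [Group M] [MulDistribMulAction H M] (A : Subgroup H) : Prop where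
  el : ∀ a ∈ A, a * a = 1
  A1 : A ≠ ⊥
  exact : (cv M (A : Set H)).index = Nat.card A
  atom : ∀ C : Subgroup H, C ≤ A → C ≠ ⊥ → C ≠ A → Nat.card C < (cv M (C : Set H)).index

/-- **the input of THEOREM KL** -/
structure Inp {H : Type u} [Group H] {M : Type v} [Group M] [MulDistribMulAction H M] (T A : Subgroup H)
    (V : Subgroup M) (x y : M) : Prop extends Two T V x y, Atom M A where
  Ax : A ≤ o2 (MulAction.stabilizer H x)
  Ay : A ≤ o2 (MulAction.stabilizer H y)
  KH : IsKGroup H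

/-- **the middle of THEOREM KL** -/
structure Sys {H : Type u} [Group H] {M : Type v} [Group M] [MulDistribMulAction H M] (T A : Subgroup H)
    (V : Subgroup M) (x y : M) : Prop extends Two T V x y, Atom M A where
  irr : ∀ W : Subgroup M, (∀ h : H, ∀ w ∈ W, h • w ∈ W) → W = ⊥ ∨ W = ⊤
  AT : A ≤ T
  four : 4 ≤ Nat.card A
  low : ∀ R : Subgroup H, T ≤ R → R ≠ ⊤ → A ≤ o2 R
  nmax : ¬ ∃ N : Subgroup H, N ≠ ⊤ ∧ ∀ R : Subgroup H, T ≤ R → R ≠ ⊤ → R ≤ N
  KH : IsKGroup H

/-- **the output of THEOREM KL** -/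
structure KK {H : Type u} [Group H] {M : Type v} [Group M] [MulDistribMulAction H M] (K T A : Subgroup H)
    (V : Subgroup M) (x y : M) : Prop extends Sys T A V x y where
  norm : K.Normal
  simple : IsSimpleGroup K
  cen : centralizer (K : Set H) = ⊥
  KT : K ⊔ T = ⊤

/-- the form of the rows -/
theorem KK.inX {H : Type u} [Group H] {M : Type v} [Group M] [MulDistribMulAction H M] {K T A : Subgroup H}
    {V : Subgroup M} {x y : M} (h : KK K T A V x y) : ML.Ex.InX H M K T A where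
  sq := h.sq
  faith := h.faith
  irr := h.irr
  norm := h.norm
  simple := h.simple
  cen := h.cen
  gen := h.KT
  two := h.two
  syl := h.syl
  AT := h.AT
  el := h.el
  four := h.four
  exact := h.exact
  sub := by
    intro C hC
    by_cases h1 : C = ⊥
    · subst h1
      have h2 : cv M ((⊥ : Subgroup H) : Set H) = ⊤ := by
        rw [eq_top_iff]
        intro m _ c hc
        rw [SetLike.mem_coe, mem_bot] at hc
        rw [hc, one_smul]
      rw [h2, index_top, card_bot]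
    · by_cases h2 : C = A
      · rw [h2, h.exact]
      · exact (h.atom C hC h1 h2).le
  low := h.low
  nmax := h.nmax

/-- `T` fixes `x` -/
theorem Two.tx {H : Type u} [Group H] {M : Type v} [Group M] [MulDistribMulAction H M] {T : Subgroup H}
    {V : Subgroup M} {x y : M} (h : Two T V x y) {t : H} (ht : t ∈ T) : t • x = x := h.nx t (le_normalizer ht)

/-- `T` fixes `y` -/
theorem Two.ty {H : Type u} [Group H] {M : Type v} [Group M] [MulDistribMulAction H M] {T : Subgroup H}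
    {V : Subgroup M} {x y : M} (h : Two T V x y) {t : H} (ht : t ∈ T) : t • y = y := h.ny t (le_normalizer ht)

end Cfsg.Agent.Omega.KL.Def

end

section


/-!
# The end of THEOREM Z-RANK / SIGMA (#22648 (3) = #22713 (6), (7) = #22781 (4)): literal input, middle, output (helper636)

* `ZTwo c T Z` : `M` of exponent 2, `T` a Sylow 2-subgroup of `C`, `T` centralises `Z ≤ M`, `N_C(T)` normalises `Z`, every
  `T`-minimal `P` has `|Z : C_Z(P)| ≤ c` (`c` arbitrary, `c = 2` is used for `Z(E) = 1` only);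
* `ZPre c T A Z` : **the input**: `C` acts, not necessarily faithfully, on `M = ⟨Z^C⟩`; `A` is elementary abelian, not
  trivial and exact on `M`; every `T`-minimal `P` fixes a GOOD `m ∈ Z` : `A ≤ O₂(C_C(m))`;
* `ZSys c T A Z` : **the middle**: `H` is faithful and irreducible on `M`, `|Z| ≥ 4`, every `T`-minimal `P` fixes some
  `m ∈ Z#`, `A` is an exact atom of order `≥ 4`, `A ≤ O₂(R)` for all `T ≤ R < H` and `T` is in at least two maximal
  subgroups;
* `ZKK c K T A Z` : **the output** : moreover `K` is normal and simple, `C_H(K) = 1`, `H = KT`;  `ZKK.inX`.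
-/

set_option autoImplicit false

namespace Cfsg.Agent.Omega.KL.ZR

open Subgroup Cfsg Cfsg.Agent.ZN Cfsg.Agent.ClassTwoFusion.Quad Cfsg.Agent.Omega.ML.MinFrame
open Cfsg.Agent.Omega.KL.Def (Atom)
open Cfsg.Agent.MinSimple.MinParabolic (IsMinPar)

universe u v

/-- the parts of the input which do not concern `A` -/
structure ZTwo {C : Type u} [Group C] {M : Type v} [Group M] [MulDistribMulAction C M] (c : ℕ) (T : Subgroup C)
    (Z : Subgroup M) : Prop where
  sq : ∀ m : M, m * m = 1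
  two : IsPGroup 2 T
  syl : ¬ 2 ∣ T.index
  TZ : ∀ t ∈ T, ∀ z ∈ Z, t • z = z
  nZ : ∀ g ∈ normalizer (T : Set C), ∀ z ∈ Z, g • z ∈ Z
  par : ∀ P : Subgroup C, IsMinPar T P → (Z ⊓ cv M (P : Set C)).relIndex Z ≤ c

/-- **the input** -/
structure ZPre {C : Type u} [Group C] {M : Type v} [Group M] [MulDistribMulAction C M] (c : ℕ) (T A : Subgroup C)
    (Z : Subgroup M) : Prop extends ZTwo c T Z where
  gen : (⨆ z : Z, orb (⊤ : Subgroup C) (z : M)) = ⊤
  fix : ∀ P : Subgroup C, IsMinPar T P → ∃ m ∈ Z, (∀ p ∈ P, p • m = m) ∧ A ≤ o2 (MulAction.stabilizer C m)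
  good : ∃ m ∈ Z, A ≤ o2 (MulAction.stabilizer C m)
  el : ∀ a ∈ A, a * a = 1
  mv : ∃ a ∈ A, ∃ m : M, a • m ≠ m
  le : (cv M (A : Set C)).index ≤ (fxr C (⊤ : Subgroup M)).relIndex A
  KC : IsKGroup C

/-- **the middle** -/
structure ZSys {H : Type u} [Group H] {M : Type v} [Group M] [MulDistribMulAction H M] (c : ℕ) (T A : Subgroup H)
    (Z : Subgroup M) : Prop extends ZTwo c T Z, Atom M A where
  faith : ∀ h : H, (∀ m : M, h • m = m) → h = 1
  irr : ∀ W : Subgroup M, (∀ h : H, ∀ w ∈ W, h • w ∈ W) → W = ⊥ ∨ W = ⊤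
  Z4 : 4 ≤ Nat.card Z
  fix : ∀ P : Subgroup H, IsMinPar T P → ∃ m ∈ Z, m ≠ 1 ∧ ∀ p ∈ P, p • m = m
  AT : A ≤ T
  four : 4 ≤ Nat.card A
  low : ∀ R : Subgroup H, T ≤ R → R ≠ ⊤ → A ≤ o2 R
  nmax : ¬ ∃ N : Subgroup H, N ≠ ⊤ ∧ ∀ R : Subgroup H, T ≤ R → R ≠ ⊤ → R ≤ N
  KH : IsKGroup H

/-- **the output** -/
structure ZKK {H : Type u} [Group H] {M : Type v} [Group M] [MulDistribMulAction H M] (c : ℕ) (K T A : Subgroup H)
    (Z : Subgroup M) : Prop extends ZSys c T A Z where
  norm : K.Normal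
  simple : IsSimpleGroup K
  cen : centralizer (K : Set H) = ⊥
  KT : K ⊔ T = ⊤

section

variable {H : Type u} [Group H] {M : Type v} [Group M] [MulDistribMulAction H M] {c : ℕ} {K T A : Subgroup H}
  {Z : Subgroup M}

/-- the form of the rows -/
theorem ZKK.inX (h : ZKK c K T A Z) : ML.Ex.InX H M K T A where
  sq := h.sq
  faith := h.faith
  irr := h.irr
  norm := h.norm
  simple := h.simple
  cen := h.cen
  gen := h.KT
  two := h.two
  syl := h.syl
  AT := h.AT
  el := h.el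
  four := h.four
  exact := h.exact
  sub := by
    intro C hC
    by_cases h1 : C = ⊥
    · subst h1
      have h2 : cv M ((⊥ : Subgroup H) : Set H) = ⊤ := by
        rw [eq_top_iff]
        intro m _ c hc
        rw [SetLike.mem_coe, mem_bot] at hc
        rw [hc, one_smul]
      rw [h2, index_top, card_bot]
    · by_cases h2 : C = A
      · rw [h2, h.exact]
      · exact (h.atom C hC h1 h2).le
  low := h.low
  nmax := h.nmax

theorem ZKK.atm (h : ZKK c K T A Z) : ML.Ex.Atm M A := h.atom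

/-- a stabiliser of a `T`-fixed vector which is not `⊤` -/
theorem ZSys.le_o2 (h : ZSys c T A Z) {m : M} (hm : m ∈ Z) (hm1 : ∃ g : H, g • m ≠ m) :
    A ≤ o2 (MulAction.stabilizer H m) := by
  refine h.low _ (fun t ht => h.TZ t ht m hm) fun h1 => ?_
  obtain ⟨g, hg⟩ := hm1
  exact hg (h1 ▸ mem_top g : g ∈ MulAction.stabilizer H m)

end

section big

variable {C : Type u} [Group C] {M : Type v} [Group M] [MulDistribMulAction C M] {c : ℕ} {T A : Subgroup C}
  {Z : Subgroup M}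

/-- **the form with an index bound**: a subgroup `Y ≤ Z` without good vectors has index `> c` -/
theorem ZPre.of_big (h : ZTwo c T Z) (c1 : 1 ≤ c) (gen : (⨆ z : Z, orb (⊤ : Subgroup C) (z : M)) = ⊤)
    (big : ∀ Y : Subgroup M, Y ≤ Z → (∀ m ∈ Y, ¬ A ≤ o2 (MulAction.stabilizer C m)) → c < Y.relIndex Z)
    (el : ∀ a ∈ A, a * a = 1) (mv : ∃ a ∈ A, ∃ m : M, a • m ≠ m)
    (le : (cv M (A : Set C)).index ≤ (fxr C (⊤ : Subgroup M)).relIndex A) (KC : IsKGroup C) : ZPre c T A Z :=
  { h with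
    gen := gen
    fix := by
      intro P hP
      by_contra hc
      push Not at hc
      have h1 := big (Z ⊓ cv M (P : Set C)) inf_le_left fun m hm => hc m hm.1 hm.2
      exact absurd (h.par P hP) (not_le_of_gt h1)
    good := by
      by_contra hc
      push Not at hc
      have h1 := big Z le_rfl hc
      rw [relIndex_self] at h1
      omega
    el := el
    mv := mv
    le := le
    KC := KC }

end big

end Cfsg.Agent.Omega.KL.ZR

end

section


/-!
# THEOREM KL, the reduction to the middle: tools (helper909)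

* `o2_map_le`, `o2_subgroupOf_le`, `o2_inf_le` : `O₂` and homomorphisms, subgroups, normal subgroups;
* `minPar_map_subtype`, `exists_minPar_map` : minimal parabolics of subgroups and of quotients come from the group;
* `exists_normalizer_map` : the normaliser of the image of `T`;
* `exists_fixed_mod` : a vector which is fixed modulo `U` is fixed after a change by an element of `U`;
* `trans` : a group which normalises a four-group `V ∋ x` moves `x` and has a Sylow 2-subgroup fixing `x` is transitive on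
  `V#`;
* `no_orb`, `no` : (ML) for an action which need not be faithful, with `Q = O₂(C_H(x))`.
-/

set_option autoImplicit false

namespace Cfsg.Agent.Omega.KL.GenTool

open Subgroup Cfsg Cfsg.Agent.ZN Cfsg.Agent.ClassTwoFusion.Quad Cfsg.Agent.Omega.ML.MinFrame
open Cfsg.Agent.Omega.ML.Final
open Cfsg.Agent.MinSimple.MinParabolic (IsMinPar)
open Cfsg.Agent.MinSimple.VModule (o2_isPGroup o2_le le_o2 le_normalizer_o2 o2_le_of_sylow)

universe u v

section grp

variable {H : Type*} [Group H] {Q : Type*} [Group Q]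

theorem o2_map_le (f : H →* Q) (S : Subgroup H) : (o2 S).map f ≤ o2 (S.map f) := by
  refine le_o2 (map_mono (o2_le S)) ((o2_isPGroup S).map f) (le_normalizer_of ?_)
  rintro _ ⟨s, hs, rfl⟩ _ ⟨x, hx, rfl⟩
  exact ⟨s * x * s⁻¹, conj_mem_of_le (le_normalizer_o2 S) hs hx, by simp⟩

theorem o2_subgroupOf_le {R : Subgroup H} (S : Subgroup R) : (o2 (S.map R.subtype)).subgroupOf R ≤ o2 S := by
  refine le_o2 ?_ ((o2_isPGroup _).comap_of_injective _ R.subtype_injective) (le_normalizer_of ?_)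
  · intro x hx
    obtain ⟨s, hs, hsx⟩ := o2_le _ (mem_subgroupOf.1 hx)
    rwa [← (Subtype.ext hsx : s = x)]
  · intro s hs x hx
    rw [mem_subgroupOf] at hx ⊢
    exact conj_mem_of_le (le_normalizer_o2 (S.map R.subtype)) ⟨s, hs, rfl⟩ hx

/-- `O₂(R) ∩ N ≤ O₂(L)` for `N ⊴ L`, `N ≤ R` -/
theorem o2_inf_le {L N R : Subgroup H} (hNL : N ≤ L) (hn : ∀ g ∈ L, ∀ x ∈ N, g * x * g⁻¹ ∈ N) (hNR : N ≤ R) :
    o2 R ⊓ N ≤ o2 L := by
  refine le_trans ?_ (o2_le_o2 hNL hn)
  refine le_o2 inf_le_right ((o2_isPGroup R).to_le inf_le_left) (le_normalizer_of fun g hg x hx => ⟨?_, ?_⟩)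
  · exact conj_mem_of_le (le_normalizer_o2 R) (hNR hg) hx.1
  · exact N.mul_mem (N.mul_mem hg hx.2) (N.inv_mem hg)

theorem minPar_map_subtype {R T : Subgroup H} (hTR : T ≤ R) {P : Subgroup R} (h : IsMinPar (T.subgroupOf R) P) :
    IsMinPar T (P.map R.subtype) := by
  have hT : (T.subgroupOf R).map R.subtype = T := by rw [subgroupOf_map_subtype, inf_eq_left.2 hTR]
  refine ⟨?_, ?_, ?_⟩
  · rw [← hT]
    exact map_mono h.le
  · intro hP
    refine h.not_le (le_normalizer_of fun p hp x hx => ?_)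
    rw [mem_subgroupOf] at hx ⊢
    exact conj_mem_of_le hP ⟨p, hp, rfl⟩ hx
  · obtain ⟨M, hM, hM2⟩ := h.exists_max
    refine ⟨M.map R.subtype, (map_lt_map_iff_of_injective R.subtype_injective).2 hM, fun K hTK hK => ?_⟩
    have hKR : K ≤ R := hK.le.trans (map_subtype_le P)
    have e : (K.subgroupOf R).map R.subtype = K := by rw [subgroupOf_map_subtype, inf_eq_left.2 hKR]
    rw [← e] at hK ⊢
    refine map_mono (hM2 _ ?_ ((map_lt_map_iff_of_injective R.subtype_injective).1 hK))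
    exact fun x hx => hTK hx

/-- minimal parabolics of quotients lift -/
theorem exists_minPar_map [Finite H] (f : H →* Q) (hf : Function.Surjective f) {T : Subgroup H} {P' : Subgroup Q}
    (h : IsMinPar (T.map f) P') : ∃ P : Subgroup H, IsMinPar T P ∧ P.map f = P' := by
  obtain ⟨M, hM, hM2⟩ := h.exists_max
  by_contra hc
  push Not at hc
  have hTX : T ≤ P'.comap f := map_le_iff_le_comap.1 h.le
  have key : P'.comap f ≤ M.comap f := by
    refine MinSimple.MinParabolic.le_of_forall hTX ?_ fun P hP hPX => ?_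
    · rw [← map_le_iff_le_comap]
      have h1 : (P'.comap f ⊓ normalizer (T : Set H)).map f ≤ P' ⊓ normalizer (T.map f : Set Q) := by
        rintro _ ⟨g, ⟨hg1, hg2⟩, rfl⟩
        refine ⟨hg1, le_normalizer_of (R := (normalizer (T : Set H)).map f) ?_ ⟨g, hg2, rfl⟩⟩
        rintro _ ⟨n, hn, rfl⟩ _ ⟨t, ht, rfl⟩
        exact ⟨n * t * n⁻¹, (mem_normalizer_iff.1 hn t).1 ht, by simp⟩
      refine h1.trans (hM2 _ (le_inf h.le le_normalizer) (lt_of_le_of_ne inf_le_left fun h2 => h.not_le ?_))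
      exact inf_eq_left.1 h2
    · rw [← map_le_iff_le_comap]
      exact hM2 _ (map_mono hP.le) (lt_of_le_of_ne (map_le_iff_le_comap.2 hPX) (hc P hP))
  have h1 : P' ≤ M := by
    intro p hp
    obtain ⟨g, rfl⟩ := hf p
    exact key hp
  exact hM.not_ge h1

/-- the normaliser of the image of a Sylow 2-subgroup -/
theorem exists_normalizer_map [Finite H] (f : H →* Q) (hf : Function.Surjective f) {T : Subgroup H}
    (hT : IsPGroup 2 T) (hTi : ¬ 2 ∣ T.index) {g' : Q} (hg : g' ∈ normalizer (T.map f : Set Q)) :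
    ∃ t ∈ T.map f, ∃ n ∈ normalizer (T : Set H), g' = t * f n := by
  obtain ⟨g, rfl⟩ := hf g'
  set L := (T.map f).comap f with hL
  have hTL : T ≤ L := le_comap_map f T
  have hgL : g ∈ normalizer (L : Set H) := by
    rw [mem_normalizer_iff]
    intro x
    have h1 := mem_normalizer_iff.1 hg (f x)
    rw [← map_mul, ← map_inv, ← map_mul] at h1
    exact h1
  have h1 := MinSimple.Basic.frattini (X := normalizer (L : Set H)) (L := L) (S := T) (hTL.trans le_normalizer) hT
    (fun h2 => hTi (h2.trans (relIndex_dvd_index_of_le (hTL.trans le_normalizer) |>.trans ?_))) le_rfl hgL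
  · have h2 : g ∈ ((L ⊔ (normalizer (L : Set H) ⊓ normalizer ((T ⊓ L : Subgroup H) : Set H)) : Subgroup H) : Set H) :=
      h1
    rw [coe_mul_of_right_le_normalizer_left _ _ inf_le_left] at h2
    obtain ⟨a, ha, b, hb, hab⟩ := h2
    rw [inf_eq_left.2 hTL] at hb
    refine ⟨f a, ha, b, hb.2, ?_⟩
    rw [← map_mul, ← hab]
  · exact dvd_rfl

end grp

section mod

variable {H : Type*} [Group H] {M : Type*} [Group M] [MulDistribMulAction H M]

/-- **odd orbits**: a `T`-fixed vector which is fixed modulo `U` is fixed by `H` after a change by an element of `U` -/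
theorem exists_fixed_mod [Finite H] [Finite M] (sq : ∀ m : M, m * m = 1) {T : Subgroup H} (hTi : ¬ 2 ∣ T.index)
    {y : M} (hy : ∀ t ∈ T, t • y = y) {U : Subgroup M} (hU : ∀ g : H, g • y * y ∈ U) :
    ∃ z : M, (∀ g : H, g • z = z) ∧ y * z ∈ U := by
  classical
  let _ : CommGroup M := { (inferInstance : Group M) with mul_comm := comm_of_sq sq }
  have _ := Fintype.ofFinite M
  set s : Finset M := (MulAction.orbit H y).toFinset with hs
  have hms : ∀ m : M, m ∈ s ↔ ∃ g : H, g • y = m := fun m => by rw [hs, Set.mem_toFinset]; exact Iff.rfl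
  have hodd : Odd s.card := by
    rw [hs, Set.toFinset_card, ← Nat.card_eq_fintype_card, Nat.card_coe_set_eq, ← MulAction.index_stabilizer,
      ← Nat.not_even_iff_odd, even_iff_two_dvd]
    exact fun h2 => hTi (h2.trans (index_dvd_of_le fun t ht => hy t ht))
  refine ⟨∏ m ∈ s, m, fun g => ?_, ?_⟩
  · rw [Finset.smul_prod']
    refine Finset.prod_bij (fun m _ => g • m) (fun m hm => ?_) (fun a _ b _ hab => smul_left_cancel g hab)
      (fun m hm => ?_) fun _ _ => rfl
    · obtain ⟨k, rfl⟩ := (hms m).1 hm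
      exact (hms _).2 ⟨g * k, mul_smul _ _ _⟩
    · obtain ⟨k, rfl⟩ := (hms m).1 hm
      exact ⟨(g⁻¹ * k) • y, (hms _).2 ⟨_, rfl⟩, by rw [mul_smul, smul_inv_smul]⟩
  · have h1 : ∏ m ∈ s, (m * y) ∈ U := Subgroup.prod_mem _ fun m hm => by
      obtain ⟨k, rfl⟩ := (hms m).1 hm
      exact hU k
    rw [Finset.prod_mul_distrib, Finset.prod_const] at h1
    obtain ⟨n, hn⟩ := hodd
    rwa [hn, pow_succ, pow_mul, pow_two, sq, one_pow, one_mul, mul_comm] at h1

/-- **transitivity on `V#`** -/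
theorem trans [Finite H] {T P : Subgroup H} (hTP : T ≤ P) (hTi : ¬ 2 ∣ T.index) {x : M} (hx : ∀ t ∈ T, t • x = x)
    {V : Subgroup M} (hV : Nat.card V = 4) (hxV : x ∈ V) (hPV : ∀ p ∈ P, ∀ w ∈ V, p • w ∈ V)
    (hm : ∃ p ∈ P, p • x ≠ x) {v : M} (hv : v ∈ V) (hv1 : v ≠ 1) : ∃ p ∈ P, p • x = v := by
  have hVf : Finite V := Nat.finite_of_card_ne_zero (by omega)
  have hx1 : x ≠ 1 := by
    rintro rfl
    obtain ⟨p, -, hp⟩ := hm
    exact hp (smul_one p)
  set O : Set M := MulAction.orbit P x with hO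
  have hOV : O ⊆ (V : Set M) \ {1} := by
    rintro _ ⟨p, rfl⟩
    refine ⟨hPV p p.2 x hxV, fun h1 => hx1 ?_⟩
    have h2 : (p : H) • x = 1 := h1
    rw [← inv_smul_smul (p : H) x, h2, smul_one]
  have hfin : ((V : Set M) \ {1}).Finite := (Set.toFinite (V : Set M)).subset Set.sdiff_subset
  have h3 : ((V : Set M) \ {1}).ncard = 3 := by
    rw [Set.ncard_sdiff_singleton_of_mem V.one_mem, ← Nat.card_coe_set_eq]
    change Nat.card V - 1 = 3
    omega
  have hodd : ¬ 2 ∣ O.ncard := by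
    rw [hO, ← MulAction.index_stabilizer]
    intro h2
    apply hTi
    have h4 : T.subgroupOf P ≤ MulAction.stabilizer P x := fun t ht => hx _ ht
    refine (h2.trans (index_dvd_of_le h4)).trans ?_
    exact relIndex_dvd_index_of_le hTP
  have h5 : 2 ≤ O.ncard := by
    obtain ⟨p, hp, hpx⟩ := hm
    have h6 : ({x, p • x} : Set M) ⊆ O := by
      rintro m (rfl | rfl)
      · exact MulAction.mem_orbit_self m
      · exact ⟨⟨p, hp⟩, rfl⟩
    have h7 := Set.ncard_le_ncard h6 (hfin.subset hOV)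
    rwa [Set.ncard_pair (Ne.symm hpx)] at h7
  have h6 : O.ncard ≤ 3 := h3 ▸ Set.ncard_le_ncard hOV hfin
  have h7 : O = (V : Set M) \ {1} := Set.eq_of_subset_of_ncard_le hOV (by omega) hfin
  have h8 : v ∈ O := by
    rw [h7]
    exact ⟨hv, hv1⟩
  obtain ⟨p, hp⟩ := h8
  exact ⟨p, p.2, hp⟩

end mod

section ml

variable {H : Type u} [Group H] [Finite H] {M : Type v} [Group M] [Finite M] [MulDistribMulAction H M]

/-- **(ML) on `⟨x^H⟩`** -/
theorem no_orb (ml : MLK.{u, v}) (KH : IsKGroup H) (sq : ∀ m : M, m * m = 1) {T A : Subgroup H} {x : M}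
    (two : IsPGroup 2 T) (syl : ¬ 2 ∣ T.index) (fx : ∀ t ∈ T, t • x = x) (el : ∀ a ∈ A, a * a = 1)
    (hA : A ≤ o2 (MulAction.stabilizer H x)) :
    (fxr H (orb (⊤ : Subgroup H) x)).relIndex A ≤ (cv M (A : Set H)).relIndex (orb (⊤ : Subgroup H) x) := by
  refine ml.act KH (T := T) (Q := o2 (MulAction.stabilizer H x)) ⟨sq, two, syl, fx, ?_, fun q hq => o2_le _ hq, ?_,
    fun a ha => ⟨a, hA ha, fun _ => rfl⟩, ?_⟩
  · intro q hq
    obtain ⟨n, hn⟩ := o2_isPGroup (MulAction.stabilizer H x) ⟨q, hq⟩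
    refine ⟨n, fun v => ?_⟩
    have h2 : (q : H) ^ 2 ^ n = 1 := congrArg Subtype.val hn
    rw [h2, one_smul]
  · intro g hg q hq
    exact ⟨g * q * g⁻¹, conj_mem_of_le (le_normalizer_o2 _) hg hq, fun _ => rfl⟩
  · intro a ha v
    rw [← mul_smul, el a ha, one_smul]

/-- **(ML)** if `M = ⟨x^H⟩` -/
theorem no (ml : MLK.{u, v}) (KH : IsKGroup H) (sq : ∀ m : M, m * m = 1) {T A : Subgroup H} {x : M}
    (two : IsPGroup 2 T) (syl : ¬ 2 ∣ T.index) (fx : ∀ t ∈ T, t • x = x) (gen : orb (⊤ : Subgroup H) x = ⊤)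
    (el : ∀ a ∈ A, a * a = 1) (hA : A ≤ o2 (MulAction.stabilizer H x)) :
    (fxr H (⊤ : Subgroup M)).relIndex A ≤ (cv M (A : Set H)).index := by
  have h1 := no_orb ml KH sq two syl fx el hA
  rwa [gen, relIndex_top_right] at h1

end ml

end Cfsg.Agent.Omega.KL.GenTool

end

section


/-!
# THEOREM KL: the input `Def.Inp` from an action which need not be faithful (CARD #18791 `[A]`)

* `exists_minPar` : a `π(T)`-minimal subgroup of `π(C)` is the image of a `T`-minimal subgroup of `C`;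
* `norm_lift` : `N(π(T)) = π(T) π(N(T))` (Frattini);
* `Pre T A V x y` : the input of THEOREM KL for `C` acting on `M`, not necessarily faithfully, with an exact `A`
  (not necessarily an atom); **`Pre.inp`** : `Pre → Inp` for `C / C_C(M)`; `NoInp` : the conclusion of THEOREM KL;
  `Pre.false`.
-/

set_option autoImplicit false

namespace Cfsg.Agent.Omega.KL.Quo

open Subgroup Cfsg Cfsg.Agent.ZN Cfsg.Agent.ClassTwoFusion.Quad Cfsg.Agent.Omega.ML.MinFrame
open Cfsg.Agent.MinSimple.MinParabolic (IsMinPar le_of_forall)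
open Cfsg.Agent.ZN.ChoiceSit (Syl syl_conj)
open Cfsg.Agent.ZN.ChoiceBase (cj)
open Cfsg.Agent.MinSimple.VModule (o2_isPGroup o2_le le_o2 le_normalizer_o2)

universe u v

section lift

variable {C H : Type*} [Group C] [Group H]

/-- lifting of minimal parabolics -/
theorem exists_minPar [Finite C] (π : C →* H) (hπ : Function.Surjective π) {T : Subgroup C} {P : Subgroup H}
    (hP : IsMinPar (T.map π) P) : ∃ R : Subgroup C, IsMinPar T R ∧ R.map π = P := by
  obtain ⟨N, hNP, hN⟩ := hP.exists_max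
  by_contra hcon
  push Not at hcon
  have hTP : T ≤ P.comap π := map_le_iff_le_comap.1 hP.le
  have key : P.comap π ≤ N.comap π := by
    refine le_of_forall (S := T) hTP ?_ ?_
    · rw [← map_le_iff_le_comap]
      have h1 : (P.comap π ⊓ normalizer (T : Set C)).map π ≤ P ⊓ normalizer ((T.map π : Subgroup H) : Set H) := by
        refine le_inf ((map_mono inf_le_left).trans (map_comap_le _ _)) ?_
        rintro _ ⟨c, ⟨-, hc⟩, rfl⟩
        rw [mem_normalizer_iff]
        intro y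
        constructor
        · rintro ⟨t, ht, rfl⟩
          exact ⟨c * t * c⁻¹, (mem_normalizer_iff.1 hc t).1 ht, by simp⟩
        · rintro ⟨t, ht, hty⟩
          refine ⟨c⁻¹ * t * c, ?_, ?_⟩
          · have := (mem_normalizer_iff.1 (inv_mem hc) t).1 ht
            rwa [inv_inv] at this
          · rw [map_mul, map_mul, map_inv, hty]; group
      refine h1.trans (hN _ (le_inf hP.le le_normalizer) (lt_of_le_of_ne inf_le_left fun h => ?_))
      exact hP.not_le (inf_eq_left.1 h)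
    · intro R hR hRP
      rw [← map_le_iff_le_comap]
      have h1 : R.map π ≤ P := map_le_iff_le_comap.2 hRP
      exact hN _ (map_mono hR.le) (lt_of_le_of_ne h1 (hcon R hR))
  have h2 : P ≤ N := by
    rw [← map_comap_eq_self_of_surjective hπ P, ← map_comap_eq_self_of_surjective hπ N]
    exact map_mono key
  exact absurd h2 (not_le_of_gt hNP)

theorem syl_of_index {C : Type u} [Group C] [Finite C] {T X : Subgroup C} (hT : IsPGroup 2 T) (hi : ¬ 2 ∣ T.index)
    (hTX : T ≤ X) : Syl T X := by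
  refine ⟨hTX, hT, fun Q _ hQ hTQ => ?_⟩
  obtain ⟨n, hn⟩ := IsPGroup.iff_card.1 hQ
  have h1 : T.relIndex Q ∣ 2 ^ n := by rw [← hn]; exact relIndex_dvd_card _ _
  obtain ⟨k, -, hk⟩ := (Nat.dvd_prime_pow Nat.prime_two).1 h1
  have hk0 : k = 0 := by
    by_contra h0
    apply hi
    exact ((dvd_pow_self 2 h0).trans (hk ▸ dvd_rfl)).trans (relIndex_dvd_index_of_le hTQ)
  have h2 : T.relIndex Q = 1 := by rw [hk, hk0, pow_zero]
  exact le_antisymm (relIndex_eq_one.1 h2) hTQ

/-- Frattini -/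
theorem norm_lift {C : Type u} [Group C] [Finite C] {H : Type*} [Group H] (π : C →* H)
    (hπ : Function.Surjective π) {T : Subgroup C} (hT : IsPGroup 2 T)
    (hi : ¬ 2 ∣ T.index) {g : H} (hg : g ∈ normalizer ((T.map π : Subgroup H) : Set H)) :
    ∃ t ∈ T, ∃ n ∈ normalizer (T : Set C), g = π (t * n) := by
  obtain ⟨c, rfl⟩ := hπ g
  set X : Subgroup C := T ⊔ π.ker with hX
  have hTX : T ≤ X := le_sup_left
  have hcX : cj c T ≤ X := by
    rintro _ ⟨t, ht, rfl⟩
    have h1 : π c * π t * (π c)⁻¹ ∈ T.map π := (mem_normalizer_iff.1 hg _).1 ⟨t, ht, rfl⟩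
    obtain ⟨s, hs, hst⟩ := h1
    have h2 : s⁻¹ * (c * t * c⁻¹) ∈ π.ker := by
      rw [MonoidHom.mem_ker, map_mul, map_inv, hst, map_mul, map_mul, map_inv]
      group
    have e : (MulAut.conj c).toMonoidHom t = s * (s⁻¹ * (c * t * c⁻¹)) := by
      change c * t * c⁻¹ = _
      group
    rw [e]
    exact mul_mem (mem_sup_left hs) (mem_sup_right h2)
  have hS2 : Syl (cj c T) X := by
    refine syl_of_index (hT.map _) ?_ hcX
    have e : (cj c T).index = T.index := index_map_equiv T (MulAut.conj c)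
    rwa [e]
  obtain ⟨x, hx, hxT⟩ := syl_conj hS2 (syl_of_index hT hi hTX)
  obtain ⟨t, ht, k, hk, rfl⟩ := mem_sup_of_normal_right.1 hx
  have hn : t * k * c ∈ normalizer (T : Set C) := by
    have h1 : cj (t * k * c) T = T := by
      refine Eq.trans ?_ hxT
      ext y
      constructor
      · rintro ⟨s, hs, rfl⟩
        exact ⟨c * s * c⁻¹, ⟨s, hs, rfl⟩, by
          change (t * k) * (c * s * c⁻¹) * (t * k)⁻¹ = (t * k * c) * s * (t * k * c)⁻¹
          group⟩
      · rintro ⟨_, ⟨s, hs, rfl⟩, rfl⟩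
        exact ⟨s, hs, by
          change (t * k * c) * s * (t * k * c)⁻¹ = (t * k) * (c * s * c⁻¹) * (t * k)⁻¹
          group⟩
    rw [mem_normalizer_iff]
    intro y
    constructor
    · intro hy
      rw [← h1]
      exact ⟨y, hy, rfl⟩
    · intro hy
      rw [← h1] at hy
      obtain ⟨s, hs, hsy⟩ := hy
      have : s = y := by
        have h2 : (t * k * c) * s * (t * k * c)⁻¹ = (t * k * c) * y * (t * k * c)⁻¹ := hsy
        exact mul_left_cancel (mul_right_cancel h2)
      rwa [← this]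
  refine ⟨t⁻¹, inv_mem ht, t * k * c, hn, ?_⟩
  have hk1 : π k = 1 := hk
  rw [map_mul, map_mul, map_mul, hk1, map_inv]
  group

end lift

/-! ### The input of THEOREM KL, for an action which need not be faithful -/

/-- the input of THEOREM KL for `C` acting on `M`, not necessarily faithfully; `A` is exact -/
structure Pre {C : Type u} [Group C] {M : Type v} [Group M] [MulDistribMulAction C M] (T A : Subgroup C)
    (V : Subgroup M) (x y : M) : Prop where
  sq : ∀ m : M, m * m = 1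
  gen : orb (⊤ : Subgroup C) x = ⊤
  two : IsPGroup 2 T
  syl : ¬ 2 ∣ T.index
  x1 : x ≠ 1
  y1 : y ≠ 1
  xy : x ≠ y
  nx : ∀ g ∈ normalizer (T : Set C), g • x = x
  ny : ∀ g ∈ normalizer (T : Set C), g • y = y
  cV : Nat.card V = 4
  xV : x ∈ V
  uni : ∀ P : Subgroup C, IsMinPar T P → (∃ p ∈ P, p • x ≠ x) →
    (∀ p ∈ P, ∀ w ∈ V, p • w ∈ V) ∧ ∀ p ∈ P, p • y = y
  el : ∀ a ∈ A, a * a = 1
  Ax : A ≤ o2 (MulAction.stabilizer C x)
  Ay : A ≤ o2 (MulAction.stabilizer C y)
  mv : ∃ a ∈ A, ∃ m : M, a • m ≠ m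
  le : (cv M (A : Set C)).index ≤ (fxr C (⊤ : Subgroup M)).relIndex A
  KC : IsKGroup C

/-- the conclusion of THEOREM KL -/
def NoInp : Prop :=
  ∀ (H : Type u) [Group H] [Finite H] (M : Type v) [Group M] [Finite M] [MulDistribMulAction H M]
    (T A : Subgroup H) (V : Subgroup M) (x y : M), ¬ Def.Inp T A V x y

section pre

variable {C : Type u} [Group C] [Finite C] {M : Type v} [Group M] [Finite M] [MulDistribMulAction C M]
  {T A : Subgroup C} {V : Subgroup M} {x y : M}

theorem Pre.inp (hML : ML.Final.MLK.{u, v}) (h : Pre T A V x y) :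
    ∃ (H : Type u) (_ : Group H) (_ : Finite H) (_ : MulDistribMulAction H M) (T' A' : Subgroup H),
      Def.Inp T' A' V x y := by
  have htriv : ∀ k ∈ fxr C (⊤ : Subgroup M), ∀ m : M, k • m = m := fun k hk m => hk m (mem_top m)
  have hN : (fxr C (⊤ : Subgroup M)).Normal := fxr_normal fun _ _ _ => mem_top _
  set N := fxr C (⊤ : Subgroup M) with hNdef
  let _ : MulDistribMulAction (C ⧸ N) M := quoAct N htriv
  let π : C →* C ⧸ N := QuotientGroup.mk' N
  have hπ : Function.Surjective π := QuotientGroup.mk'_surjective N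
  have he : ∀ (g : C) (v : M), π g • v = g • v := fun _ _ => rfl
  have hker : ∀ k : C, (∀ v : M, k • v = v) → π k = 1 := fun k hk =>
    (QuotientGroup.eq_one_iff k).2 fun v _ => hk v
  have hker2 : ∀ k : C, π k = 1 → ∀ v : M, k • v = v := fun k hk v =>
    (QuotientGroup.eq_one_iff k).1 hk v (mem_top v)
  -- stabilisers
  have hst : ∀ z : M, (MulAction.stabilizer C z).map π = MulAction.stabilizer (C ⧸ N) z := by
    intro z
    ext g
    constructor
    · rintro ⟨c, hc, rfl⟩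
      exact hc
    · intro hg
      obtain ⟨c, rfl⟩ := hπ g
      exact ⟨c, hg, rfl⟩
  have ho2 : ∀ z : M, A ≤ o2 (MulAction.stabilizer C z) → A.map π ≤ o2 (MulAction.stabilizer (C ⧸ N) z) := by
    intro z hz
    refine (map_mono hz).trans (le_o2 ?_ ((o2_isPGroup _).map π) ?_)
    · rw [← hst]
      exact map_mono (o2_le _)
    · rw [← hst]
      exact (map_mono (le_normalizer_o2 _)).trans (le_normalizer_map π)
  have hx := ho2 x h.Ax
  have hy := ho2 y h.Ay
  have hgen : orb (⊤ : Subgroup (C ⧸ N)) x = ⊤ := by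
    rw [eq_top_iff, ← h.gen]
    exact orb_le fun g _ => smul_mem_orb_self (g := π g) (mem_top _)
  have hfaith : ∀ g : C ⧸ N, (∀ m : M, g • m = m) → g = 1 := by
    intro g hg
    obtain ⟨c, rfl⟩ := hπ g
    exact hker c hg
  have hsyl : ¬ 2 ∣ (T.map π).index := fun h2 => h.syl (h2.trans (index_map_dvd T hπ))
  have hKH : IsKGroup (C ⧸ N) := ML.Final.sec_KG.quo C h.KC N
  have htx : ∀ t ∈ T, t • x = x := fun t ht => h.nx t (le_normalizer ht)
  have hel : ∀ a ∈ A.map π, a * a = 1 := by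
    rintro _ ⟨a, ha, rfl⟩
    rw [← map_mul, h.el a ha, map_one]
  -- (NO)
  have hfx : fxr (C ⧸ N) (⊤ : Subgroup M) = ⊥ := by
    rw [Subgroup.eq_bot_iff_forall]
    exact fun g hg => hfaith g fun m => hg m (mem_top m)
  have hno : ∀ B : Subgroup (C ⧸ N), B ≤ A.map π → Nat.card B ≤ (cv M (B : Set (C ⧸ N))).index := by
    intro B hB
    have key := hML (C ⧸ N) M hKH h.sq (T.map π) (o2 (MulAction.stabilizer (C ⧸ N) x)) B x (mem_top _)
      (h.two.map π) le_top
      (by rwa [relIndex_top_right])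
      (by
        rintro _ ⟨t, ht, rfl⟩
        rw [he, htx t ht])
      (o2_isPGroup _) le_top
      (fun q hq => o2_le _ hq)
      (fun g _ hgx q hq => (mem_normalizer_iff.1 (le_normalizer_o2 _
        (show g ∈ MulAction.stabilizer (C ⧸ N) x from hgx)) q).1 hq)
      (hB.trans hx)
      (fun b hb => hel b (hB hb))
      False.elim
    rw [hgen, relIndex_top_right, hfx, relIndex_bot_left] at key
    exact key
  -- `A` is exact
  have hcv : cv M (A.map π : Set (C ⧸ N)) = cv M (A : Set C) := by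
    ext v
    constructor
    · exact fun hv a ha => hv _ ⟨a, ha, rfl⟩
    · rintro hv _ ⟨a, ha, rfl⟩
      exact hv a ha
  have hcard : Nat.card (A.map π) = N.relIndex A := by
    rw [← relIndex_bot_left, ← relIndex_comap, MonoidHom.comap_bot, QuotientGroup.ker_mk']
  have hex : (cv M (A.map π : Set (C ⧸ N))).index = Nat.card (A.map π) := by
    refine le_antisymm ?_ (hno _ le_rfl)
    rw [hcv, hcard]
    exact h.le
  have hA1 : A.map π ≠ ⊥ := by
    intro h1
    obtain ⟨a, ha, m, ham⟩ := h.mv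
    apply ham
    refine hker2 a ?_ m
    rw [← mem_bot, ← h1]
    exact ⟨a, ha, rfl⟩
  -- an atom
  obtain ⟨B, ⟨hBA, hB1, hBe⟩, hmin⟩ : ∃ B : Subgroup (C ⧸ N), (B ≤ A.map π ∧ B ≠ ⊥ ∧
      (cv M (B : Set (C ⧸ N))).index = Nat.card B) ∧ ∀ B' : Subgroup (C ⧸ N), (B' ≤ A.map π ∧ B' ≠ ⊥ ∧
      (cv M (B' : Set (C ⧸ N))).index = Nat.card B') → B' ≤ B → B' = B := by
    obtain ⟨B, hB⟩ := (Set.toFinite {B : Subgroup (C ⧸ N) | B ≤ A.map π ∧ B ≠ ⊥ ∧
      (cv M (B : Set (C ⧸ N))).index = Nat.card B}).exists_minimal ⟨A.map π, le_rfl, hA1, hex⟩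
    exact ⟨B, hB.prop, fun B' hB' hle => le_antisymm hle (hB.le_of_le hB' hle)⟩
  refine ⟨C ⧸ N, inferInstance, inferInstance, inferInstance, T.map π, B, ?_⟩
  refine Def.Inp.mk (Def.Two.mk h.sq hfaith hgen (h.two.map π) hsyl h.x1 h.y1 h.xy ?_ ?_ h.cV h.xV ?_)
    (Def.Atom.mk (fun a ha => hel a (hBA ha)) hB1 hBe ?_) (hBA.trans hx) (hBA.trans hy) hKH
  · intro g hg
    obtain ⟨t, ht, n, hn, rfl⟩ := norm_lift π hπ h.two h.syl hg
    rw [he, mul_smul, h.nx n hn, h.nx t (le_normalizer ht)]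
  · intro g hg
    obtain ⟨t, ht, n, hn, rfl⟩ := norm_lift π hπ h.two h.syl hg
    rw [he, mul_smul, h.ny n hn, h.ny t (le_normalizer ht)]
  · intro P hP hmv
    obtain ⟨R, hR, rfl⟩ := exists_minPar π hπ hP
    obtain ⟨h1, h2⟩ := h.uni R hR (by
      obtain ⟨_, ⟨r, hr, rfl⟩, hrx⟩ := hmv
      exact ⟨r, hr, hrx⟩)
    refine ⟨?_, ?_⟩
    · rintro _ ⟨r, hr, rfl⟩ w hw
      exact h1 r hr w hw
    · rintro _ ⟨r, hr, rfl⟩
      exact h2 r hr
  · intro B' hB' hB1' hne
    refine lt_of_le_of_ne (hno B' (hB'.trans hBA)) fun h1 => hne ?_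
    exact hmin B' ⟨hB'.trans hBA, hB1', h1.symm⟩ hB'

/-- THEOREM KL kills `Pre` -/
theorem Pre.false (hML : ML.Final.MLK.{u, v}) (hKL : NoInp.{u, v}) (h : Pre T A V x y) : False := by
  obtain ⟨H, _, _, _, T', A', hI⟩ := h.inp hML
  exact hKL H M T' A' V x y hI

end pre

end Cfsg.Agent.Omega.KL.Quo

end

section


/-!
# The END of `|Z| ≥ 8` (#22648 (3), #22713 (6), (7), split #22922): a minimal parabolic which moves one vector of `Z`
and fixes another one (helper699)

`T` fixes the subgroup `Z` of `M`, `N_H(T)` normalises `Z`, every `T`-minimal `P` has `|Z : C_Z(P)| ≤ c < |Z|`, `M` is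
faithful and irreducible, `T ≠ 1`.

* **`exists_mv`** : some `T`-minimal `P` moves some `x ∈ Z#` and fixes some `y ∈ Z#`;
* `exists_fixed` : every `T`-minimal `P` fixes some `y ∈ Z#`.
-/

set_option autoImplicit false

namespace Cfsg.Agent.Omega.KL.ZR

open Subgroup Cfsg Cfsg.Agent.ZN Cfsg.Agent.ClassTwoFusion.Quad Cfsg.Agent.Omega.ML.MinFrame
open Cfsg.Agent.MinSimple.MinParabolic (IsMinPar le_of_forall)

universe u v

variable {H : Type u} [Group H] {M : Type v} [Group M] [MulDistribMulAction H M] {T : Subgroup H} {Z : Subgroup M}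
  {c : ℕ}

/-- a subgroup of index `≤ c < |Z|` is non-trivial -/
theorem exists_fixed_of [Finite M] {X : Subgroup H} (par : (Z ⊓ cv M (X : Set H)).relIndex Z ≤ c)
    (Zc : c < Nat.card Z) : ∃ y ∈ Z, y ≠ 1 ∧ ∀ p ∈ X, p • y = y := by
  by_contra hc
  push Not at hc
  have h1 : Z ⊓ cv M (X : Set H) = ⊥ := by
    rw [eq_bot_iff]
    rintro y ⟨hy1, hy2⟩
    rw [mem_bot]
    by_contra hy3
    obtain ⟨p, hp, h2⟩ := hc y hy1 hy3
    exact h2 (hy2 p hp)
  rw [h1, relIndex_bot_left] at par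
  omega

/-- every `T`-minimal `P` fixes some `y ∈ Z#` -/
theorem exists_fixed [Finite M] (par : ∀ P : Subgroup H, IsMinPar T P → (Z ⊓ cv M (P : Set H)).relIndex Z ≤ c)
    (Zc : c < Nat.card Z) {P : Subgroup H} (hP : IsMinPar T P) : ∃ y ∈ Z, y ≠ 1 ∧ ∀ p ∈ P, p • y = y :=
  exists_fixed_of (par P hP) Zc

/-- the stabiliser of the set `Z` -/
def stZ (H : Type u) [Group H] {M : Type v} [Group M] [MulDistribMulAction H M] (Z : Subgroup M) : Subgroup H where
  carrier := {g | (∀ z ∈ Z, g • z ∈ Z) ∧ ∀ z ∈ Z, g⁻¹ • z ∈ Z}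
  one_mem' := ⟨fun z hz => by rwa [one_smul], fun z hz => by rwa [inv_one, one_smul]⟩
  mul_mem' := fun {a b} ha hb => ⟨fun z hz => by rw [mul_smul]; exact ha.1 _ (hb.1 z hz),
    fun z hz => by rw [mul_inv_rev, mul_smul]; exact hb.2 _ (ha.2 z hz)⟩
  inv_mem' := fun {a} ha => ⟨ha.2, fun z hz => by rw [inv_inv]; exact ha.1 z hz⟩

/-- **some `T`-minimal `P` moves some vector of `Z`** -/
theorem exists_mover [Finite H] (faith : ∀ h : H, (∀ m : M, h • m = m) → h = 1)
    (irr : ∀ W : Subgroup M, (∀ h : H, ∀ w ∈ W, h • w ∈ W) → W = ⊥ ∨ W = ⊤)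
    (TZ : ∀ t ∈ T, ∀ z ∈ Z, t • z = z) (nZ : ∀ g ∈ normalizer (T : Set H), ∀ z ∈ Z, g • z ∈ Z) (hZ : Z ≠ ⊥)
    (hT : T ≠ ⊥) : ∃ P : Subgroup H, IsMinPar T P ∧ ∃ x ∈ Z, ∃ p ∈ P, p • x ≠ x := by
  by_contra hc
  push Not at hc
  have h1 : (⊤ : Subgroup H) ≤ stZ H Z := by
    refine le_of_forall (S := T) le_top ?_ ?_
    · rintro g ⟨-, hg⟩
      exact ⟨nZ g hg, nZ g⁻¹ (inv_mem hg)⟩
    · intro P hP _ p hp
      refine ⟨fun z hz => ?_, fun z hz => ?_⟩
      · rw [hc P hP z hz p hp]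
        exact hz
      · rw [hc P hP z hz p⁻¹ (inv_mem hp)]
        exact hz
  rcases irr Z (fun h w hw => (h1 (mem_top h)).1 w hw) with h2 | h2
  · exact hZ h2
  · apply hT
    rw [eq_bot_iff]
    intro t ht
    rw [mem_bot]
    exact faith t fun m => TZ t ht m (h2 ▸ mem_top m)

/-- **some `T`-minimal `P` moves some `x ∈ Z#` and fixes some `y ∈ Z#`** -/
theorem exists_mv [Finite H] [Finite M] (faith : ∀ h : H, (∀ m : M, h • m = m) → h = 1)
    (irr : ∀ W : Subgroup M, (∀ h : H, ∀ w ∈ W, h • w ∈ W) → W = ⊥ ∨ W = ⊤)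
    (TZ : ∀ t ∈ T, ∀ z ∈ Z, t • z = z) (nZ : ∀ g ∈ normalizer (T : Set H), ∀ z ∈ Z, g • z ∈ Z)
    (par : ∀ P : Subgroup H, IsMinPar T P → (Z ⊓ cv M (P : Set H)).relIndex Z ≤ c) (Zc : c < Nat.card Z)
    (c2 : 2 ≤ c) (hT : T ≠ ⊥) :
    ∃ P : Subgroup H, IsMinPar T P ∧ ∃ x ∈ Z, ∃ y ∈ Z, x ≠ 1 ∧ y ≠ 1 ∧ (∃ p ∈ P, p • x ≠ x) ∧
      ∀ p ∈ P, p • y = y := by
  have hZ : Z ≠ ⊥ := by
    rintro rfl
    rw [card_bot] at Zc
    omega
  obtain ⟨P, hP, x, hx, p, hp, hpx⟩ := exists_mover faith irr TZ nZ hZ hT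
  obtain ⟨y, hy, hy1, hPy⟩ := exists_fixed par Zc hP
  refine ⟨P, hP, x, hx, y, hy, ?_, hy1, ⟨p, hp, hpx⟩, hPy⟩
  rintro rfl
  exact hpx (smul_one p)

end Cfsg.Agent.Omega.KL.ZR

end

section


/-!
# THEOREM KL, (2): the structure of `H` in `Sys` (helper969)

`H` has a minimal normal subgroup `E` which is not abelian, `H = ET`, `C_H(E) = 1`, and `T` is transitive on the set
`minSet E` of the simple factors of `E`.
-/

set_option autoImplicit false
set_option linter.unusedSectionVars false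

namespace Cfsg.Agent.Omega.KL.Str

open Subgroup Cfsg Cfsg.Agent.ZN Cfsg.Agent.ClassTwoFusion.Quad Cfsg.Agent.Omega.ML.MinFrame
open Cfsg.Agent.Omega.KL.Def Cfsg.Agent.Lib.MinNormalNonabelian
open Cfsg.Agent.MinSimple.MinParabolic (IsMinPar le_of_forall)
open Cfsg.Agent.MinSimple.VModule (o2_isPGroup o2_le le_o2 le_normalizer_o2)

universe u v

variable {H : Type u} [Group H] [Finite H] {M : Type v} [Group M] [MulDistribMulAction H M]
  {T A : Subgroup H} {V : Subgroup M} {x y : M}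

/-- a normal subgroup which fixes a non-trivial vector is trivial -/
theorem eq_bot_of_fix (hf : ∀ h : H, (∀ m : M, h • m = m) → h = 1)
    (hirr : ∀ W : Subgroup M, (∀ h : H, ∀ w ∈ W, h • w ∈ W) → W = ⊥ ∨ W = ⊤) {N : Subgroup H} (hN : N.Normal)
    {m : M} (hm : m ≠ 1) (h : ∀ n ∈ N, n • m = m) : N = ⊥ := by
  have h1 : cv M (N : Set H) = ⊤ := by
    rcases hirr (cv M (N : Set H)) (by
      intro g w hw n hn
      have h2 := hw (g⁻¹ * n * g) (by simpa using hN.conj_mem n hn g⁻¹)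
      calc n • g • w = g • ((g⁻¹ * n * g) • w) := by simp only [← mul_smul]; congr 1; group
        _ = g • w := by rw [h2]) with h2 | h2
    · exfalso
      have h3 : m ∈ cv M (N : Set H) := fun n hn => h n hn
      rw [h2, mem_bot] at h3
      exact hm h3
    · exact h2
  rw [eq_bot_iff]
  intro n hn
  rw [mem_bot]
  refine hf n fun w => ?_
  have h2 : w ∈ cv M (N : Set H) := h1 ▸ mem_top w
  exact h2 n hn

/-- the normaliser form of normality -/
theorem normal_of_sup {K T : Subgroup H} (h : K ⊔ T = ⊤) {N : Subgroup H} (hK : K ≤ normalizer (N : Set H))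
    (hT : T ≤ normalizer (N : Set H)) : N.Normal := by
  rw [← normalizer_eq_top_iff, eq_top_iff, ← h]
  exact sup_le hK hT

/-- `R = (R ∩ N) S` if `S ≤ R ≤ NS` -/
theorem dedekind {N S R : Subgroup H} (hN : N.Normal) (hSR : S ≤ R) (hR : R ≤ N ⊔ S) : R ⊓ N ⊔ S = R := by
  apply le_antisymm (sup_le inf_le_left hSR)
  intro r hr
  have h1 := hR hr
  rw [mem_sup_of_normal_left] at h1
  obtain ⟨n, hn, s, hs, rfl⟩ := h1
  refine mul_mem_sup ⟨?_, hn⟩ hs
  have := mul_mem hr (inv_mem (hSR hs))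
  rwa [mul_inv_cancel_right] at this

/-- `O₂(N) ≤ O₂(H)` for `N ⊴ H` -/
theorem le_o2_top {N Q : Subgroup H} (hN : N.Normal) (hQN : Q ≤ N) (hQ : IsPGroup 2 Q)
    (hn : N ≤ normalizer (Q : Set H)) : Q ≤ o2 (⊤ : Subgroup H) := by
  have h1 : Q ≤ o2 N := le_o2 hQN hQ hn
  refine h1.trans (le_o2 le_top (o2_isPGroup N) ?_)
  have h2 : normalizer (N : Set H) ≤ normalizer (o2 N : Set H) := by
    have h3 : (pCore 2 N).Characteristic := Lib.Cores.pCore_characteristic 2
    intro g hg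
    have h4 : ∀ g ∈ normalizer (N : Set H), ∀ z ∈ o2 N, g * z * g⁻¹ ∈ o2 N := by
      rintro g hg _ ⟨z, hz, rfl⟩
      let e : N ≃* N := MulAut.conjNormal (H := N) g
      have h5 := (characteristic_iff_map_eq.1 h3 e)
      have h6 : e z ∈ pCore 2 N := by
        rw [← h5]
        exact mem_map_of_mem _ hz
      exact ⟨e z, h6, by simp [e, MulAut.conjNormal_apply]⟩
    rw [mem_normalizer_iff]
    intro z
    refine ⟨h4 g hg z, fun hz => ?_⟩
    have h5 := h4 g⁻¹ (inv_mem hg) _ hz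
    have h6 : g⁻¹ * (g * z * g⁻¹) * g⁻¹⁻¹ = z := by group
    rwa [h6] at h5
  rw [normalizer_eq_top_iff.2 hN] at h2
  exact h2

namespace SysF

variable (h : Sys T A V x y)
include h

/-- `H` moves `x` -/
theorem moves : ∃ g : H, g • x ≠ x := by
  by_contra hc
  push Not at hc
  have h1 : orb (⊤ : Subgroup H) x ≤ zpowers x := orb_le fun g _ => by rw [hc g]; exact mem_zpowers x
  rw [h.gen] at h1
  have h2 : y ∈ zpowers x := h1 (mem_top y)
  obtain ⟨k, hk⟩ := mem_zpowers_iff.1 h2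
  have h3 : x ^ (2 : ℤ) = 1 := by rw [zpow_two, h.sq]
  rcases Int.even_or_odd' k with ⟨j, hj | hj⟩
  · apply h.y1
    rw [← hk, hj, zpow_mul, h3, one_zpow]
  · apply h.xy
    rw [← hk, hj, zpow_add, zpow_mul, h3, one_zpow, one_mul, zpow_one]

theorem o2_top : o2 (⊤ : Subgroup H) = ⊥ := by
  have h1 : o2 (⊤ : Subgroup H) ≤ T := by
    have h2 : T ≤ normalizer (o2 (⊤ : Subgroup H) : Set H) := le_top.trans (le_normalizer_o2 _)
    have h3 : IsPGroup 2 (o2 (⊤ : Subgroup H) ⊔ T : Subgroup H) :=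
      IsPGroup.to_sup_of_normal_left' (o2_isPGroup _) h.two h2
    have h4 := Subgroup.relIndex_mul_index (le_sup_right : T ≤ o2 (⊤ : Subgroup H) ⊔ T)
    have h5 : T.relIndex (o2 (⊤ : Subgroup H) ⊔ T) = 1 := by
      obtain ⟨n, hn⟩ := IsPGroup.iff_card.1 h3
      have h6 : T.relIndex (o2 (⊤ : Subgroup H) ⊔ T) ∣ 2 ^ n := by
        rw [← hn]
        exact relIndex_dvd_card _ _
      obtain ⟨k, -, hk⟩ := (Nat.dvd_prime_pow Nat.prime_two).1 h6
      rcases Nat.eq_zero_or_pos k with h7 | h7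
      · rw [hk, h7, pow_zero]
      · exfalso
        apply h.syl
        rw [← h4, hk]
        exact dvd_mul_of_dvd_left (dvd_pow_self 2 h7.ne') _
    exact le_sup_left.trans (relIndex_eq_one.1 h5)
  refine eq_bot_of_fix h.faith h.irr ?_ h.x1 fun n hn => h.toTwo.tx (h1 hn)
  rw [← normalizer_eq_top_iff, eq_top_iff]
  exact le_normalizer_o2 _

/-- a normal subgroup has no normal 2-subgroup -/
theorem bot_of_norm {N Q : Subgroup H} (hN : N.Normal) (hQN : Q ≤ N) (hQ : IsPGroup 2 Q)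
    (hn : N ≤ normalizer (Q : Set H)) : Q = ⊥ := by
  have h1 := le_o2_top hN hQN hQ hn
  rw [o2_top h] at h1
  exact le_bot_iff.1 h1

theorem comm_sub {N : Subgroup H} (hN : N.Normal) (hA : A ≤ centralizer (N : Set H)) :
    N ≤ centralizer (normalClosure (A : Set H) : Set H) := by
  have h1 : normalClosure (A : Set H) ≤ centralizer (N : Set H) := by
    have : (centralizer (N : Set H)).Normal := inferInstance
    exact normalClosure_le_normal hA
  intro n hn
  rw [mem_centralizer_iff]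
  intro k hk
  exact (mem_centralizer_iff.1 (h1 hk) n hn).symm

/-- `[N, A] = 1` if `NT < H` -/
theorem comm_of_ne {N : Subgroup H} (hN : N.Normal) (hne : N ⊔ T ≠ ⊤) : A ≤ centralizer (N : Set H) := by
  have h1 := h.low (N ⊔ T) le_sup_right hne
  have h2 : N ⊓ o2 (N ⊔ T) = ⊥ := by
    refine bot_of_norm h hN inf_le_left ((o2_isPGroup _).to_le inf_le_right) ?_
    intro n hn
    have h3 := le_normalizer_o2 (N ⊔ T) (mem_sup_left hn)
    rw [mem_normalizer_iff] at h3 ⊢
    intro z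
    constructor
    · rintro ⟨hz1, hz2⟩
      exact ⟨hN.conj_mem z hz1 n, (h3 z).1 hz2⟩
    · rintro ⟨hz1, hz2⟩
      refine ⟨?_, (h3 z).2 hz2⟩
      have := hN.conj_mem _ hz1 n⁻¹
      have h6 : n⁻¹ * (n * z * n⁻¹) * n⁻¹⁻¹ = z := by group
      rwa [h6] at this
  intro a ha
  rw [mem_centralizer_iff]
  intro n hn
  have h3 : n * a * n⁻¹ * a⁻¹ ∈ N ⊓ o2 (N ⊔ T) := by
    constructor
    · have h4 : a * n⁻¹ * a⁻¹ ∈ N := hN.conj_mem _ (inv_mem hn) a
      have h5 : n * a * n⁻¹ * a⁻¹ = n * (a * n⁻¹ * a⁻¹) := by group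
      rw [h5]
      exact N.mul_mem hn h4
    · exact (o2 (N ⊔ T)).mul_mem ((mem_normalizer_iff.1 (le_normalizer_o2 (N ⊔ T) (mem_sup_left hn)) a).1 (h1 ha))
        ((o2 (N ⊔ T)).inv_mem (h1 ha))
  rw [h2, mem_bot] at h3
  have h4 : n * a = (n * a * n⁻¹ * a⁻¹) * (a * n) := by group
  rw [h4, h3, one_mul]

/-- `H = K₀T` -/
theorem sup_closure : normalClosure (A : Set H) ⊔ T = ⊤ := by
  by_contra hne
  have h1 : A ≤ centralizer (normalClosure (A : Set H) : Set H) := comm_of_ne h inferInstance hne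
  have h2 := h.low _ le_sup_right hne
  have h3 : normalClosure (A : Set H) ⊓ o2 (normalClosure (A : Set H) ⊔ T) = ⊥ := by
    refine bot_of_norm h inferInstance inf_le_left ((o2_isPGroup _).to_le inf_le_right) ?_
    intro n hn
    have h3 := le_normalizer_o2 (normalClosure (A : Set H) ⊔ T) (mem_sup_left hn)
    rw [mem_normalizer_iff] at h3 ⊢
    intro z
    have hN : (normalClosure (A : Set H)).Normal := inferInstance
    constructor
    · rintro ⟨hz1, hz2⟩
      exact ⟨hN.conj_mem z hz1 n, (h3 z).1 hz2⟩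
    · rintro ⟨hz1, hz2⟩
      refine ⟨?_, (h3 z).2 hz2⟩
      have := hN.conj_mem _ hz1 n⁻¹
      have h6 : n⁻¹ * (n * z * n⁻¹) * n⁻¹⁻¹ = z := by group
      rwa [h6] at this
  apply h.A1
  rw [eq_bot_iff, ← h3]
  exact le_inf subset_normalClosure h2

/-- a minimal normal subgroup not centralised by `K₀` -/
theorem exists_E : ∃ E : Subgroup H, E.Normal ∧ E ⊔ T = ⊤ ∧ ¬ A ≤ centralizer (E : Set H) ∧
    ∀ N : Subgroup H, N.Normal → N ≤ E → N = ⊥ ∨ N = E := by
  classical
  -- the smallest normal subgroup not centralised by `A`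
  have hex : ∃ n : ℕ, ∃ E : Subgroup H, E.Normal ∧ ¬ A ≤ centralizer (E : Set H) ∧ Nat.card E = n := by
    refine ⟨_, ⊤, inferInstance, ?_, rfl⟩
    intro h1
    apply h.A1
    have h2 : A ≤ o2 (⊤ : Subgroup H) := by
      refine le_o2 le_top (h.two.to_le h.AT) ?_
      intro g _
      rw [mem_normalizer_iff]
      intro z
      have h3 : ∀ z ∈ A, g * z * g⁻¹ = z := fun z hz => by
        rw [mem_centralizer_iff.1 (h1 hz) g (mem_top g), mul_inv_cancel_right]
      constructor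
      · intro hz
        rwa [h3 z hz]
      · intro hz
        have h4 : g * (g * z * g⁻¹) * g⁻¹ = g * z * g⁻¹ := h3 _ hz
        have h5 : g * z * g⁻¹ = z := by
          have h6 := congrArg (fun w => g⁻¹ * w * g) h4
          simpa [mul_assoc] using h6
        rwa [h5] at hz
    rw [o2_top h] at h2
    exact le_bot_iff.1 h2
  obtain ⟨E, hE, hEA, hEn⟩ := Nat.find_spec hex
  have hmin : ∀ N : Subgroup H, N.Normal → N ≤ E → N ≠ E → A ≤ centralizer (N : Set H) := by
    intro N hN hNE hne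
    by_contra hc
    have h1 := Nat.find_min' hex ⟨N, hN, hc, rfl⟩
    rw [← hEn] at h1
    exact hne (eq_of_le_of_card_ge hNE h1)
  have hET : E ⊔ T = ⊤ := by
    by_contra hne
    exact hEA (comm_of_ne h hE hne)
  -- `Z = C_E(K₀)` is trivial
  set K := normalClosure (A : Set H) with hK
  have hKn : K.Normal := inferInstance
  have hZn : (E ⊓ centralizer (K : Set H)).Normal := inferInstance
  have hZ : E ⊓ centralizer (K : Set H) = ⊥ := by
    by_cases hfix : ∀ n ∈ E ⊓ centralizer (K : Set H), n • x = x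
    · exact eq_bot_of_fix h.faith h.irr hZn h.x1 hfix
    exfalso
    push Not at hfix
    obtain ⟨n, hn, hnx⟩ := hfix
    have h1 : ∃ P : Subgroup H, IsMinPar T P ∧ P ≤ (E ⊓ centralizer (K : Set H)) ⊔ T ∧
        ¬ P ≤ MulAction.stabilizer H x := by
      by_contra hc
      push Not at hc
      have h2 : (E ⊓ centralizer (K : Set H)) ⊔ T ≤ MulAction.stabilizer H x :=
        le_of_forall le_sup_right (fun g hg => MulAction.mem_stabilizer_iff.2 (h.nx g hg.2)) hc
      exact hnx (MulAction.mem_stabilizer_iff.1 (h2 (mem_sup_left hn)))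
    obtain ⟨P, hP, hPZ, hPx⟩ := h1
    have h2 : ∃ p ∈ P, p • x ≠ x := by
      by_contra hc
      push Not at hc
      exact hPx fun p hp => MulAction.mem_stabilizer_iff.2 (hc p hp)
    have h3 := (h.uni P hP h2).2
    have h4 := dedekind hZn hP.le hPZ
    have h5 : (P ⊓ (E ⊓ centralizer (K : Set H))).Normal := by
      refine normal_of_sup (sup_closure h) ?_ ?_
      · intro k hk
        rw [mem_normalizer_iff]
        intro z
        have h6 : ∀ z ∈ centralizer (K : Set H), k * z * k⁻¹ = z := fun z hz => by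
          rw [mem_centralizer_iff.1 hz k hk, mul_inv_cancel_right]
        constructor
        · rintro ⟨hz1, hz2, hz3⟩
          rw [h6 z hz3]
          exact ⟨hz1, hz2, hz3⟩
        · rintro ⟨hz1, hz2, hz3⟩
          have h7 : k * (k * z * k⁻¹) * k⁻¹ = k * z * k⁻¹ := h6 _ hz3
          have h8 : k * z * k⁻¹ = z := by
            have h9 := congrArg (fun w => k⁻¹ * w * k) h7
            simpa [mul_assoc] using h9
          rw [h8] at hz1 hz2 hz3
          exact ⟨hz1, hz2, hz3⟩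
      · intro t ht
        rw [mem_normalizer_iff]
        intro z
        constructor
        · rintro ⟨hz1, hz2⟩
          exact ⟨P.mul_mem (P.mul_mem (hP.le ht) hz1) (P.inv_mem (hP.le ht)), hZn.conj_mem z hz2 t⟩
        · rintro ⟨hz1, hz2⟩
          have h7 : t⁻¹ * (t * z * t⁻¹) * t⁻¹⁻¹ = z := by group
          refine ⟨?_, ?_⟩
          · rw [← h7]
            exact P.mul_mem (P.mul_mem (P.inv_mem (hP.le ht)) hz1) (P.inv_mem (P.inv_mem (hP.le ht)))
          · rw [← h7]
            exact hZn.conj_mem _ hz2 t⁻¹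
    have h6 : P ⊓ (E ⊓ centralizer (K : Set H)) = ⊥ :=
      eq_bot_of_fix h.faith h.irr h5 h.y1 fun n hn => h3 n hn.1
    rw [h6, bot_sup_eq] at h4
    exact hP.ne h4
  refine ⟨E, hE, hET, hEA, fun N hN hNE => ?_⟩
  by_cases hne : N = E
  · exact Or.inr hne
  · left
    rw [eq_bot_iff, ← hZ]
    exact le_inf hNE (comm_sub h hN (hmin N hN hNE hne))

/-- a minimal normal supplement of `T` is not abelian -/
theorem not_comm {E : Subgroup H} (hE : E.Normal) (hET : E ⊔ T = ⊤) (hEA : ¬ A ≤ centralizer (E : Set H))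
    (hmin : ∀ N : Subgroup H, N.Normal → N ≤ E → N = ⊥ ∨ N = E) : ¬ ∀ a ∈ E, ∀ b ∈ E, Commute a b := by
  intro hab
  have hE1 : E ≠ ⊥ := by
    rintro rfl
    apply hEA
    intro a _
    rw [mem_centralizer_iff]
    intro n hn
    rw [coe_bot, Set.mem_singleton_iff] at hn
    rw [hn, one_mul, mul_one]
  obtain ⟨p, hp, hpE, -⟩ := abelian_structure E hE1 hmin hab
  have hp2 : p ≠ 2 := by
    rintro rfl
    exact hE1 (bot_of_norm h hE le_rfl hpE le_normalizer)
  have : Fact p.Prime := ⟨hp⟩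
  have htriv : ∀ z : H, z ∈ E → ∀ Q : Subgroup H, IsPGroup 2 Q → z ∈ Q → z = 1 := by
    intro z hz Q hQ hzQ
    have h1 : Disjoint E Q := IsPGroup.disjoint_of_ne _ _ hp2 _ _ hpE hQ
    have h2 : z ∈ E ⊓ Q := ⟨hz, hzQ⟩
    rw [disjoint_iff.1 h1, mem_bot] at h2
    exact h2
  -- the subgroup `D` of `E` centralised by all `T`-conjugates of `A`
  let D : Subgroup H := E ⊓ centralizer {z : H | ∃ t ∈ T, ∃ a ∈ A, z = t * a * t⁻¹}
  have hDT : ∀ s ∈ T, ∀ d ∈ D, s * d * s⁻¹ ∈ D := by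
    intro s hs d hd
    refine ⟨hE.conj_mem d hd.1 s, mem_centralizer_iff.2 ?_⟩
    rintro _ ⟨t, ht, a, ha, rfl⟩
    have h1 := mem_centralizer_iff.1 hd.2 _ ⟨s⁻¹ * t, mul_mem (inv_mem hs) ht, a, ha, rfl⟩
    have h2 := congrArg (fun w => s * w * s⁻¹) h1
    simp only [mul_inv_rev, inv_inv] at h2
    calc t * a * t⁻¹ * (s * d * s⁻¹) = s * (s⁻¹ * t * a * (t⁻¹ * s) * d) * s⁻¹ := by group
      _ = s * (d * (s⁻¹ * t * a * (t⁻¹ * s))) * s⁻¹ := h2
      _ = s * d * s⁻¹ * (t * a * t⁻¹) := by group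
  have hDn : T ≤ normalizer (D : Set H) := by
    intro s hs
    rw [mem_normalizer_iff]
    intro z
    refine ⟨hDT s hs z, fun hz => ?_⟩
    have h1 := hDT s⁻¹ (inv_mem hs) _ hz
    have h2 : s⁻¹ * (s * z * s⁻¹) * s⁻¹⁻¹ = z := by group
    rwa [h2] at h1
  refine h.nmax ⟨D ⊔ T, ?_, ?_⟩
  · intro htop
    apply hEA
    intro a ha
    rw [mem_centralizer_iff]
    intro e he
    have h1 : e ∈ D ⊔ T := htop ▸ mem_top e
    have h2 : e ∈ ((D ⊔ T : Subgroup H) : Set H) := h1
    rw [coe_mul_of_right_le_normalizer_left D T hDn] at h2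
    obtain ⟨d, hd, t, ht, rfl⟩ := h2
    have h3 : t ∈ E := by
      have := E.mul_mem (E.inv_mem hd.1) he
      simpa using this
    have h4 : t = 1 := htriv t h3 T h.two ht
    rw [h4]
    simp only [mul_one]
    have h5 := mem_centralizer_iff.1 hd.2 a ⟨1, one_mem T, a, ha, by group⟩
    exact h5.symm
  · intro R hTR hR
    have h1 : R ⊓ E ⊔ T = R := dedekind hE hTR (by rw [hET]; exact le_top)
    rw [← h1]
    refine sup_le_sup_right ?_ T
    intro e he
    refine ⟨he.2, mem_centralizer_iff.2 ?_⟩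
    rintro _ ⟨t, ht, a, ha, rfl⟩
    have h2 := h.low R hTR hR ha
    have h3 : t * a * t⁻¹ ∈ o2 R := (mem_normalizer_iff.1 (le_normalizer_o2 R (hTR ht)) a).1 h2
    set b := t * a * t⁻¹ with hb
    have h4 : e * b * e⁻¹ ∈ o2 R := (mem_normalizer_iff.1 (le_normalizer_o2 R he.1) b).1 h3
    have h5 : e * b * e⁻¹ * b⁻¹ = 1 := by
      refine htriv _ ?_ (o2 R) (o2_isPGroup R) (mul_mem h4 (inv_mem h3))
      have h6 : b * e⁻¹ * b⁻¹ ∈ E := hE.conj_mem _ (inv_mem he.2) b
      have h7 : e * b * e⁻¹ * b⁻¹ = e * (b * e⁻¹ * b⁻¹) := by group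
      rw [h7]
      exact mul_mem he.2 h6
    have h6 : e * b = (e * b * e⁻¹ * b⁻¹) * (b * e) := by group
    rw [h6, h5, one_mul]

theorem centralizer_eq {E : Subgroup H} (hE : E.Normal) (hET : E ⊔ T = ⊤)
    (hmin : ∀ N : Subgroup H, N.Normal → N ≤ E → N = ⊥ ∨ N = E)
    (hna : ¬ ∀ a ∈ E, ∀ b ∈ E, Commute a b) : centralizer (E : Set H) = ⊥ := by
  have h1 : E ⊓ centralizer (E : Set H) = ⊥ := by
    rcases hmin (E ⊓ centralizer (E : Set H)) inferInstance inf_le_left with h1 | h1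
    · exact h1
    · exfalso
      apply hna
      intro a ha b hb
      have h2 : b ∈ E ⊓ centralizer (E : Set H) := by rw [h1]; exact hb
      exact mem_centralizer_iff.1 h2.2 a ha
  have hCn : (centralizer (E : Set H)).Normal := inferInstance
  refine bot_of_norm h hCn le_rfl ?_ le_normalizer
  -- `C_H(E)` embeds in `H / E`, an image of `T`
  let f : centralizer (E : Set H) →* H ⧸ E := (QuotientGroup.mk' E).comp (centralizer (E : Set H)).subtype
  have hf : Function.Injective f := by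
    rw [injective_iff_map_eq_one]
    intro c hc
    have h2 : (c : H) ∈ E := (QuotientGroup.eq_one_iff (c : H)).1 hc
    have h3 : (c : H) ∈ E ⊓ centralizer (E : Set H) := ⟨h2, c.2⟩
    rw [h1, mem_bot] at h3
    exact Subtype.ext h3
  have h2 : IsPGroup 2 (H ⧸ E) := by
    have h3 : Function.Surjective ((QuotientGroup.mk' E).comp T.subtype) := by
      intro q
      obtain ⟨g, rfl⟩ := QuotientGroup.mk'_surjective E q
      have h4 : g ∈ E ⊔ T := hET ▸ mem_top g
      rw [mem_sup_of_normal_left] at h4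
      obtain ⟨e, he, t, ht, rfl⟩ := h4
      refine ⟨⟨t, ht⟩, ?_⟩
      change (t : H ⧸ E) = ((e * t : H) : H ⧸ E)
      rw [QuotientGroup.eq]
      have : t⁻¹ * (e * t) = t⁻¹ * e * t⁻¹⁻¹ := by group
      rw [this]
      exact hE.conj_mem e he t⁻¹
    exact h.two.of_surjective _ h3
  exact h2.of_injective f hf

end SysF

/-- **the structure of `H`** -/
theorem exists_structure (h : Sys T A V x y) : ∃ E : Subgroup H, E.Normal ∧ E ⊔ T = ⊤ ∧
    centralizer (E : Set H) = ⊥ ∧ (∀ N : Subgroup H, N.Normal → N ≤ E → N = ⊥ ∨ N = E) ∧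
    (¬ ∀ a ∈ E, ∀ b ∈ E, Commute a b) ∧
    (minSet E).Nonempty ∧ sSupIndep (minSet E) ∧ sSup (minSet E) = E ∧ (∀ L ∈ minSet E, IsSimpleGroup L) ∧
    (∀ L ∈ minSet E, ∀ z ∈ L, (∀ t ∈ L, Commute z t) → z = 1) ∧
    (∀ S ∈ minSet E, ∀ L ∈ minSet E, ∃ t ∈ T, L = S.map (MulAut.conj t).toMonoidHom) := by
  obtain ⟨E, hE, hET, hEA, hmin⟩ := SysF.exists_E h
  have hna := SysF.not_comm h hE hET hEA hmin
  obtain ⟨h1, h2, h3, h4, h5, h6⟩ := nonabelian_structure E hmin hna
  refine ⟨E, hE, hET, SysF.centralizer_eq h hE hET hmin hna, hmin, hna, h1, h2, h3, h4, h5, ?_⟩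
  intro S hS L hL
  obtain ⟨g, rfl⟩ := h6 S hS L hL
  have h7 : g ∈ T ⊔ E := by rw [sup_comm, hET]; exact mem_top g
  rw [mem_sup_of_normal_right] at h7
  obtain ⟨t, ht, e, he, rfl⟩ := h7
  refine ⟨t, ht, ?_⟩
  have h8 : S.map (MulAut.conj e).toMonoidHom = S := by
    have h9 := hS.2.2.1 he
    ext z
    constructor
    · rintro ⟨w, hw, rfl⟩
      exact (mem_normalizer_iff.1 h9 w).1 hw
    · intro hz
      refine ⟨e⁻¹ * z * e, ?_, ?_⟩
      · have h10 := (mem_normalizer_iff.1 (inv_mem h9) z).1 hz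
        simpa using h10
      · change e * (e⁻¹ * z * e) * e⁻¹ = z
        group
  rw [map_mul]
  change S.map ((MulAut.conj t).toMonoidHom.comp (MulAut.conj e).toMonoidHom) = _
  rw [← Subgroup.map_map, h8]

end Cfsg.Agent.Omega.KL.Str

end

section


/-!
# The END of `|Z| ≥ 8`: the structure of `H` in `ZSys 2` (helper550, after helper969's Omega/KL/Str and helper976)

`H` has a minimal normal subgroup `E` which is not abelian, `H = ET`, `C_H(E) = 1`, and `T` is transitive on the set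
`minSet E` of the simple factors of `E`.

New here: `central_bot` : `E ∩ C(⟨A^H⟩) = 1`.
-/

set_option autoImplicit false
set_option linter.unusedSectionVars false

namespace Cfsg.Agent.Omega.KL.ZR.Str

open Subgroup Cfsg Cfsg.Agent.ZN Cfsg.Agent.ClassTwoFusion.Quad Cfsg.Agent.Omega.ML.MinFrame
open Cfsg.Agent.Omega.KL.Str Cfsg.Agent.Lib.MinNormalNonabelian
open Cfsg.Agent.MinSimple.MinParabolic (IsMinPar le_of_forall)
open Cfsg.Agent.MinSimple.VModule (o2_isPGroup o2_le le_o2 le_normalizer_o2)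

universe u v

variable {H : Type u} [Group H] [Finite H] {M : Type v} [Group M] [MulDistribMulAction H M]
  {T A : Subgroup H} {Z : Subgroup M} {c : ℕ}

namespace SysF

variable (h : ZSys c T A Z)
include h

/-- a non-trivial vector of `Z` -/
theorem exists_z : ∃ z ∈ Z, z ≠ 1 := by
  by_contra hc
  push Not at hc
  have h1 : Z = ⊥ := (eq_bot_iff_forall Z).2 hc
  have h2 := h.Z4
  rw [h1, card_bot] at h2
  omega

theorem o2_top : o2 (⊤ : Subgroup H) = ⊥ := by
  have h1 : o2 (⊤ : Subgroup H) ≤ T := by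
    have h2 : T ≤ normalizer (o2 (⊤ : Subgroup H) : Set H) := le_top.trans (le_normalizer_o2 _)
    have h3 : IsPGroup 2 (o2 (⊤ : Subgroup H) ⊔ T : Subgroup H) :=
      IsPGroup.to_sup_of_normal_left' (o2_isPGroup _) h.two h2
    have h4 := Subgroup.relIndex_mul_index (le_sup_right : T ≤ o2 (⊤ : Subgroup H) ⊔ T)
    have h5 : T.relIndex (o2 (⊤ : Subgroup H) ⊔ T) = 1 := by
      obtain ⟨n, hn⟩ := IsPGroup.iff_card.1 h3
      have h6 : T.relIndex (o2 (⊤ : Subgroup H) ⊔ T) ∣ 2 ^ n := by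
        rw [← hn]
        exact relIndex_dvd_card _ _
      obtain ⟨k, -, hk⟩ := (Nat.dvd_prime_pow Nat.prime_two).1 h6
      rcases Nat.eq_zero_or_pos k with h7 | h7
      · rw [hk, h7, pow_zero]
      · exfalso
        apply h.syl
        rw [← h4, hk]
        exact dvd_mul_of_dvd_left (dvd_pow_self 2 h7.ne') _
    exact le_sup_left.trans (relIndex_eq_one.1 h5)
  obtain ⟨z, hz, hz1⟩ := exists_z h
  refine eq_bot_of_fix h.faith h.irr ?_ hz1 fun n hn => h.TZ n (h1 hn) z hz
  rw [← normalizer_eq_top_iff, eq_top_iff]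
  exact le_normalizer_o2 _

/-- a normal subgroup has no normal 2-subgroup -/
theorem bot_of_norm {N Q : Subgroup H} (hN : N.Normal) (hQN : Q ≤ N) (hQ : IsPGroup 2 Q)
    (hn : N ≤ normalizer (Q : Set H)) : Q = ⊥ := by
  have h1 := le_o2_top hN hQN hQ hn
  rw [o2_top h] at h1
  exact le_bot_iff.1 h1

theorem comm_sub {N : Subgroup H} (hN : N.Normal) (hA : A ≤ centralizer (N : Set H)) :
    N ≤ centralizer (normalClosure (A : Set H) : Set H) := by
  have h1 : normalClosure (A : Set H) ≤ centralizer (N : Set H) := by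
    have : (centralizer (N : Set H)).Normal := inferInstance
    exact normalClosure_le_normal hA
  intro n hn
  rw [mem_centralizer_iff]
  intro k hk
  exact (mem_centralizer_iff.1 (h1 hk) n hn).symm

/-- `[N, A] = 1` if `NT < H` -/
theorem comm_of_ne {N : Subgroup H} (hN : N.Normal) (hne : N ⊔ T ≠ ⊤) : A ≤ centralizer (N : Set H) := by
  have h1 := h.low (N ⊔ T) le_sup_right hne
  have h2 : N ⊓ o2 (N ⊔ T) = ⊥ := by
    refine bot_of_norm h hN inf_le_left ((o2_isPGroup _).to_le inf_le_right) ?_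
    intro n hn
    have h3 := le_normalizer_o2 (N ⊔ T) (mem_sup_left hn)
    rw [mem_normalizer_iff] at h3 ⊢
    intro z
    constructor
    · rintro ⟨hz1, hz2⟩
      exact ⟨hN.conj_mem z hz1 n, (h3 z).1 hz2⟩
    · rintro ⟨hz1, hz2⟩
      refine ⟨?_, (h3 z).2 hz2⟩
      have := hN.conj_mem _ hz1 n⁻¹
      have h6 : n⁻¹ * (n * z * n⁻¹) * n⁻¹⁻¹ = z := by group
      rwa [h6] at this
  intro a ha
  rw [mem_centralizer_iff]
  intro n hn
  have h3 : n * a * n⁻¹ * a⁻¹ ∈ N ⊓ o2 (N ⊔ T) := by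
    constructor
    · have h4 : a * n⁻¹ * a⁻¹ ∈ N := hN.conj_mem _ (inv_mem hn) a
      have h5 : n * a * n⁻¹ * a⁻¹ = n * (a * n⁻¹ * a⁻¹) := by group
      rw [h5]
      exact N.mul_mem hn h4
    · exact (o2 (N ⊔ T)).mul_mem ((mem_normalizer_iff.1 (le_normalizer_o2 (N ⊔ T) (mem_sup_left hn)) a).1 (h1 ha))
        ((o2 (N ⊔ T)).inv_mem (h1 ha))
  rw [h2, mem_bot] at h3
  have h4 : n * a = (n * a * n⁻¹ * a⁻¹) * (a * n) := by group
  rw [h4, h3, one_mul]

/-- `H = K₀T` -/
theorem sup_closure : normalClosure (A : Set H) ⊔ T = ⊤ := by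
  by_contra hne
  have h1 : A ≤ centralizer (normalClosure (A : Set H) : Set H) := comm_of_ne h inferInstance hne
  have h2 := h.low _ le_sup_right hne
  have h3 : normalClosure (A : Set H) ⊓ o2 (normalClosure (A : Set H) ⊔ T) = ⊥ := by
    refine bot_of_norm h inferInstance inf_le_left ((o2_isPGroup _).to_le inf_le_right) ?_
    intro n hn
    have h3 := le_normalizer_o2 (normalClosure (A : Set H) ⊔ T) (mem_sup_left hn)
    rw [mem_normalizer_iff] at h3 ⊢
    intro z
    have hN : (normalClosure (A : Set H)).Normal := inferInstance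
    constructor
    · rintro ⟨hz1, hz2⟩
      exact ⟨hN.conj_mem z hz1 n, (h3 z).1 hz2⟩
    · rintro ⟨hz1, hz2⟩
      refine ⟨?_, (h3 z).2 hz2⟩
      have := hN.conj_mem _ hz1 n⁻¹
      have h6 : n⁻¹ * (n * z * n⁻¹) * n⁻¹⁻¹ = z := by group
      rwa [h6] at this
  apply h.A1
  rw [eq_bot_iff, ← h3]
  exact le_inf subset_normalClosure h2

/-- a normal subgroup of `E` centralised by `K₀ = ⟨A^H⟩` (`H = K₀T`) -/
theorem inf_normal {C P : Subgroup H} (hC : C.Normal) (hCK : C ≤ centralizer (normalClosure (A : Set H) : Set H))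
    (hTP : T ≤ P) : (P ⊓ C).Normal := by
  refine normal_of_sup (sup_closure h) ?_ ?_
  · intro k hk
    rw [mem_normalizer_iff]
    intro z
    have h6 : ∀ z ∈ C, k * z * k⁻¹ = z := fun z hz => by
      rw [mem_centralizer_iff.1 (hCK hz) k hk, mul_inv_cancel_right]
    constructor
    · rintro ⟨hz1, hz2⟩
      rw [h6 z hz2]
      exact ⟨hz1, hz2⟩
    · rintro ⟨hz1, hz2⟩
      have h7 : k * (k * z * k⁻¹) * k⁻¹ = k * z * k⁻¹ := h6 _ hz2
      have h8 : k * z * k⁻¹ = z := by
        have h9 := congrArg (fun w => k⁻¹ * w * k) h7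
        simpa [mul_assoc] using h9
      rw [h8] at hz1 hz2
      exact ⟨hz1, hz2⟩
  · intro t ht
    rw [mem_normalizer_iff]
    intro z
    constructor
    · rintro ⟨hz1, hz2⟩
      exact ⟨P.mul_mem (P.mul_mem (hTP ht) hz1) (P.inv_mem (hTP ht)), hC.conj_mem z hz2 t⟩
    · rintro ⟨hz1, hz2⟩
      have h7 : t⁻¹ * (t * z * t⁻¹) * t⁻¹⁻¹ = z := by group
      refine ⟨?_, ?_⟩
      · rw [← h7]
        exact P.mul_mem (P.mul_mem (P.inv_mem (hTP ht)) hz1) (P.inv_mem (P.inv_mem (hTP ht)))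
      · rw [← h7]
        exact hC.conj_mem _ hz2 t⁻¹

/-- a normal subgroup which is centralised by `K₀` is central -/
theorem central_of {C : Subgroup H} (hC : C.Normal) (hCK : C ≤ centralizer (normalClosure (A : Set H) : Set H)) :
    C ≤ normalizer (T : Set H) ∧ ∀ c ∈ C, ∀ g : H, g * c = c * g := by
  have hno : ∀ P : Subgroup H, IsMinPar T P → ¬ P ≤ C ⊔ T := by
    intro P hP hPC
    have h4 := dedekind hC hP.le hPC
    obtain ⟨m, -, hm1, hm2⟩ := h.fix P hP
    have h6 : P ⊓ C = ⊥ := eq_bot_of_fix h.faith h.irr (inf_normal h hC hCK hP.le) hm1 fun n hn => hm2 n hn.1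
    rw [h6, bot_sup_eq] at h4
    exact hP.ne h4
  have hN : C ⊔ T ≤ normalizer (T : Set H) :=
    le_of_forall le_sup_right inf_le_right fun P hP hPC => absurd hPC (hno P hP)
  have hCN : C ≤ normalizer (T : Set H) := le_sup_left.trans hN
  have hCT : C ⊓ T = ⊥ := by
    refine bot_of_norm h hC inf_le_left (h.two.to_le inf_le_right) ?_
    intro n hn
    have h3 := hCN hn
    rw [mem_normalizer_iff] at h3 ⊢
    intro z
    constructor
    · rintro ⟨hz1, hz2⟩
      exact ⟨hC.conj_mem z hz1 n, (h3 z).1 hz2⟩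
    · rintro ⟨hz1, hz2⟩
      refine ⟨?_, (h3 z).2 hz2⟩
      have := hC.conj_mem _ hz1 n⁻¹
      have h6 : n⁻¹ * (n * z * n⁻¹) * n⁻¹⁻¹ = z := by group
      rwa [h6] at this
  refine ⟨hCN, fun c hc g => ?_⟩
  have h1 : normalClosure (A : Set H) ⊔ T ≤ centralizer {c} := by
    refine sup_le ?_ ?_
    · intro k hk
      rw [mem_centralizer_singleton_iff]
      exact mem_centralizer_iff.1 (hCK hc) k hk
    · intro t ht
      rw [mem_centralizer_singleton_iff]
      have h3 : c * t * c⁻¹ * t⁻¹ ∈ C ⊓ T := by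
        constructor
        · have h4 : t * c⁻¹ * t⁻¹ ∈ C := hC.conj_mem _ (inv_mem hc) t
          have h5 : c * t * c⁻¹ * t⁻¹ = c * (t * c⁻¹ * t⁻¹) := by group
          rw [h5]
          exact C.mul_mem hc h4
        · exact T.mul_mem ((mem_normalizer_iff.1 (hCN hc) t).1 ht) (T.inv_mem ht)
      rw [hCT, mem_bot] at h3
      have h4 : c * t = (c * t * c⁻¹ * t⁻¹) * (t * c) := by group
      rw [h4, h3, one_mul]
  rw [sup_closure h] at h1
  exact mem_centralizer_singleton_iff.1 (h1 (mem_top g))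

end SysF

/-- **`Z(E) = 1`** : a normal subgroup which is centralised by `⟨A^H⟩` is trivial (`c = 2`) -/
theorem central_bot (h : ZSys 2 T A Z) {C : Subgroup H} (hC : C.Normal)
    (hCK : C ≤ centralizer (normalClosure (A : Set H) : Set H)) : C = ⊥ := by
  obtain ⟨hCN, hcen⟩ := SysF.central_of h hC hCK
  rw [eq_bot_iff_forall]
  intro c hc
  by_contra hc1
  have hfinZ : Finite Z := Nat.finite_of_card_ne_zero (by have := h.Z4; omega)
  -- `c` is fixed point free
  have hfpf : ∀ m : M, c • m = m → m = 1 := by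
    intro m hm
    by_contra hm1
    have h1 : (zpowers c).Normal := ⟨by
      intro n hn g
      obtain ⟨k, rfl⟩ := mem_zpowers_iff.1 hn
      have h2 : g * c ^ k * g⁻¹ = c ^ k := by
        have h3 : g * c ^ k = c ^ k * g := by
          have h4 : Commute g c := hcen c hc g
          exact h4.zpow_right k
        rw [h3, mul_inv_cancel_right]
      rw [h2]
      exact hn⟩
    have h2 : zpowers c = ⊥ := by
      refine eq_bot_of_fix h.faith h.irr h1 hm1 fun n hn => ?_
      have h3 : zpowers c ≤ MulAction.stabilizer H m := by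
        rw [zpowers_le]
        exact hm
      exact h3 hn
    exact hc1 (zpowers_eq_bot.1 h2)
  have hcZ : ∀ z ∈ Z, c • z ∈ Z := fun z hz => h.nZ c (hCN hc) z hz
  -- `z ↦ (c - 1) z` is surjective on `Z`
  have hcomm := comm_of_sq h.sq
  let f : Z → Z := fun z => ⟨c • (z : M) * (z : M)⁻¹, Z.mul_mem (hcZ z z.2) (Z.inv_mem z.2)⟩
  have hf : Function.Injective f := by
    intro z w hzw
    have h1 : c • (z : M) * (z : M)⁻¹ = c • (w : M) * (w : M)⁻¹ := congrArg Subtype.val hzw
    have h2 : c • ((z : M) * (w : M)⁻¹) = (z : M) * (w : M)⁻¹ := by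
      rw [smul_mul', smul_inv']
      calc c • (z : M) * (c • (w : M))⁻¹ = (c • (z : M) * (z : M)⁻¹) * ((z : M) * (c • (w : M))⁻¹) := by group
        _ = (c • (w : M) * (w : M)⁻¹) * ((c • (w : M))⁻¹ * (z : M)) := by rw [h1, hcomm (z : M) (c • (w : M))⁻¹]
        _ = (c • (w : M)) * ((w : M)⁻¹ * (c • (w : M))⁻¹) * (z : M) := by group
        _ = (c • (w : M)) * ((c • (w : M))⁻¹ * (w : M)⁻¹) * (z : M) := by rw [hcomm (w : M)⁻¹ (c • (w : M))⁻¹]
        _ = (w : M)⁻¹ * (z : M) := by group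
        _ = _ := hcomm _ _
    exact Subtype.ext (mul_inv_eq_one.1 (hfpf _ h2))
  have hs : Function.Surjective f := Finite.surjective_of_injective hf
  -- all minimal parabolics centralise `Z`
  have hall : ∀ P : Subgroup H, IsMinPar T P → ∀ z ∈ Z, ∀ p ∈ P, p • z = z := by
    intro P hP z hz p hp
    have h1 := h.par P hP
    set F : Subgroup M := Z ⊓ cv M (P : Set H) with hF
    have hFZ : F ≤ Z := inf_le_left
    have hcF : ∀ w ∈ F, c • w ∈ F := by
      rintro w ⟨hw1, hw2⟩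
      refine ⟨hcZ w hw1, fun q hq => ?_⟩
      have h2 : q • c • w = c • q • w := by rw [← mul_smul, hcen c hc q, mul_smul]
      rw [h2, hw2 q hq]
    have hcF' : ∀ w ∈ Z, c • w ∈ F → w ∈ F := by
      rintro w hw1 ⟨-, hw2⟩
      refine ⟨hw1, fun q hq => ?_⟩
      have h2 : q • c • w = c • q • w := by rw [← mul_smul, hcen c hc q, mul_smul]
      have h3 := hw2 q hq
      rw [h2] at h3
      exact smul_left_cancel c h3
    obtain ⟨w, hw⟩ := hs ⟨z, hz⟩
    have hw' : c • (w : M) * (w : M)⁻¹ = z := congrArg Subtype.val hw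
    have h2 : c • (w : M) * (w : M)⁻¹ ∈ F := by
      by_cases h3 : (w : M) ∈ F
      · exact F.mul_mem (hcF _ h3) (F.inv_mem h3)
      · have h4 : c • (w : M) ∉ F := fun h4 => h3 (hcF' _ w.2 h4)
        have h5 : F.relIndex Z = 2 := by
          have h6 : F.relIndex Z ≠ 0 := (F.subgroupOf Z).index_ne_zero_of_finite
          have h7 : F.relIndex Z ≠ 1 := fun h7 => h3 (relIndex_eq_one.1 h7 w.2)
          omega
        have h6 : (F.subgroupOf Z).index = 2 := h5
        have h7 := (mul_mem_iff_of_index_two h6 (a := ⟨c • (w : M), hcZ _ w.2⟩) (b := w⁻¹)).2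
          ⟨fun h8 => absurd h8 (fun h8 => h4 (mem_subgroupOf.1 h8)), fun h8 => absurd h8 (fun h8 => h3 (by
            have h9 := mem_subgroupOf.1 h8
            have h10 : ((w⁻¹ : Z) : M) = (w : M)⁻¹ := rfl
            rw [h10] at h9
            exact inv_mem_iff.1 h9))⟩
        exact mem_subgroupOf.1 h7
    rw [hw'] at h2
    exact h2.2 p hp
  have hT : T ≠ ⊥ := fun h1 => h.A1 (le_bot_iff.1 (h1 ▸ h.AT))
  have hZb : Z ≠ ⊥ := by
    obtain ⟨z, hz, hz1⟩ := SysF.exists_z h
    rintro rfl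
    exact hz1 (mem_bot.1 hz)
  obtain ⟨P, hP, z, hz, p, hp, hpz⟩ := exists_mover h.faith h.irr h.TZ h.nZ hZb hT
  exact hpz (hall P hP z hz p hp)

namespace SysF

/-- a minimal normal subgroup not centralised by `K₀` -/
theorem exists_E (h : ZSys 2 T A Z) : ∃ E : Subgroup H, E.Normal ∧ E ⊔ T = ⊤ ∧ ¬ A ≤ centralizer (E : Set H) ∧
    ∀ N : Subgroup H, N.Normal → N ≤ E → N = ⊥ ∨ N = E := by
  classical
  -- the smallest normal subgroup not centralised by `A`
  have hex : ∃ n : ℕ, ∃ E : Subgroup H, E.Normal ∧ ¬ A ≤ centralizer (E : Set H) ∧ Nat.card E = n := by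
    refine ⟨_, ⊤, inferInstance, ?_, rfl⟩
    intro h1
    apply h.A1
    have h2 : A ≤ o2 (⊤ : Subgroup H) := by
      refine le_o2 le_top (h.two.to_le h.AT) ?_
      intro g _
      rw [mem_normalizer_iff]
      intro z
      have h3 : ∀ z ∈ A, g * z * g⁻¹ = z := fun z hz => by
        rw [mem_centralizer_iff.1 (h1 hz) g (mem_top g), mul_inv_cancel_right]
      constructor
      · intro hz
        rwa [h3 z hz]
      · intro hz
        have h4 : g * (g * z * g⁻¹) * g⁻¹ = g * z * g⁻¹ := h3 _ hz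
        have h5 : g * z * g⁻¹ = z := by
          have h6 := congrArg (fun w => g⁻¹ * w * g) h4
          simpa [mul_assoc] using h6
        rwa [h5] at hz
    rw [o2_top h] at h2
    exact le_bot_iff.1 h2
  obtain ⟨E, hE, hEA, hEn⟩ := Nat.find_spec hex
  have hmin : ∀ N : Subgroup H, N.Normal → N ≤ E → N ≠ E → A ≤ centralizer (N : Set H) := by
    intro N hN hNE hne
    by_contra hc
    have h1 := Nat.find_min' hex ⟨N, hN, hc, rfl⟩
    rw [← hEn] at h1
    exact hne (eq_of_le_of_card_ge hNE h1)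
  have hET : E ⊔ T = ⊤ := by
    by_contra hne
    exact hEA (comm_of_ne h hE hne)
  have hZ : E ⊓ centralizer (normalClosure (A : Set H) : Set H) = ⊥ := by
    refine central_bot h inferInstance inf_le_right
  refine ⟨E, hE, hET, hEA, fun N hN hNE => ?_⟩
  by_cases hne : N = E
  · exact Or.inr hne
  · left
    rw [eq_bot_iff, ← hZ]
    exact le_inf hNE (comm_sub h hN (hmin N hN hNE hne))

variable (h : ZSys c T A Z)
include h

/-- a minimal normal supplement of `T` is not abelian -/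
theorem not_comm {E : Subgroup H} (hE : E.Normal) (hET : E ⊔ T = ⊤) (hEA : ¬ A ≤ centralizer (E : Set H))
    (hmin : ∀ N : Subgroup H, N.Normal → N ≤ E → N = ⊥ ∨ N = E) : ¬ ∀ a ∈ E, ∀ b ∈ E, Commute a b := by
  intro hab
  have hE1 : E ≠ ⊥ := by
    rintro rfl
    apply hEA
    intro a _
    rw [mem_centralizer_iff]
    intro n hn
    rw [coe_bot, Set.mem_singleton_iff] at hn
    rw [hn, one_mul, mul_one]
  obtain ⟨p, hp, hpE, -⟩ := abelian_structure E hE1 hmin hab
  have hp2 : p ≠ 2 := by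
    rintro rfl
    exact hE1 (bot_of_norm h hE le_rfl hpE le_normalizer)
  have : Fact p.Prime := ⟨hp⟩
  have htriv : ∀ z : H, z ∈ E → ∀ Q : Subgroup H, IsPGroup 2 Q → z ∈ Q → z = 1 := by
    intro z hz Q hQ hzQ
    have h1 : Disjoint E Q := IsPGroup.disjoint_of_ne _ _ hp2 _ _ hpE hQ
    have h2 : z ∈ E ⊓ Q := ⟨hz, hzQ⟩
    rw [disjoint_iff.1 h1, mem_bot] at h2
    exact h2
  -- the subgroup `D` of `E` centralised by all `T`-conjugates of `A`
  let D : Subgroup H := E ⊓ centralizer {z : H | ∃ t ∈ T, ∃ a ∈ A, z = t * a * t⁻¹}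
  have hDT : ∀ s ∈ T, ∀ d ∈ D, s * d * s⁻¹ ∈ D := by
    intro s hs d hd
    refine ⟨hE.conj_mem d hd.1 s, mem_centralizer_iff.2 ?_⟩
    rintro _ ⟨t, ht, a, ha, rfl⟩
    have h1 := mem_centralizer_iff.1 hd.2 _ ⟨s⁻¹ * t, mul_mem (inv_mem hs) ht, a, ha, rfl⟩
    have h2 := congrArg (fun w => s * w * s⁻¹) h1
    simp only [mul_inv_rev, inv_inv] at h2
    calc t * a * t⁻¹ * (s * d * s⁻¹) = s * (s⁻¹ * t * a * (t⁻¹ * s) * d) * s⁻¹ := by group
      _ = s * (d * (s⁻¹ * t * a * (t⁻¹ * s))) * s⁻¹ := h2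
      _ = s * d * s⁻¹ * (t * a * t⁻¹) := by group
  have hDn : T ≤ normalizer (D : Set H) := by
    intro s hs
    rw [mem_normalizer_iff]
    intro z
    refine ⟨hDT s hs z, fun hz => ?_⟩
    have h1 := hDT s⁻¹ (inv_mem hs) _ hz
    have h2 : s⁻¹ * (s * z * s⁻¹) * s⁻¹⁻¹ = z := by group
    rwa [h2] at h1
  refine h.nmax ⟨D ⊔ T, ?_, ?_⟩
  · intro htop
    apply hEA
    intro a ha
    rw [mem_centralizer_iff]
    intro e he
    have h1 : e ∈ D ⊔ T := htop ▸ mem_top e
    have h2 : e ∈ ((D ⊔ T : Subgroup H) : Set H) := h1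
    rw [coe_mul_of_right_le_normalizer_left D T hDn] at h2
    obtain ⟨d, hd, t, ht, rfl⟩ := h2
    have h3 : t ∈ E := by
      have := E.mul_mem (E.inv_mem hd.1) he
      simpa using this
    have h4 : t = 1 := htriv t h3 T h.two ht
    rw [h4]
    simp only [mul_one]
    have h5 := mem_centralizer_iff.1 hd.2 a ⟨1, one_mem T, a, ha, by group⟩
    exact h5.symm
  · intro R hTR hR
    have h1 : R ⊓ E ⊔ T = R := dedekind hE hTR (by rw [hET]; exact le_top)
    rw [← h1]
    refine sup_le_sup_right ?_ T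
    intro e he
    refine ⟨he.2, mem_centralizer_iff.2 ?_⟩
    rintro _ ⟨t, ht, a, ha, rfl⟩
    have h2 := h.low R hTR hR ha
    have h3 : t * a * t⁻¹ ∈ o2 R := (mem_normalizer_iff.1 (le_normalizer_o2 R (hTR ht)) a).1 h2
    set b := t * a * t⁻¹ with hb
    have h4 : e * b * e⁻¹ ∈ o2 R := (mem_normalizer_iff.1 (le_normalizer_o2 R he.1) b).1 h3
    have h5 : e * b * e⁻¹ * b⁻¹ = 1 := by
      refine htriv _ ?_ (o2 R) (o2_isPGroup R) (mul_mem h4 (inv_mem h3))
      have h6 : b * e⁻¹ * b⁻¹ ∈ E := hE.conj_mem _ (inv_mem he.2) b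
      have h7 : e * b * e⁻¹ * b⁻¹ = e * (b * e⁻¹ * b⁻¹) := by group
      rw [h7]
      exact mul_mem he.2 h6
    have h6 : e * b = (e * b * e⁻¹ * b⁻¹) * (b * e) := by group
    rw [h6, h5, one_mul]

theorem centralizer_eq {E : Subgroup H} (hE : E.Normal) (hET : E ⊔ T = ⊤)
    (hmin : ∀ N : Subgroup H, N.Normal → N ≤ E → N = ⊥ ∨ N = E)
    (hna : ¬ ∀ a ∈ E, ∀ b ∈ E, Commute a b) : centralizer (E : Set H) = ⊥ := by
  have h1 : E ⊓ centralizer (E : Set H) = ⊥ := by
    rcases hmin (E ⊓ centralizer (E : Set H)) inferInstance inf_le_left with h1 | h1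
    · exact h1
    · exfalso
      apply hna
      intro a ha b hb
      have h2 : b ∈ E ⊓ centralizer (E : Set H) := by rw [h1]; exact hb
      exact mem_centralizer_iff.1 h2.2 a ha
  have hCn : (centralizer (E : Set H)).Normal := inferInstance
  refine bot_of_norm h hCn le_rfl ?_ le_normalizer
  -- `C_H(E)` embeds in `H / E`, an image of `T`
  let f : centralizer (E : Set H) →* H ⧸ E := (QuotientGroup.mk' E).comp (centralizer (E : Set H)).subtype
  have hf : Function.Injective f := by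
    rw [injective_iff_map_eq_one]
    intro c hc
    have h2 : (c : H) ∈ E := (QuotientGroup.eq_one_iff (c : H)).1 hc
    have h3 : (c : H) ∈ E ⊓ centralizer (E : Set H) := ⟨h2, c.2⟩
    rw [h1, mem_bot] at h3
    exact Subtype.ext h3
  have h2 : IsPGroup 2 (H ⧸ E) := by
    have h3 : Function.Surjective ((QuotientGroup.mk' E).comp T.subtype) := by
      intro q
      obtain ⟨g, rfl⟩ := QuotientGroup.mk'_surjective E q
      have h4 : g ∈ E ⊔ T := hET ▸ mem_top g
      rw [mem_sup_of_normal_left] at h4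
      obtain ⟨e, he, t, ht, rfl⟩ := h4
      refine ⟨⟨t, ht⟩, ?_⟩
      change (t : H ⧸ E) = ((e * t : H) : H ⧸ E)
      rw [QuotientGroup.eq]
      have : t⁻¹ * (e * t) = t⁻¹ * e * t⁻¹⁻¹ := by group
      rw [this]
      exact hE.conj_mem e he t⁻¹
    exact h.two.of_surjective _ h3
  exact h2.of_injective f hf

end SysF

/-- **the structure of `H`** -/
theorem exists_structure (h : ZSys 2 T A Z) : ∃ E : Subgroup H, E.Normal ∧ E ⊔ T = ⊤ ∧
    centralizer (E : Set H) = ⊥ ∧ (∀ N : Subgroup H, N.Normal → N ≤ E → N = ⊥ ∨ N = E) ∧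
    (¬ ∀ a ∈ E, ∀ b ∈ E, Commute a b) ∧
    (minSet E).Nonempty ∧ sSupIndep (minSet E) ∧ sSup (minSet E) = E ∧ (∀ L ∈ minSet E, IsSimpleGroup L) ∧
    (∀ L ∈ minSet E, ∀ z ∈ L, (∀ t ∈ L, Commute z t) → z = 1) ∧
    (∀ S ∈ minSet E, ∀ L ∈ minSet E, ∃ t ∈ T, L = S.map (MulAut.conj t).toMonoidHom) := by
  obtain ⟨E, hE, hET, hEA, hmin⟩ := SysF.exists_E h
  have hna := SysF.not_comm h hE hET hEA hmin
  obtain ⟨h1, h2, h3, h4, h5, h6⟩ := nonabelian_structure E hmin hna
  refine ⟨E, hE, hET, SysF.centralizer_eq h hE hET hmin hna, hmin, hna, h1, h2, h3, h4, h5, ?_⟩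
  intro S hS L hL
  obtain ⟨g, rfl⟩ := h6 S hS L hL
  have h7 : g ∈ T ⊔ E := by rw [sup_comm, hET]; exact mem_top g
  rw [mem_sup_of_normal_right] at h7
  obtain ⟨t, ht, e, he, rfl⟩ := h7
  refine ⟨t, ht, ?_⟩
  have h8 : S.map (MulAut.conj e).toMonoidHom = S := by
    have h9 := hS.2.2.1 he
    ext z
    constructor
    · rintro ⟨w, hw, rfl⟩
      exact (mem_normalizer_iff.1 h9 w).1 hw
    · intro hz
      refine ⟨e⁻¹ * z * e, ?_, ?_⟩
      · have h10 := (mem_normalizer_iff.1 (inv_mem h9) z).1 hz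
        simpa using h10
      · change e * (e⁻¹ * z * e) * e⁻¹ = z
        group
  rw [map_mul]
  change S.map ((MulAut.conj t).toMonoidHom.comp (MulAut.conj e).toMonoidHom) = _
  rw [← Subgroup.map_map, h8]

end Cfsg.Agent.Omega.KL.ZR.Str

end

section


/-!
# The END of `|Z| ≥ 8`: `ZSys 2` has no normal subgroup of odd order (helper550)

* `not_odd` : `E` normal of odd order, `ET = H` : `A` centralises `E` (otherwise `C_E(⟨A^T⟩)T` contains all `T ≤ R < H`);
* **`odd`** : `ZSys 2 T A Z`, `N` normal of odd order ⟹ `N = 1` (the field `odd` of `Red.Mn`, `SysT`).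
-/

set_option autoImplicit false
set_option linter.unusedSectionVars false

namespace Cfsg.Agent.Omega.KL.ZR.Odd

open Subgroup Cfsg Cfsg.Agent.ZN Cfsg.Agent.ClassTwoFusion.Quad Cfsg.Agent.Omega.ML.MinFrame
open Cfsg.Agent.Omega.KL.Str Cfsg.Agent.Omega.KL.ZR.Str
open Cfsg.Agent.MinSimple.MinParabolic (IsMinPar le_of_forall)
open Cfsg.Agent.MinSimple.VModule (o2_isPGroup o2_le le_o2 le_normalizer_o2)

universe u v

variable {H : Type u} [Group H] [Finite H] {M : Type v} [Group M] [MulDistribMulAction H M]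
  {T A : Subgroup H} {Z : Subgroup M} {c : ℕ}

/-- a normal supplement of `T` of odd order is centralised by `A` -/
theorem not_odd (h : ZSys c T A Z) {E : Subgroup H} (hE : E.Normal) (hET : E ⊔ T = ⊤) (hodd : Odd (Nat.card E)) :
    A ≤ centralizer (E : Set H) := by
  by_contra hEA
  have : Fact (Nat.Prime 2) := ⟨Nat.prime_two⟩
  have htriv : ∀ z : H, z ∈ E → ∀ Q : Subgroup H, IsPGroup 2 Q → z ∈ Q → z = 1 := by
    intro z hz Q hQ hzQ
    have h1 : orderOf z ∣ Nat.card E := Subgroup.orderOf_dvd_natCard E hz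
    obtain ⟨k, hk⟩ := hQ ⟨z, hzQ⟩
    have h2 : z ^ 2 ^ k = 1 := congrArg Subtype.val hk
    have h3 : orderOf z ∣ 2 ^ k := orderOf_dvd_of_pow_eq_one h2
    have h4 : Nat.Coprime (Nat.card E) (2 ^ k) := by
      apply Nat.Coprime.pow_right
      exact Nat.coprime_two_right.2 hodd
    have h5 : orderOf z = 1 := Nat.eq_one_of_dvd_coprimes h4 h1 h3
    exact orderOf_eq_one_iff.1 h5
  -- the subgroup `D` of `E` centralised by all `T`-conjugates of `A`
  let D : Subgroup H := E ⊓ centralizer {z : H | ∃ t ∈ T, ∃ a ∈ A, z = t * a * t⁻¹}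
  have hDT : ∀ s ∈ T, ∀ d ∈ D, s * d * s⁻¹ ∈ D := by
    intro s hs d hd
    refine ⟨hE.conj_mem d hd.1 s, mem_centralizer_iff.2 ?_⟩
    rintro _ ⟨t, ht, a, ha, rfl⟩
    have h1 := mem_centralizer_iff.1 hd.2 _ ⟨s⁻¹ * t, mul_mem (inv_mem hs) ht, a, ha, rfl⟩
    have h2 := congrArg (fun w => s * w * s⁻¹) h1
    simp only [mul_inv_rev, inv_inv] at h2
    calc t * a * t⁻¹ * (s * d * s⁻¹) = s * (s⁻¹ * t * a * (t⁻¹ * s) * d) * s⁻¹ := by group
      _ = s * (d * (s⁻¹ * t * a * (t⁻¹ * s))) * s⁻¹ := h2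
      _ = s * d * s⁻¹ * (t * a * t⁻¹) := by group
  have hDn : T ≤ normalizer (D : Set H) := by
    intro s hs
    rw [mem_normalizer_iff]
    intro z
    refine ⟨hDT s hs z, fun hz => ?_⟩
    have h1 := hDT s⁻¹ (inv_mem hs) _ hz
    have h2 : s⁻¹ * (s * z * s⁻¹) * s⁻¹⁻¹ = z := by group
    rwa [h2] at h1
  refine h.nmax ⟨D ⊔ T, ?_, ?_⟩
  · intro htop
    apply hEA
    intro a ha
    rw [mem_centralizer_iff]
    intro e he
    have h1 : e ∈ D ⊔ T := htop ▸ mem_top e
    have h2 : e ∈ ((D ⊔ T : Subgroup H) : Set H) := h1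
    rw [coe_mul_of_right_le_normalizer_left D T hDn] at h2
    obtain ⟨d, hd, t, ht, rfl⟩ := h2
    have h3 : t ∈ E := by
      have := E.mul_mem (E.inv_mem hd.1) he
      simpa using this
    have h4 : t = 1 := htriv t h3 T h.two ht
    rw [h4]
    simp only [mul_one]
    have h5 := mem_centralizer_iff.1 hd.2 a ⟨1, one_mem T, a, ha, by group⟩
    exact h5.symm
  · intro R hTR hR
    have h1 : R ⊓ E ⊔ T = R := dedekind hE hTR (by rw [hET]; exact le_top)
    rw [← h1]
    refine sup_le_sup_right ?_ T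
    intro e he
    refine ⟨he.2, mem_centralizer_iff.2 ?_⟩
    rintro _ ⟨t, ht, a, ha, rfl⟩
    have h2 := h.low R hTR hR ha
    have h3 : t * a * t⁻¹ ∈ o2 R := (mem_normalizer_iff.1 (le_normalizer_o2 R (hTR ht)) a).1 h2
    set b := t * a * t⁻¹ with hb
    have h4 : e * b * e⁻¹ ∈ o2 R := (mem_normalizer_iff.1 (le_normalizer_o2 R he.1) b).1 h3
    have h5 : e * b * e⁻¹ * b⁻¹ = 1 := by
      refine htriv _ ?_ (o2 R) (o2_isPGroup R) (mul_mem h4 (inv_mem h3))
      have h6 : b * e⁻¹ * b⁻¹ ∈ E := hE.conj_mem _ (inv_mem he.2) b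
      have h7 : e * b * e⁻¹ * b⁻¹ = e * (b * e⁻¹ * b⁻¹) := by group
      rw [h7]
      exact mul_mem he.2 h6
    have h6 : e * b = (e * b * e⁻¹ * b⁻¹) * (b * e) := by group
    rw [h6, h5, one_mul]

/-- **`O(H) = 1` in `ZSys 2`** -/
theorem odd (h : ZSys 2 T A Z) : ∀ N : Subgroup H, N.Normal → Odd (Nat.card N) → N = ⊥ := by
  intro N hN hodd
  have hA : A ≤ centralizer (N : Set H) := by
    by_cases hne : N ⊔ T = ⊤
    · exact not_odd h hN hne hodd
    · exact SysF.comm_of_ne h hN hne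
  refine central_bot h hN fun n hn => ?_
  have h1 := SysF.comm_sub h hN hA hn
  exact h1

end Cfsg.Agent.Omega.KL.ZR.Odd

end
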