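import Cfsg.Agent.Mrg.Omega.KL.Def
import Cfsg.Agent.Mrg.Omega.ML.MinFrame
import Cfsg.Agent.Mrg.Omega.ML.Ex.Def
import Cfsg.Agent.Mrg.Omega.IId.BSTrick
import Cfsg.Agent.Mrg.Omega.ML.MinIrr

section


/-!
# THEOREM KL: sections (helper529)

`R ≤ H` acts on the subgroup `e(M')` of `M` like the group `H' = π(R)` acts on `M'`.

* `Mor R π e` : this situation;  `im X = π(X ∩ R)`, `pre X' = π⁻¹(X')`;
* `Mor.exists_minPar` : every `T'`-minimal `P'`, `T' = im T`, is the image of a `T`-minimal `P ≤ R`;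
* `Mor.exists_normalizer` : `N(T')` is the image of `N_R(T)`, `T` a Sylow 2-subgroup of `R`;
* `Mor.o2_le` : `im (O₂(X)) ≤ O₂(im X)`;  `stab`, `orb`, `cv`.
-/

set_option autoImplicit false
set_option linter.dupNamespace false

namespace Cfsg.Agent.Omega.KL.Mor

open Subgroup Cfsg Cfsg.Agent.ZN Cfsg.Agent.ClassTwoFusion.Quad Cfsg.Agent.Omega.ML.MinFrame
open Cfsg.Agent.MinSimple.MinParabolic (IsMinPar le_of_forall)
open Cfsg.Agent.MinSimple.VModule (o2_isPGroup o2_le le_o2 le_normalizer_o2 o2_le_of_sylow)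

variable {H : Type*} [Group H] {H' : Type*} [Group H']

/-- the image of `X ∩ R` -/
def im {R : Subgroup H} (π : R →* H') (X : Subgroup H) : Subgroup H' := (X.subgroupOf R).map π

/-- the preimage -/
def pre {R : Subgroup H} (π : R →* H') (X' : Subgroup H') : Subgroup H := (X'.comap π).map R.subtype

variable {R : Subgroup H} {π : R →* H'}

theorem mem_im {X : Subgroup H} {x' : H'} : x' ∈ im π X ↔ ∃ x, ∃ hx : x ∈ R, x ∈ X ∧ π ⟨x, hx⟩ = x' := by
  constructor
  · rintro ⟨⟨x, hx⟩, hx', rfl⟩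
    exact ⟨x, hx, hx', rfl⟩
  · rintro ⟨x, hx, hx', rfl⟩
    exact ⟨⟨x, hx⟩, hx', rfl⟩

theorem mem_im_of {X : Subgroup H} {x : H} (hx : x ∈ R) (h : x ∈ X) : π ⟨x, hx⟩ ∈ im π X := mem_im.2 ⟨x, hx, h, rfl⟩

theorem mem_pre {X' : Subgroup H'} {x : H} : x ∈ pre π X' ↔ ∃ hx : x ∈ R, π ⟨x, hx⟩ ∈ X' := by
  constructor
  · rintro ⟨⟨x, hx⟩, hx', rfl⟩
    exact ⟨hx, hx'⟩
  · rintro ⟨hx, hx'⟩
    exact ⟨⟨x, hx⟩, hx', rfl⟩

theorem pre_le {X' : Subgroup H'} : pre π X' ≤ R := fun _ hx => (mem_pre.1 hx).1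

theorem im_mono {X Y : Subgroup H} (h : X ≤ Y) : im π X ≤ im π Y := by
  intro x' hx'
  obtain ⟨x, hx, hx1, rfl⟩ := mem_im.1 hx'
  exact mem_im_of hx (h hx1)

theorem pre_mono {X Y : Subgroup H'} (h : X ≤ Y) : pre π X ≤ pre π Y := by
  intro x hx
  obtain ⟨hx, hx1⟩ := mem_pre.1 hx
  exact mem_pre.2 ⟨hx, h hx1⟩

theorem im_pre (hπ : Function.Surjective π) (X' : Subgroup H') : im π (pre π X') = X' := by
  ext x'
  rw [mem_im]
  constructor
  · rintro ⟨x, hx, hx1, rfl⟩
    exact (mem_pre.1 hx1).2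
  · intro hx'
    obtain ⟨⟨x, hx⟩, rfl⟩ := hπ x'
    exact ⟨x, hx, mem_pre.2 ⟨hx, hx'⟩, rfl⟩

theorem le_pre_im {X : Subgroup H} (h : X ≤ R) : X ≤ pre π (im π X) := fun _ hx =>
  mem_pre.2 ⟨h hx, mem_im_of (h hx) hx⟩

theorem le_pre_iff {X : Subgroup H} {X' : Subgroup H'} (h : X ≤ R) : X ≤ pre π X' ↔ im π X ≤ X' := by
  constructor
  · intro h1 x' hx'
    obtain ⟨x, hx, hx1, rfl⟩ := mem_im.1 hx'
    exact (mem_pre.1 (h1 hx1)).2
  · intro h1
    exact (le_pre_im h).trans (pre_mono h1)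

theorem im_top (hπ : Function.Surjective π) : im π R = ⊤ := by
  rw [eq_top_iff]
  intro x' _
  obtain ⟨⟨x, hx⟩, rfl⟩ := hπ x'
  exact mem_im_of hx hx

theorem pre_top : pre π (⊤ : Subgroup H') = R := le_antisymm pre_le fun _ hx => mem_pre.2 ⟨hx, mem_top _⟩

theorem pre_ne {X' : Subgroup H'} (hπ : Function.Surjective π) (h : X' ≠ ⊤) : pre π X' ≠ R := by
  intro h1
  apply h
  rw [← im_pre hπ X', h1, im_top hπ]

theorem conj_mem_im {X Y : Subgroup H} (hn : ∀ g ∈ R, g ∈ Y → ∀ x ∈ X, g * x * g⁻¹ ∈ X) {g' x' : H'}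
    (hg : g' ∈ im π Y) (hx : x' ∈ im π X) : g' * x' * g'⁻¹ ∈ im π X := by
  obtain ⟨g, hgR, hgY, rfl⟩ := mem_im.1 hg
  obtain ⟨x, hxR, hxX, rfl⟩ := mem_im.1 hx
  rw [← map_mul, ← map_inv, ← map_mul]
  exact mem_im_of (R.mul_mem (R.mul_mem hgR hxR) (R.inv_mem hgR)) (hn g hgR hgY x hxX)

theorem im_isPGroup {X : Subgroup H} (h : IsPGroup 2 X) : IsPGroup 2 (im π X) := h.comap_subtype.map _

/-- `O₂` -/
theorem im_o2_le {X : Subgroup H} : im π (o2 X) ≤ o2 (im π X) := by
  refine le_o2 (im_mono (o2_le X)) (im_isPGroup (o2_isPGroup X)) (le_normalizer_of fun g hg x hx => ?_)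
  exact conj_mem_im (fun g _ hg x hx => conj_mem_of_le (le_normalizer_o2 X) hg hx) hg hx

/-- a normal 2-subgroup `Q` of `Y` -/
theorem le_o2_im {A Q Y : Subgroup H} (hA : A ≤ Q) (hQ : Q ≤ Y) (h2 : IsPGroup 2 Q)
    (hn : ∀ g ∈ R, g ∈ Y → ∀ x ∈ Q, g * x * g⁻¹ ∈ Q) : im π A ≤ o2 (im π Y) :=
  (im_mono hA).trans (le_o2 (im_mono hQ) (im_isPGroup h2) (le_normalizer_of fun _ hg _ hx => conj_mem_im hn hg hx))

theorem im_index [Finite H] {T : Subgroup H} (hπ : Function.Surjective π) (hT : ¬ 2 ∣ T.relIndex R) :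
    ¬ 2 ∣ (im π T).index := by
  intro h2
  apply hT
  have h3 : (im π T).index ∣ (T.subgroupOf R).index := index_map_dvd _ hπ
  exact h2.trans h3

theorem card_im {B : Subgroup H} (hB : B ≤ R) (hinj : ∀ b, ∀ hb : b ∈ B, π ⟨b, hB hb⟩ = 1 → b = 1) :
    Nat.card (im π B) = Nat.card B := by
  symm
  refine Nat.card_congr (Equiv.ofBijective
    (fun b : B => (⟨π ⟨b, hB b.2⟩, mem_im_of (hB b.2) b.2⟩ : im π B)) ⟨?_, ?_⟩)
  · intro b c hbc
    have h1 : π ⟨b, hB b.2⟩ = π ⟨c, hB c.2⟩ := congrArg Subtype.val hbc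
    have h2 : π ⟨b * c⁻¹, hB (B.mul_mem b.2 (B.inv_mem c.2))⟩ = 1 := by
      have h3 : (⟨b * c⁻¹, hB (B.mul_mem b.2 (B.inv_mem c.2))⟩ : R) = ⟨b, hB b.2⟩ * ⟨c, hB c.2⟩⁻¹ := rfl
      rw [h3, map_mul, map_inv, h1, mul_inv_cancel]
    have h3 := hinj _ (B.mul_mem b.2 (B.inv_mem c.2)) h2
    exact Subtype.ext (mul_inv_eq_one.1 h3)
  · rintro ⟨x', hx'⟩
    obtain ⟨x, hx, hx1, rfl⟩ := mem_im.1 hx'
    exact ⟨⟨x, hx1⟩, rfl⟩

/-- **Minimal parabolics lift.** -/
theorem exists_minPar [Finite H] (hπ : Function.Surjective π) {T : Subgroup H} (hT : T ≤ R) {P' : Subgroup H'}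
    (h : IsMinPar (im π T) P') : ∃ P : Subgroup H, IsMinPar T P ∧ P ≤ R ∧ im π P = P' := by
  obtain ⟨M', hM', hmax⟩ := h.exists_max
  have key : ∀ X : Subgroup H, X ≤ pre π P' → T ≤ X → ¬ X ≤ pre π M' → im π X = P' := by
    intro X hX hTX hXM
    by_contra hne
    have h1 : im π X ≤ P' := (le_pre_iff (hX.trans pre_le)).1 hX
    exact hXM ((le_pre_iff (hX.trans pre_le)).2 (hmax _ (im_mono hTX) (lt_of_le_of_ne h1 hne)))
  have hTP : T ≤ pre π P' := (le_pre_iff hT).2 h.le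
  by_contra hcon
  push Not at hcon
  have h1 : pre π P' ≤ pre π M' := by
    refine le_of_forall hTP ?_ ?_
    · by_contra h2
      have h3 : T ≤ pre π P' ⊓ normalizer (T : Set H) := le_inf hTP le_normalizer
      have h4 := key _ inf_le_left h3 h2
      apply h.not_le
      rw [← h4]
      refine le_normalizer_of fun g hg x hx => conj_mem_im (fun g _ hg x hx => ?_) hg hx
      exact (mem_normalizer_iff.1 hg.2 x).1 hx
    · intro P hP hPP
      by_contra h2
      exact hcon P hP (hPP.trans pre_le) (key P hPP hP.le h2)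
  have h2 : P' ≤ M' := by
    rw [← im_pre hπ P', ← im_pre hπ M']
    exact im_mono h1
  exact absurd hM' (not_lt_of_ge h2)

/-- **The normalizer of the Sylow subgroup lifts.** -/
theorem exists_normalizer [Finite H] (hπ : Function.Surjective π) {T : Subgroup H} (hT2 : IsPGroup 2 T) (hTR : T ≤ R)
    (hTi : ¬ 2 ∣ T.relIndex R) {g' : H'} (hg' : g' ∈ normalizer (im π T : Set H')) :
    ∃ g, ∃ hg : g ∈ R, g ∈ normalizer (T : Set H) ∧ π ⟨g, hg⟩ = g' := by
  have hTE : T ≤ pre π (im π T) := le_pre_im hTR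
  have hTX : T ≤ pre π (normalizer (im π T : Set H')) := hTE.trans (pre_mono le_normalizer)
  have h1 := MinSimple.Basic.frattini (L := pre π (im π T)) hTX hT2
    (fun h2 => hTi (h2.trans (Dvd.intro _ (relIndex_mul_relIndex T _ R hTX pre_le))))
    (le_normalizer_of fun g hg x hx => by
      obtain ⟨hgR, hg1⟩ := mem_pre.1 hg
      obtain ⟨hxR, hx1⟩ := mem_pre.1 hx
      refine mem_pre.2 ⟨R.mul_mem (R.mul_mem hgR hxR) (R.inv_mem hgR), ?_⟩
      have h2 : (⟨g * x * g⁻¹, R.mul_mem (R.mul_mem hgR hxR) (R.inv_mem hgR)⟩ : R) = ⟨g, hgR⟩ * ⟨x, hxR⟩ * ⟨g, hgR⟩⁻¹ :=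
        rfl
      rw [h2, map_mul, map_mul, map_inv]
      exact (mem_normalizer_iff.1 hg1 _).1 hx1)
  rw [inf_eq_left.2 hTE] at h1
  have h2 : pre π (normalizer (im π T : Set H')) ≤ pre π (im π (normalizer (T : Set H))) := by
    refine h1.trans (sup_le (pre_mono (im_mono le_normalizer)) ?_)
    rintro x ⟨hx, hx1⟩
    exact mem_pre.2 ⟨(mem_pre.1 hx).1, mem_im_of _ hx1⟩
  obtain ⟨⟨n, hn⟩, rfl⟩ := hπ g'
  obtain ⟨hn', h3⟩ := mem_pre.1 (h2 (mem_pre.2 ⟨hn, hg'⟩))
  obtain ⟨g, hg, hg1, hg2⟩ := mem_im.1 h3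
  exact ⟨g, hg, hg1, hg2⟩

/-! ### The module -/

variable {M : Type*} [Group M] [MulDistribMulAction H M] {M' : Type*} [Group M'] [MulDistribMulAction H' M']

/-- `R` acts on `e(M')` like `H' = π(R)` on `M'` -/
structure Mor (R : Subgroup H) (π : R →* H') (e : M' →* M) : Prop where
  surj : Function.Surjective π
  inj : Function.Injective e
  eq : ∀ (r : R) (m' : M'), e (π r • m') = (r : H) • e m'

namespace Mor

variable {e : M' →* M}

theorem sm (D : Mor R π e) {r : H} (hr : r ∈ R) (m' : M') : e (π ⟨r, hr⟩ • m') = r • e m' := D.eq ⟨r, hr⟩ m'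

theorem smul_eq_iff (D : Mor R π e) {r : H} (hr : r ∈ R) {m' n' : M'} : π ⟨r, hr⟩ • m' = n' ↔ r • e m' = e n' := by
  rw [← D.sm hr]
  exact D.inj.eq_iff.symm

theorem orb_map (D : Mor R π e) (X : Subgroup H) (m' : M') :
    (orb (im π X) m').map e = orb (X ⊓ R) (e m') := by
  apply le_antisymm
  · rw [map_le_iff_le_comap]
    refine orb_le fun g' hg' => ?_
    obtain ⟨g, hg, hgX, rfl⟩ := mem_im.1 hg'
    rw [mem_comap, D.sm hg]
    exact smul_mem_orb_self ⟨hgX, hg⟩
  · exact orb_le fun g hg => ⟨π ⟨g, hg.2⟩ • m', smul_mem_orb_self (mem_im_of hg.2 hg.1), D.sm hg.2 m'⟩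

theorem cv_comap (D : Mor R π e) {A : Subgroup H} (hA : A ≤ R) :
    (cv M (A : Set H)).comap e = cv M' ((im π A : Subgroup H') : Set H') := by
  ext m'
  constructor
  · intro h1 a' ha'
    obtain ⟨a, haR, ha, rfl⟩ := mem_im.1 ha'
    exact (D.smul_eq_iff haR).2 (h1 a ha)
  · intro h1 a ha
    exact (D.smul_eq_iff (hA ha)).1 (h1 _ (mem_im_of (hA ha) ha))

/-- indices in `M'` -/
theorem index_cv (D : Mor R π e) {A : Subgroup H} (hA : A ≤ R) :
    (cv M' ((im π A : Subgroup H') : Set H')).index = (cv M (A : Set H)).relIndex e.range := by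
  rw [← D.cv_comap hA, index_comap]

theorem stab (D : Mor R π e) (m' : M') : MulAction.stabilizer H' m' = im π (MulAction.stabilizer H (e m')) := by
  ext g'
  obtain ⟨⟨g, hg⟩, rfl⟩ := D.surj g'
  rw [mem_im, MulAction.mem_stabilizer_iff]
  constructor
  · intro h1
    exact ⟨g, hg, (D.smul_eq_iff hg).1 h1, rfl⟩
  · rintro ⟨k, hk, hk1, hk2⟩
    rw [← hk2]
    exact (D.smul_eq_iff hk).2 hk1

end Mor

end Cfsg.Agent.Omega.KL.Mor

end

section


/-!
# THEOREM KLF (#21950 (3) = #22692 (8)): the literal input and output (helper462)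

* `Pre T A E Y x` : **the input**: `X` acts (not necessarily faithfully) on the elementary abelian 2-group
  `M = ⟨x^X⟩`, `T` a Sylow 2-subgroup of `X` which fixes `x` and normalises `Y ≤ M`; a mover `R` of `x` (`R` a
  `T`-minimal subgroup or `R = N_X(T)`) has `[Y, O²(R)] = 1`; the elements of odd order of `C_X(Y)` are in `E`, and `A`
  centralises `x^E`; `A ≤ O₂(C_X(x))` elementary abelian, exact and non-trivial on `M`; `X` a K-group;
* `Out T A x y` : **the output**: `X` faithful and irreducible on `M`, `T` a Sylow 2-subgroup in at least two maximal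
  subgroups, `x ≠ y` non-trivial `T`-fixed vectors; a mover `R` of `x` (`R` a `T`-minimal subgroup or `R = N_X(T)`)
  fixes `y`; `A ≤ T` an exact atom, `|A| ≥ 4`, `A ≤ O₂(R)` for all `T ≤ R < X`;
* `Sec R π U q` : `R ≤ X` acts on the section `U / ker q` of `M` like `H = π(R)` acts on `q(U)`.
-/

set_option autoImplicit false

namespace Cfsg.Agent.Omega.KLF.Def

open Subgroup Cfsg Cfsg.Agent.ZN Cfsg.Agent.ClassTwoFusion.Quad Cfsg.Agent.Omega.ML.MinFrame
open Cfsg.Agent.MinSimple.MinParabolic (IsMinPar)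
open Cfsg.Agent.MinSimple.VModule (o2_le)

universe u v

/-- **the input of THEOREM KLF** -/
structure Pre {X : Type u} [Group X] {M : Type v} [Group M] [MulDistribMulAction X M] (T A E : Subgroup X)
    (Y : Subgroup M) (x : M) : Prop where
  sq : ∀ m : M, m * m = 1
  gen : orb (⊤ : Subgroup X) x = ⊤
  two : IsPGroup 2 T
  syl : ¬ 2 ∣ T.index
  fx : ∀ t ∈ T, t • x = x
  tY : ∀ t ∈ T, ∀ w ∈ Y, t • w ∈ Y
  mN : (∃ g ∈ normalizer (T : Set X), g • x ≠ x) →
    ∀ g ∈ normalizer (T : Set X), Odd (orderOf g) → ∀ w ∈ Y, g • w = w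
  mP : ∀ P : Subgroup X, IsMinPar T P → (∃ p ∈ P, p • x ≠ x) → ∀ p ∈ P, Odd (orderOf p) → ∀ w ∈ Y, p • w = w
  cY : ∀ g : X, Odd (orderOf g) → (∀ w ∈ Y, g • w = w) → g ∈ E
  cE : ∀ a ∈ A, ∀ k ∈ E, a • k • x = k • x
  el : ∀ a ∈ A, a * a = 1
  Ax : A ≤ o2 (MulAction.stabilizer X x)
  exact : (cv M (A : Set X)).index ≤ (fxr X (⊤ : Subgroup M)).relIndex A
  mv : ∃ a ∈ A, ∃ m : M, a • m ≠ m
  KX : IsKGroup X

/-- **the output of THEOREM KLF** -/
structure Out {X : Type u} [Group X] {M : Type v} [Group M] [MulDistribMulAction X M] (T A : Subgroup X)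
    (x y : M) : Prop where
  sq : ∀ m : M, m * m = 1
  faith : ∀ g : X, (∀ m : M, g • m = m) → g = 1
  irr : ∀ W : Subgroup M, (∀ g : X, ∀ w ∈ W, g • w ∈ W) → W = ⊥ ∨ W = ⊤
  two : IsPGroup 2 T
  syl : ¬ 2 ∣ T.index
  x1 : x ≠ 1
  y1 : y ≠ 1
  xy : x ≠ y
  fx : ∀ t ∈ T, t • x = x
  fy : ∀ t ∈ T, t • y = y
  mN : (∃ g ∈ normalizer (T : Set X), g • x ≠ x) → ∀ g ∈ normalizer (T : Set X), g • y = y
  mP : ∀ P : Subgroup X, IsMinPar T P → (∃ p ∈ P, p • x ≠ x) → ∀ p ∈ P, p • y = y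
  AT : A ≤ T
  el : ∀ a ∈ A, a * a = 1
  four : 4 ≤ Nat.card A
  exact : (cv M (A : Set X)).index = Nat.card A
  atom : ∀ C : Subgroup X, C ≤ A → C ≠ ⊥ → C ≠ A → Nat.card C < (cv M (C : Set X)).index
  low : ∀ R : Subgroup X, T ≤ R → R ≠ ⊤ → A ≤ o2 R
  nmax : ¬ ∃ N : Subgroup X, N ≠ ⊤ ∧ ∀ R : Subgroup X, T ≤ R → R ≠ ⊤ → R ≤ N
  KX : IsKGroup X

/-- `R ≤ X` acts on the section `U / ker q` of `M` like `H = π(R)` acts on `N = q(U)` -/
structure Sec {X : Type*} [Group X] {M : Type*} [Group M] [MulDistribMulAction X M] {H : Type*} [Group H]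
    {N : Type*} [Group N] [MulDistribMulAction H N] (R : Subgroup X) (π : R →* H) (U : Subgroup M) (q : U →* N) :
    Prop where
  surjπ : Function.Surjective π
  surjq : Function.Surjective q
  inv : ∀ r ∈ R, ∀ u ∈ U, r • u ∈ U
  eq : ∀ (r : R) (u : U) (h : (r : X) • (u : M) ∈ U), q ⟨(r : X) • (u : M), h⟩ = π r • q u

namespace Out

variable {X : Type u} [Group X] {M : Type v} [Group M] [MulDistribMulAction X M] {T A : Subgroup X} {x y : M}

/-- `A` is sub-exact -/
theorem sub (h : Out T A x y) : ∀ C : Subgroup X, C ≤ A → Nat.card C ≤ (cv M (C : Set X)).index := by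
  intro C hC
  by_cases h1 : C = ⊥
  · subst h1
    have e : cv M ((⊥ : Subgroup X) : Set X) = ⊤ := by
      rw [eq_top_iff]
      intro m _ b hb
      rw [mem_bot.1 hb, one_smul]
    rw [e, index_top, card_bot]
  by_cases h2 : C = A
  · rw [h2, h.exact]
  · exact (h.atom C hC h1 h2).le

/-- the form of the rows -/
theorem inX (h : Out T A x y) {K : Subgroup X} (norm : K.Normal) (simple : IsSimpleGroup K)
    (cen : centralizer (K : Set X) = ⊥) (KT : K ⊔ T = ⊤) : ML.Ex.InX X M K T A where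
  sq := h.sq
  faith := h.faith
  irr := h.irr
  norm := norm
  simple := simple
  cen := cen
  gen := KT
  two := h.two
  syl := h.syl
  AT := h.AT
  el := h.el
  four := h.four
  exact := h.exact
  sub := h.sub
  low := h.low
  nmax := h.nmax

end Out

end Cfsg.Agent.Omega.KLF.Def

end

section


/-!
# THEOREM KL: the plug at group level

`GIn T C N Z W Sy A x p` : `C` acts on `M := N / Z` (`N` elementary abelian, `Z ≤ N` centralised by `C`), `M = ⟨x̄ ^ C⟩`,
`T` a Sylow 2-subgroup of `C`, `x̄ ≠ p̄` non-trivial `N_C(T)`-fixed vectors with stabilisers `C_C(x)`, `Sy`; every `T`-minimal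
`R ≤ C` which moves `x` normalises `W` (`x ∈ W`, `|W : Z| = 4`) and fixes `p̄`; `A ≤ O₂(C_C(x)) ∩ O₂(Sy)` elementary
abelian, exact on `N`.

* **`GIn.pre`** : `Quo.Pre` for `C` acting on `N / Z`; **`GIn.false`** : contradiction from THEOREM KL.

(The same as 909's `Plug.pre`, without `TC.Fr`; used for CARD #20012, bb #22451 (B2), `C = Y_j`, `T = B`.)
-/

set_option autoImplicit false

namespace Cfsg.Agent.Omega.KL.PlugG

open Subgroup Cfsg Cfsg.Agent.ZN
open Cfsg.Agent.ClassTwoFusion.Quad Cfsg.Agent.Omega.ML.MinFrame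
open Cfsg.Agent.MinSimple.MinParabolic (IsMinPar)
open Cfsg.Agent.MinSimple.VModule (o2_isPGroup o2_le le_o2 le_normalizer_o2 o2_le_of_sylow)

universe u

variable {G : Type u} [Group G]

/-- **The input of THEOREM KL at group level** -/
structure GIn (T C N Z W Sy A : Subgroup G) (x p : G) : Prop where
  TC : T ≤ C
  two : IsPGroup 2 T
  syl : ¬ 2 ∣ T.relIndex C
  sq : ∀ n ∈ N, n * n = 1
  CN : C ≤ normalizer (N : Set G)
  ZN : Z ≤ N
  CZ : ∀ c ∈ C, ∀ z ∈ Z, c * z = z * c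
  xN : x ∈ N
  pN : p ∈ N
  gen : ∀ U : Subgroup G, x ∈ U → Z ≤ U → C ≤ normalizer (U : Set G) → N ≤ U
  stx : ∀ c ∈ C, c * x * c⁻¹ * x⁻¹ ∈ Z → c * x = x * c
  sty : ∀ c ∈ C, (c ∈ Sy ↔ c * p * c⁻¹ * p⁻¹ ∈ Z)
  SyC : Sy ≤ C
  x1 : x ∉ Z
  p1 : p ∉ Z
  xp : x * p ∉ Z
  ZW : Z ≤ W
  WN : W ≤ N
  xW : x ∈ W
  cW : Z.relIndex W = 4
  nx : ∀ g ∈ C, g ∈ normalizer (T : Set G) → g * x = x * g
  ny : C ⊓ normalizer (T : Set G) ≤ Sy
  uni : ∀ R : Subgroup G, IsMinPar T R → R ≤ C → (∃ r ∈ R, r * x ≠ x * r) → R ≤ normalizer (W : Set G) ⊓ Sy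
  el : ∀ a ∈ A, a * a = 1
  Ax : A ≤ o2 (C ⊓ centralizer ({x} : Set G))
  Ay : A ≤ o2 Sy
  mv : ¬ A ≤ centralizer (N : Set G)
  ex : (centralizer (A : Set G)).relIndex N ≤ (centralizer (N : Set G)).relIndex A
  KC : IsKGroup C

/-! ### Tools -/

theorem comm_of_sq {E : Subgroup G} (sq : ∀ x ∈ E, x * x = 1) {a b : G} (ha : a ∈ E) (hb : b ∈ E) : a * b = b * a := by
  have h1 := sq _ ha
  have h2 := sq _ hb
  have h3 := sq _ (mul_mem ha hb)
  calc a * b = a * b * ((a * b) * (a * b))⁻¹ := by rw [h3, inv_one, mul_one]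
    _ = b⁻¹ * a⁻¹ := by group
    _ = b * a := by rw [inv_eq_of_mul_eq_one_left h1, inv_eq_of_mul_eq_one_left h2]

/-- minimal parabolics of a subgroup -/
theorem minPar_map {C T : Subgroup G} (hTC : T ≤ C) {P : Subgroup C} (hP : IsMinPar (T.subgroupOf C) P) :
    IsMinPar T (P.map C.subtype) := by
  have hTP : T ≤ P.map C.subtype := fun t ht => ⟨⟨t, hTC ht⟩, hP.le (mem_subgroupOf.2 ht), rfl⟩
  refine ⟨hTP, fun h => hP.not_le fun p hp => ?_, ?_⟩
  · have h1 := h (mem_map_of_mem C.subtype hp)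
    rw [mem_normalizer_iff] at h1 ⊢
    exact fun t => h1 t
  · obtain ⟨M, hMP, hM⟩ := hP.exists_max
    refine ⟨M.map C.subtype, (map_lt_map_iff_of_injective C.subtype_injective).2 hMP, fun K hTK hKP => ?_⟩
    have hKC : K ≤ C := hKP.le.trans (map_subtype_le P)
    have e : (K.subgroupOf C).map C.subtype = K := by rw [subgroupOf_map_subtype, inf_eq_left.2 hKC]
    rw [← e] at hKP ⊢
    refine map_mono (hM _ ?_ ((map_lt_map_iff_of_injective C.subtype_injective).1 hKP))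
    exact fun t ht => mem_subgroupOf.2 (hTK (mem_subgroupOf.1 ht))

/-- `O₂` of a subgroup of `C` -/
theorem sub_o2 [Finite G] {C S B : Subgroup G} {S' : Subgroup C} (hS : ∀ c : C, c ∈ S' ↔ (c : G) ∈ S) (hB : B ≤ o2 S) :
    B.subgroupOf C ≤ o2 S' := by
  have h1 : B.subgroupOf C ≤ (o2 S).subgroupOf C := fun b hb => mem_subgroupOf.2 (hB (mem_subgroupOf.1 hb))
  refine h1.trans (le_o2 (fun c hc => (hS c).2 (o2_le _ (mem_subgroupOf.1 hc)))
    ((o2_isPGroup S).comap_of_injective C.subtype C.subtype_injective) fun s hs => ?_)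
  have h2 := le_normalizer_o2 S ((hS s).1 hs)
  rw [mem_normalizer_iff] at h2 ⊢
  exact fun t => h2 t

namespace GIn

variable [Finite G] {T C N Z W Sy A : Subgroup G} {x p : G} (h : GIn T C N Z W Sy A x p)
include h

/-- **the input of THEOREM KL** -/
theorem pre : ∃ (M : Type u) (_ : Group M) (_ : Finite M) (_ : MulDistribMulAction C M) (W' : Subgroup M) (x' y' : M),
    Quo.Pre (T.subgroupOf C) (A.subgroupOf C) W' x' y' := by
  have hCZc : ∀ c ∈ C, ∀ z ∈ Z, c * z * c⁻¹ = z := by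
    intro c hc z hz
    rw [h.CZ c hc z hz, mul_inv_cancel_right]
  have hCZ : C ≤ normalizer (Z : Set G) := by
    intro c hc
    rw [mem_normalizer_iff]
    intro z
    refine ⟨fun hz => by rw [hCZc c hc z hz]; exact hz, fun hz => ?_⟩
    have h1 := hCZc c⁻¹ (inv_mem hc) _ hz
    have e : c⁻¹ * (c * z * c⁻¹) * c⁻¹⁻¹ = z := by group
    rw [e] at h1
    rw [h1]
    exact hz
  have hnor : (Z.subgroupOf N).Normal := by
    refine normal_subgroupOf_of_le_normalizer fun n hn => ?_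
    rw [mem_normalizer_iff]
    intro z
    have hc : ∀ a ∈ N, ∀ b ∈ N, a * b = b * a := fun a ha b hb =>
      comm_of_sq h.sq ha hb
    constructor
    · intro hz
      rwa [hc n hn z (h.ZN hz), mul_inv_cancel_right]
    · intro hz
      have h1 := hc n hn _ (h.ZN hz)
      have e : n * z * n⁻¹ = z := by
        have e1 : n * (n * z * n⁻¹) = n * z := by rw [h1]; group
        exact mul_left_cancel e1
      rwa [e] at hz
  let _ := ML.Final.conjAct h.CN hCZ
  let mk : N →* N ⧸ Z.subgroupOf N := QuotientGroup.mk' (Z.subgroupOf N)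
  have hmk : Function.Surjective mk := QuotientGroup.mk'_surjective _
  have hmem : ∀ (g : C) (n : N), (g : G) * n * (g : G)⁻¹ ∈ N := fun g n =>
    (mem_normalizer_iff.1 (h.CN g.2) n).1 n.2
  have hsm : ∀ (g : C) (n : N), g • mk n = mk ⟨(g : G) * n * (g : G)⁻¹, hmem g n⟩ := fun _ _ => rfl
  have hone : ∀ a b : N, mk a = mk b ↔ (a : G) * (b : G)⁻¹ ∈ Z := by
    intro a b
    rw [← mul_inv_eq_one, ← map_inv, ← map_mul, ← MonoidHom.mem_ker, QuotientGroup.ker_mk']
    exact Iff.rfl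
  have hfix : ∀ (g : C) (n : N), g • mk n = mk n ↔ (g : G) * n * (g : G)⁻¹ * (n : G)⁻¹ ∈ Z := by
    intro g n
    rw [hsm, hone]
  set x' : N ⧸ Z.subgroupOf N := mk ⟨x, h.xN⟩ with hx
  set y' : N ⧸ Z.subgroupOf N := mk ⟨p, h.pN⟩ with hy
  set W' : Subgroup (N ⧸ Z.subgroupOf N) := (W.subgroupOf N).map mk with hW
  have hcom : ∀ {a b : G}, a * b = b * a → a * b * a⁻¹ * b⁻¹ ∈ Z := by
    intro a b e
    rw [e, mul_inv_cancel_right, mul_inv_cancel]
    exact one_mem _
  have hsub : ∀ {X : Subgroup G}, T ≤ X → X ≤ C → ¬ 2 ∣ T.relIndex X := fun {X} h1 h2 h3 =>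
    h.syl (h3.trans (Dvd.intro _ (relIndex_mul_relIndex T X C h1 h2)))
  have hTx : T ≤ C ⊓ centralizer ({x} : Set G) := le_inf h.TC fun t ht =>
    mem_centralizer_singleton_iff.2 (h.nx t (h.TC ht) (Subgroup.le_normalizer ht))
  have hAT : A ≤ T := h.Ax.trans (o2_le_of_sylow h.two (hsub hTx inf_le_left))
  have hAC : A ≤ C := hAT.trans h.TC
  -- the kernel
  have hker : ∀ c : C, (∀ m : N ⧸ Z.subgroupOf N, c • m = m) ↔ (c : G) ∈ centralizer (N : Set G) := by
    intro c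
    constructor
    · intro hc
      set K : Set G := {k | k ∈ C ∧ ∀ n ∈ N, k * n * k⁻¹ * n⁻¹ ∈ Z} with hK
      have hKC : ∀ g ∈ C, ∀ k ∈ K, g⁻¹ * k * g ∈ K := by
        rintro g hg k ⟨hk, hk2⟩
        refine ⟨mul_mem (mul_mem (inv_mem hg) hk) hg, fun n hn => ?_⟩
        have h1 := hk2 _ ((mem_normalizer_iff.1 (h.CN hg) n).1 hn)
        have h2 := (mem_normalizer_iff.1 (hCZ (inv_mem hg)) _).1 h1
        have e : g⁻¹ * (k * (g * n * g⁻¹) * k⁻¹ * (g * n * g⁻¹)⁻¹) * g⁻¹⁻¹ =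
            g⁻¹ * k * g * n * (g⁻¹ * k * g)⁻¹ * n⁻¹ := by group
        rwa [e] at h2
      have h1 : N ≤ centralizer K := by
        refine h.gen _ ?_ ?_ ?_
        · rw [mem_centralizer_iff]
          rintro k ⟨hk, hk2⟩
          exact h.stx k hk (hk2 x h.xN)
        · intro z hz
          rw [mem_centralizer_iff]
          rintro k ⟨hk, -⟩
          exact h.CZ k hk z hz
        · intro g hg
          have key : ∀ g ∈ C, ∀ u ∈ centralizer K, g * u * g⁻¹ ∈ centralizer K := by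
            intro g hg u hu
            rw [mem_centralizer_iff] at hu ⊢
            intro k hk
            have h2 := hu _ (hKC g hg k hk)
            calc k * (g * u * g⁻¹) = g * ((g⁻¹ * k * g) * u) * g⁻¹ := by group
              _ = g * (u * (g⁻¹ * k * g)) * g⁻¹ := by rw [h2]
              _ = g * u * g⁻¹ * k := by group
          rw [mem_normalizer_iff]
          intro u
          refine ⟨key g hg u, fun hu => ?_⟩
          have h2 := key g⁻¹ (inv_mem hg) _ hu
          have e : g⁻¹ * (g * u * g⁻¹) * g⁻¹⁻¹ = u := by group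
          rwa [e] at h2
      rw [mem_centralizer_iff]
      intro n hn
      exact (mem_centralizer_iff.1 (h1 hn) c ⟨c.2, fun m hm => (hfix c ⟨m, hm⟩).1 (hc _)⟩).symm
    · intro hc m
      obtain ⟨n, rfl⟩ := hmk m
      rw [hfix]
      exact hcom (mem_centralizer_iff.1 hc n n.2).symm
  -- the stabilisers
  have hsx : ∀ c : C, c ∈ MulAction.stabilizer C x' ↔ (c : G) ∈ C ⊓ centralizer ({x} : Set G) := by
    intro c
    rw [MulAction.mem_stabilizer_iff, hfix, mem_inf, mem_centralizer_singleton_iff]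
    exact ⟨fun h1 => ⟨c.2, h.stx c c.2 h1⟩, fun h1 => hcom h1.2⟩
  have hsy : ∀ c : C, c ∈ MulAction.stabilizer C y' ↔ (c : G) ∈ Sy := by
    intro c
    rw [MulAction.mem_stabilizer_iff, hfix]
    exact (h.sty c c.2).symm
  -- `N_C(T)`
  have hnT : ∀ g ∈ normalizer (T.subgroupOf C : Set C), (g : G) ∈ C ⊓ normalizer (T : Set G) := by
    intro g hg
    refine mem_inf.2 ⟨g.2, ?_⟩
    rw [mem_normalizer_iff]
    intro t
    constructor
    · intro ht
      exact (mem_normalizer_iff.1 hg ⟨t, h.TC ht⟩).1 ht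
    · intro ht
      have h1 : (g : G)⁻¹ * ((g : G) * t * (g : G)⁻¹) * (g : G)⁻¹⁻¹ ∈ T :=
        (mem_normalizer_iff.1 (inv_mem hg) ⟨(g : G) * t * (g : G)⁻¹, h.TC ht⟩).1 ht
      have e : (g : G)⁻¹ * ((g : G) * t * (g : G)⁻¹) * (g : G)⁻¹⁻¹ = t := by group
      rwa [e] at h1
  -- the index of the fixed space
  have hcvle : (centralizer (A : Set G)).subgroupOf N ≤ (cv (N ⧸ Z.subgroupOf N) (A.subgroupOf C : Set C)).comap mk := by
    intro n hn a ha
    refine (hfix a n).2 ?_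
    exact hcom (mem_centralizer_iff.1 (mem_subgroupOf.1 hn) a (mem_subgroupOf.1 ha))
  have hfxr : fxr C (⊤ : Subgroup (N ⧸ Z.subgroupOf N)) = (centralizer (N : Set G)).subgroupOf C := by
    ext c
    rw [mem_subgroupOf, ← hker]
    exact ⟨fun h m => h m (mem_top m), fun h m _ => h m⟩
  have hle : (cv (N ⧸ Z.subgroupOf N) (A.subgroupOf C : Set C)).index ≤
      (fxr C (⊤ : Subgroup (N ⧸ Z.subgroupOf N))).relIndex (A.subgroupOf C) := by
    rw [hfxr, relIndex_subgroupOf hAC, ← index_comap_of_surjective _ hmk]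
    exact (index_antitone hcvle).trans h.ex
  have huni : ∀ R : Subgroup C, IsMinPar (T.subgroupOf C) R → (∃ r ∈ R, r • x' ≠ x') →
      (∀ r ∈ R, ∀ w ∈ W', r • w ∈ W') ∧ ∀ r ∈ R, r • y' = y' := by
    intro R hR hmv
    have hR' := minPar_map h.TC hR
    have hRC : R.map C.subtype ≤ C := map_subtype_le R
    obtain ⟨r, hr, hrx⟩ := hmv
    have hRm : ∃ r ∈ R.map C.subtype, r * x ≠ x * r :=
      ⟨r, mem_map_of_mem C.subtype hr, fun e => hrx ((hfix r _).2 (hcom e))⟩
    have h1 := h.uni _ hR' hRC hRm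
    refine ⟨?_, ?_⟩
    · rintro r hr _ ⟨w, hw, rfl⟩
      rw [hsm]
      refine ⟨_, ?_, rfl⟩
      exact mem_subgroupOf.2 ((mem_normalizer_iff.1 (h1 (mem_map_of_mem C.subtype hr)).1 _).1 (mem_subgroupOf.1 hw))
    · intro r hr
      exact MulAction.mem_stabilizer_iff.1 ((hsy r).2 (h1 (mem_map_of_mem C.subtype hr)).2)
  refine ⟨N ⧸ Z.subgroupOf N, inferInstance, inferInstance, inferInstance, W', x', y', ?_⟩
  refine Quo.Pre.mk ?_ ?_ ?_ ?_ ?_ ?_ ?_ ?_ ?_ ?_ ?_ huni ?_ ?_ ?_ ?_ hle h.KC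
  · intro m
    obtain ⟨n, rfl⟩ := hmk m
    rw [← map_mul, ← map_one mk, hone]
    have h1 : (n : G) * n = 1 := h.sq n n.2
    simp [h1]
  · -- generation
    set U : Subgroup G := ((orb (⊤ : Subgroup C) x').comap mk).map N.subtype with hUd
    have hUmem : ∀ a : N, (a : G) ∈ U ↔ mk a ∈ orb (⊤ : Subgroup C) x' := by
      intro a
      constructor
      · rintro ⟨b, hb, hba⟩
        rw [← (Subtype.ext hba : b = a)]
        exact hb
      · exact fun ha => ⟨a, ha, rfl⟩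
    have h1 : N ≤ U := by
      refine h.gen U ((hUmem ⟨x, h.xN⟩).2 (mem_orb_self _ x')) ?_ ?_
      · intro z hz
        refine (hUmem ⟨z, h.ZN hz⟩).2 ?_
        have e : mk ⟨z, h.ZN hz⟩ = 1 := by
          rw [← map_one mk, hone]
          simpa using hz
        rw [e]
        exact one_mem _
      · have key : ∀ g ∈ C, ∀ a ∈ U, g * a * g⁻¹ ∈ U := by
          rintro g hg a ⟨b, hb, rfl⟩
          have h2 := smul_mem_orb (g := (⟨g, hg⟩ : C)) (mem_top _) hb
          rw [hsm ⟨g, hg⟩ b] at h2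
          exact (hUmem ⟨_, hmem ⟨g, hg⟩ b⟩).2 h2
        intro g hg
        rw [mem_normalizer_iff]
        intro a
        refine ⟨key g hg a, fun ha => ?_⟩
        have h2 := key g⁻¹ (inv_mem hg) _ ha
        have e : g⁻¹ * (g * a * g⁻¹) * g⁻¹⁻¹ = a := by group
        rwa [e] at h2
    rw [eq_top_iff]
    intro m _
    obtain ⟨n, rfl⟩ := hmk m
    exact (hUmem n).1 (h1 n.2)
  · exact h.two.comap_of_injective C.subtype C.subtype_injective
  · exact h.syl
  · intro h1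
    rw [hx, ← map_one mk, hone] at h1
    exact h.x1 (by simpa using h1)
  · intro h1
    rw [hy, ← map_one mk, hone] at h1
    exact h.p1 (by simpa using h1)
  · intro h1
    rw [hx, hy, hone] at h1
    apply h.xp
    have e : p⁻¹ = p := inv_eq_of_mul_eq_one_left (h.sq p h.pN)
    change x * p⁻¹ ∈ Z at h1
    rwa [e] at h1
  · intro g hg
    have h1 := hnT g hg
    exact MulAction.mem_stabilizer_iff.1 ((hsx g).2 (mem_inf.2 ⟨h1.1, mem_centralizer_singleton_iff.2 (h.nx g h1.1 h1.2)⟩))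
  · intro g hg
    exact MulAction.mem_stabilizer_iff.1 ((hsy g).2 (h.ny (hnT g hg)))
  · -- `|W| = 4`
    have h1 : mk.ker = Z.subgroupOf N := QuotientGroup.ker_mk' _
    rw [hW, ← relIndex_ker, h1, relIndex_subgroupOf h.WN, h.cW]
  · exact ⟨⟨x, h.xN⟩, mem_subgroupOf.2 h.xW, rfl⟩
  · intro a ha
    exact Subtype.ext (h.el a (mem_subgroupOf.1 ha))
  · exact sub_o2 hsx h.Ax
  · exact sub_o2 hsy h.Ay
  · by_contra hcon
    push Not at hcon
    apply h.mv
    intro a ha
    exact (hker ⟨a, hAC ha⟩).1 fun m => hcon ⟨a, hAC ha⟩ (mem_subgroupOf.2 ha) m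

/-- **THEOREM KL: contradiction** -/
theorem false (hML : ML.Final.MLK.{u, u}) (hKL : Quo.NoInp.{u, u}) : False := by
  obtain ⟨M, _, _, _, W', x', y', h'⟩ := h.pre
  exact h'.false hML hKL

end GIn

end Cfsg.Agent.Omega.KL.PlugG

end

section


/-!
# THEOREM KLF: the plug at group level (helper302; `Omega/KL/PlugG.lean` for `KLF.Def.Pre`)

`GPre T C N Z Y A E x` : `C` acts on `M := N / Z` (`N` elementary abelian, `Z ≤ N` centralised by `C`), `M = ⟨x̄ ^ C⟩`,
`T` a Sylow 2-subgroup of `C`, `C_C(x̄) = C_C(x) ≥ N_C(T)`, `Y ≤ N` normalised by `T`; every `T`-minimal `R ≤ C` which moves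
`x` has `[Y, O²(R)] = 1`; the elements of odd order of `C_C(Y)` are in `E`, `A` centralises `x ^ E`; `A ≤ O₂(C_C(x))`
elementary abelian, exact and non-trivial on `N`; `C` a K-group.

* **`GPre.pre`** : `KLF.Def.Pre` for `C` acting on `N / Z`.
-/

set_option autoImplicit false

namespace Cfsg.Agent.Omega.KLF.PlugG

open Subgroup Cfsg Cfsg.Agent.ZN
open Cfsg.Agent.ClassTwoFusion.Quad Cfsg.Agent.Omega.ML.MinFrame
open Cfsg.Agent.Omega.KL.PlugG (comm_of_sq minPar_map sub_o2)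
open Cfsg.Agent.MinSimple.MinParabolic (IsMinPar)
open Cfsg.Agent.MinSimple.VModule (o2_isPGroup o2_le le_o2 le_normalizer_o2 o2_le_of_sylow)

universe u

variable {G : Type u} [Group G]

/-- **The input of THEOREM KLF at group level** -/
structure GPre (T C N Z Y A E : Subgroup G) (x : G) : Prop where
  TC : T ≤ C
  two : IsPGroup 2 T
  syl : ¬ 2 ∣ T.relIndex C
  sq : ∀ n ∈ N, n * n = 1
  CN : C ≤ normalizer (N : Set G)
  ZN : Z ≤ N
  CZ : ∀ c ∈ C, ∀ z ∈ Z, c * z = z * c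
  xN : x ∈ N
  gen : ∀ U : Subgroup G, x ∈ U → Z ≤ U → C ≤ normalizer (U : Set G) → N ≤ U
  stx : ∀ c ∈ C, c * x * c⁻¹ * x⁻¹ ∈ Z → c * x = x * c
  nx : ∀ g ∈ C, g ∈ normalizer (T : Set G) → g * x = x * g
  YN : Y ≤ N
  TY : T ≤ normalizer (Y : Set G)
  uni : ∀ R : Subgroup G, IsMinPar T R → R ≤ C → (∃ r ∈ R, r * x ≠ x * r) →
    ∀ r ∈ R, Odd (orderOf r) → ∀ y ∈ Y, r * y = y * r
  cY : ∀ g ∈ C, Odd (orderOf g) → (∀ y ∈ Y, g * y = y * g) → g ∈ E
  cE : ∀ a ∈ A, ∀ k ∈ E, k ∈ C → a * (k * x * k⁻¹) = k * x * k⁻¹ * a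
  el : ∀ a ∈ A, a * a = 1
  Ax : A ≤ o2 (C ⊓ centralizer ({x} : Set G))
  mv : ¬ A ≤ centralizer (N : Set G)
  ex : (centralizer (A : Set G)).relIndex N ≤ (centralizer (N : Set G)).relIndex A
  KC : IsKGroup C

/-- an element `g` of odd order which centralises `z = [g, y]`, `z² = 1`, centralises `y` -/
theorem comm_of_odd {g y : G} (hg : Odd (orderOf g)) (hz : g * (g * y * g⁻¹ * y⁻¹) = g * y * g⁻¹ * y⁻¹ * g)
    (h2 : (g * y * g⁻¹ * y⁻¹) * (g * y * g⁻¹ * y⁻¹) = 1) : g * y = y * g := by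
  set z := g * y * g⁻¹ * y⁻¹ with hzd
  have hy : g * y * g⁻¹ = z * y := by rw [hzd]; group
  have key : ∀ n : ℕ, g ^ n * y * (g ^ n)⁻¹ = z ^ n * y := by
    intro n
    induction n with
    | zero => simp
    | succ n ih =>
      have hc : Commute g (z ^ n) := (show Commute g z from hz).pow_right n
      calc g ^ (n + 1) * y * (g ^ (n + 1))⁻¹ = g * (g ^ n * y * (g ^ n)⁻¹) * g⁻¹ := by rw [pow_succ']; group
        _ = g * z ^ n * y * g⁻¹ := by rw [ih]; group
        _ = z ^ n * (g * y * g⁻¹) := by rw [hc.eq]; group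
        _ = z ^ (n + 1) * y := by rw [hy, pow_succ]; group
  have h1 := key (orderOf g)
  rw [pow_orderOf_eq_one, one_mul, inv_one, mul_one] at h1
  have h3 : z ^ orderOf g = 1 := by
    have e : z ^ orderOf g * y = 1 * y := by rw [← h1, one_mul]
    exact mul_right_cancel e
  obtain ⟨k, hk⟩ := hg
  rw [hk, pow_succ, pow_mul, pow_two, h2, one_pow, one_mul] at h3
  have h4 : g * y * g⁻¹ = y := by rw [hy, h3, one_mul]
  calc g * y = g * y * g⁻¹ * g := by group
    _ = y * g := by rw [h4]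

namespace GPre

variable [Finite G] {T C N Z Y A E : Subgroup G} {x : G} (h : GPre T C N Z Y A E x)
include h

/-- **the input of THEOREM KLF** -/
theorem pre : ∃ (M : Type u) (_ : Group M) (_ : Finite M) (_ : MulDistribMulAction C M) (Y' : Subgroup M) (x' : M),
    KLF.Def.Pre (T.subgroupOf C) (A.subgroupOf C) (E.subgroupOf C) Y' x' := by
  have hCZc : ∀ c ∈ C, ∀ z ∈ Z, c * z * c⁻¹ = z := by
    intro c hc z hz
    rw [h.CZ c hc z hz, mul_inv_cancel_right]
  have hCZ : C ≤ normalizer (Z : Set G) := by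
    intro c hc
    rw [mem_normalizer_iff]
    intro z
    refine ⟨fun hz => by rw [hCZc c hc z hz]; exact hz, fun hz => ?_⟩
    have h1 := hCZc c⁻¹ (inv_mem hc) _ hz
    have e : c⁻¹ * (c * z * c⁻¹) * c⁻¹⁻¹ = z := by group
    rw [e] at h1
    rw [h1]
    exact hz
  have hnor : (Z.subgroupOf N).Normal := by
    refine normal_subgroupOf_of_le_normalizer fun n hn => ?_
    rw [mem_normalizer_iff]
    intro z
    have hc : ∀ a ∈ N, ∀ b ∈ N, a * b = b * a := fun a ha b hb =>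
      comm_of_sq h.sq ha hb
    constructor
    · intro hz
      rwa [hc n hn z (h.ZN hz), mul_inv_cancel_right]
    · intro hz
      have h1 := hc n hn _ (h.ZN hz)
      have e : n * z * n⁻¹ = z := by
        have e1 : n * (n * z * n⁻¹) = n * z := by rw [h1]; group
        exact mul_left_cancel e1
      rwa [e] at hz
  let _ := ML.Final.conjAct h.CN hCZ
  let mk : N →* N ⧸ Z.subgroupOf N := QuotientGroup.mk' (Z.subgroupOf N)
  have hmk : Function.Surjective mk := QuotientGroup.mk'_surjective _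
  have hmem : ∀ (g : C) (n : N), (g : G) * n * (g : G)⁻¹ ∈ N := fun g n =>
    (mem_normalizer_iff.1 (h.CN g.2) n).1 n.2
  have hsm : ∀ (g : C) (n : N), g • mk n = mk ⟨(g : G) * n * (g : G)⁻¹, hmem g n⟩ := fun _ _ => rfl
  have hone : ∀ a b : N, mk a = mk b ↔ (a : G) * (b : G)⁻¹ ∈ Z := by
    intro a b
    rw [← mul_inv_eq_one, ← map_inv, ← map_mul, ← MonoidHom.mem_ker, QuotientGroup.ker_mk']
    exact Iff.rfl
  have hfix : ∀ (g : C) (n : N), g • mk n = mk n ↔ (g : G) * n * (g : G)⁻¹ * (n : G)⁻¹ ∈ Z := by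
    intro g n
    rw [hsm, hone]
  set x' : N ⧸ Z.subgroupOf N := mk ⟨x, h.xN⟩ with hx
  set Y' : Subgroup (N ⧸ Z.subgroupOf N) := (Y.subgroupOf N).map mk with hY
  have hcom : ∀ {a b : G}, a * b = b * a → a * b * a⁻¹ * b⁻¹ ∈ Z := by
    intro a b e
    rw [e, mul_inv_cancel_right, mul_inv_cancel]
    exact one_mem _
  have hsub : ∀ {X : Subgroup G}, T ≤ X → X ≤ C → ¬ 2 ∣ T.relIndex X := fun {X} h1 h2 h3 =>
    h.syl (h3.trans (Dvd.intro _ (relIndex_mul_relIndex T X C h1 h2)))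
  have hTx : T ≤ C ⊓ centralizer ({x} : Set G) := le_inf h.TC fun t ht =>
    mem_centralizer_singleton_iff.2 (h.nx t (h.TC ht) (Subgroup.le_normalizer ht))
  have hAT : A ≤ T := h.Ax.trans (o2_le_of_sylow h.two (hsub hTx inf_le_left))
  have hAC : A ≤ C := hAT.trans h.TC
  -- the kernel
  have hker : ∀ c : C, (∀ m : N ⧸ Z.subgroupOf N, c • m = m) ↔ (c : G) ∈ centralizer (N : Set G) := by
    intro c
    constructor
    · intro hc
      set K : Set G := {k | k ∈ C ∧ ∀ n ∈ N, k * n * k⁻¹ * n⁻¹ ∈ Z} with hK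
      have hKC : ∀ g ∈ C, ∀ k ∈ K, g⁻¹ * k * g ∈ K := by
        rintro g hg k ⟨hk, hk2⟩
        refine ⟨mul_mem (mul_mem (inv_mem hg) hk) hg, fun n hn => ?_⟩
        have h1 := hk2 _ ((mem_normalizer_iff.1 (h.CN hg) n).1 hn)
        have h2 := (mem_normalizer_iff.1 (hCZ (inv_mem hg)) _).1 h1
        have e : g⁻¹ * (k * (g * n * g⁻¹) * k⁻¹ * (g * n * g⁻¹)⁻¹) * g⁻¹⁻¹ =
            g⁻¹ * k * g * n * (g⁻¹ * k * g)⁻¹ * n⁻¹ := by group
        rwa [e] at h2
      have h1 : N ≤ centralizer K := by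
        refine h.gen _ ?_ ?_ ?_
        · rw [mem_centralizer_iff]
          rintro k ⟨hk, hk2⟩
          exact h.stx k hk (hk2 x h.xN)
        · intro z hz
          rw [mem_centralizer_iff]
          rintro k ⟨hk, -⟩
          exact h.CZ k hk z hz
        · intro g hg
          have key : ∀ g ∈ C, ∀ u ∈ centralizer K, g * u * g⁻¹ ∈ centralizer K := by
            intro g hg u hu
            rw [mem_centralizer_iff] at hu ⊢
            intro k hk
            have h2 := hu _ (hKC g hg k hk)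
            calc k * (g * u * g⁻¹) = g * ((g⁻¹ * k * g) * u) * g⁻¹ := by group
              _ = g * (u * (g⁻¹ * k * g)) * g⁻¹ := by rw [h2]
              _ = g * u * g⁻¹ * k := by group
          rw [mem_normalizer_iff]
          intro u
          refine ⟨key g hg u, fun hu => ?_⟩
          have h2 := key g⁻¹ (inv_mem hg) _ hu
          have e : g⁻¹ * (g * u * g⁻¹) * g⁻¹⁻¹ = u := by group
          rwa [e] at h2
      rw [mem_centralizer_iff]
      intro n hn
      exact (mem_centralizer_iff.1 (h1 hn) c ⟨c.2, fun m hm => (hfix c ⟨m, hm⟩).1 (hc _)⟩).symm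
    · intro hc m
      obtain ⟨n, rfl⟩ := hmk m
      rw [hfix]
      exact hcom (mem_centralizer_iff.1 hc n n.2).symm
  -- the stabiliser
  have hsx : ∀ c : C, c ∈ MulAction.stabilizer C x' ↔ (c : G) ∈ C ⊓ centralizer ({x} : Set G) := by
    intro c
    rw [MulAction.mem_stabilizer_iff, hfix, mem_inf, mem_centralizer_singleton_iff]
    exact ⟨fun h1 => ⟨c.2, h.stx c c.2 h1⟩, fun h1 => hcom h1.2⟩
  -- `N_C(T)`
  have hnT : ∀ g ∈ normalizer (T.subgroupOf C : Set C), (g : G) ∈ C ⊓ normalizer (T : Set G) := by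
    intro g hg
    refine mem_inf.2 ⟨g.2, ?_⟩
    rw [mem_normalizer_iff]
    intro t
    constructor
    · intro ht
      exact (mem_normalizer_iff.1 hg ⟨t, h.TC ht⟩).1 ht
    · intro ht
      have h1 : (g : G)⁻¹ * ((g : G) * t * (g : G)⁻¹) * (g : G)⁻¹⁻¹ ∈ T :=
        (mem_normalizer_iff.1 (inv_mem hg) ⟨(g : G) * t * (g : G)⁻¹, h.TC ht⟩).1 ht
      have e : (g : G)⁻¹ * ((g : G) * t * (g : G)⁻¹) * (g : G)⁻¹⁻¹ = t := by group
      rwa [e] at h1
  -- the index of the fixed space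
  have hcvle : (centralizer (A : Set G)).subgroupOf N ≤ (cv (N ⧸ Z.subgroupOf N) (A.subgroupOf C : Set C)).comap mk := by
    intro n hn a ha
    refine (hfix a n).2 ?_
    exact hcom (mem_centralizer_iff.1 (mem_subgroupOf.1 hn) a (mem_subgroupOf.1 ha))
  have hfxr : fxr C (⊤ : Subgroup (N ⧸ Z.subgroupOf N)) = (centralizer (N : Set G)).subgroupOf C := by
    ext c
    rw [mem_subgroupOf, ← hker]
    exact ⟨fun h m => h m (mem_top m), fun h m _ => h m⟩
  have hle : (cv (N ⧸ Z.subgroupOf N) (A.subgroupOf C : Set C)).index ≤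
      (fxr C (⊤ : Subgroup (N ⧸ Z.subgroupOf N))).relIndex (A.subgroupOf C) := by
    rw [hfxr, relIndex_subgroupOf hAC, ← index_comap_of_surjective _ hmk]
    exact (index_antitone hcvle).trans h.ex
  -- commuting with a representative
  have hsmY : ∀ (g : C) (y : N), (g : G) * y = y * g → g • mk y = mk y := fun g y e => (hfix g y).2 (hcom e)
  refine ⟨N ⧸ Z.subgroupOf N, inferInstance, inferInstance, inferInstance, Y', x', ?_⟩
  refine KLF.Def.Pre.mk ?_ ?_ ?_ ?_ ?_ ?_ ?_ ?_ ?_ ?_ ?_ ?_ hle ?_ h.KC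
  · intro m
    obtain ⟨n, rfl⟩ := hmk m
    rw [← map_mul, ← map_one mk, hone]
    have h1 : (n : G) * n = 1 := h.sq n n.2
    simp [h1]
  · -- generation
    set U : Subgroup G := ((orb (⊤ : Subgroup C) x').comap mk).map N.subtype with hUd
    have hUmem : ∀ a : N, (a : G) ∈ U ↔ mk a ∈ orb (⊤ : Subgroup C) x' := by
      intro a
      constructor
      · rintro ⟨b, hb, hba⟩
        rw [← (Subtype.ext hba : b = a)]
        exact hb
      · exact fun ha => ⟨a, ha, rfl⟩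
    have h1 : N ≤ U := by
      refine h.gen U ((hUmem ⟨x, h.xN⟩).2 (mem_orb_self _ x')) ?_ ?_
      · intro z hz
        refine (hUmem ⟨z, h.ZN hz⟩).2 ?_
        have e : mk ⟨z, h.ZN hz⟩ = 1 := by
          rw [← map_one mk, hone]
          simpa using hz
        rw [e]
        exact one_mem _
      · have key : ∀ g ∈ C, ∀ a ∈ U, g * a * g⁻¹ ∈ U := by
          rintro g hg a ⟨b, hb, rfl⟩
          have h2 := smul_mem_orb (g := (⟨g, hg⟩ : C)) (mem_top _) hb
          rw [hsm ⟨g, hg⟩ b] at h2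
          exact (hUmem ⟨_, hmem ⟨g, hg⟩ b⟩).2 h2
        intro g hg
        rw [mem_normalizer_iff]
        intro a
        refine ⟨key g hg a, fun ha => ?_⟩
        have h2 := key g⁻¹ (inv_mem hg) _ ha
        have e : g⁻¹ * (g * a * g⁻¹) * g⁻¹⁻¹ = a := by group
        rwa [e] at h2
    rw [eq_top_iff]
    intro m _
    obtain ⟨n, rfl⟩ := hmk m
    exact (hUmem n).1 (h1 n.2)
  · exact h.two.comap_of_injective C.subtype C.subtype_injective
  · exact h.syl
  · intro t ht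
    exact hsmY t _ (h.nx t t.2 (Subgroup.le_normalizer (mem_subgroupOf.1 ht)))
  · -- `T` normalises `Y`
    rintro t ht _ ⟨w, hw, rfl⟩
    rw [hsm]
    refine ⟨_, ?_, rfl⟩
    exact mem_subgroupOf.2 ((mem_normalizer_iff.1 (h.TY (mem_subgroupOf.1 ht)) _).1 (mem_subgroupOf.1 hw))
  · -- `N_C(T)` fixes `x`
    rintro ⟨g, hg, hgx⟩
    have h1 := hnT g hg
    exact absurd (hsmY g _ (h.nx g h1.1 h1.2)) hgx
  · -- a mover of `x` centralises `Y`
    rintro R hR ⟨r, hr, hrx⟩ p hp ho _ ⟨w, hw, rfl⟩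
    refine hsmY p w (h.uni (R.map C.subtype) (minPar_map h.TC hR) (map_subtype_le R)
      ⟨r, mem_map_of_mem C.subtype hr, fun e => hrx (hsmY r _ e)⟩ p (mem_map_of_mem C.subtype hp) ?_ w
      (mem_subgroupOf.1 hw))
    rwa [Subgroup.orderOf_coe]
  · -- the elements of odd order of `C(Y)`
    intro g ho hgY
    have ho' : Odd (orderOf (g : G)) := by rwa [Subgroup.orderOf_coe]
    refine mem_subgroupOf.2 (h.cY g g.2 ho' fun y hy => ?_)
    have h1 : (g : G) * y * (g : G)⁻¹ * y⁻¹ ∈ Z :=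
      (hfix g ⟨y, h.YN hy⟩).1 (hgY _ ⟨⟨y, h.YN hy⟩, mem_subgroupOf.2 hy, rfl⟩)
    exact comm_of_odd ho' (h.CZ g g.2 _ h1) (h.sq _ (h.ZN h1))
  · -- `A` centralises `x ^ E`
    intro a ha k hk
    rw [hx, hsm]
    exact hsmY a _ (h.cE a (mem_subgroupOf.1 ha) k (mem_subgroupOf.1 hk) k.2)
  · intro a ha
    exact Subtype.ext (h.el a (mem_subgroupOf.1 ha))
  · exact sub_o2 hsx h.Ax
  · by_contra hcon
    push Not at hcon
    apply h.mv
    intro a ha
    exact (hker ⟨a, hAC ha⟩).1 fun m => hcon ⟨a, hAC ha⟩ (mem_subgroupOf.2 ha) m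

end GPre

end Cfsg.Agent.Omega.KLF.PlugG

end

section


/-!
# THEOREM KLF: tools for the plug (helper302)

* `comm_of_mod` : `T` a Sylow 2-subgroup of `C` which centralises `x`, `Z` an elementary abelian 2-group centralised by
  `C` : `[c, x] ∈ Z` only for `c ∈ C_C(x)`;
* `relIndex_sup_of_le` : `|NZ : C_{NZ}(A)| = |N : C_N(A)|` for `Z ≤ C(A)`.
-/

set_option autoImplicit false

namespace Cfsg.Agent.Omega.KLF.PlugG

open Subgroup
open Cfsg.Agent.Omega.KL.PlugG (comm_of_sq)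

universe u

variable {G : Type u} [Group G]

/-- the stabiliser of `x` modulo a centralised elementary abelian 2-group is the centraliser of `x` -/
theorem comm_of_mod [Finite G] {T C Z : Subgroup G} {x : G} (hTC : T ≤ C) (syl : ¬ 2 ∣ T.relIndex C)
    (hTx : ∀ t ∈ T, t * x = x * t) (hCZ : ∀ c ∈ C, ∀ z ∈ Z, c * z = z * c) (hZ : ∀ z ∈ Z, z * z = 1) {c : G}
    (hc : c ∈ C) (hcx : c * x * c⁻¹ * x⁻¹ ∈ Z) : c * x = x * c := by
  have hmulz : ∀ a b : G, a ∈ C → a * x * a⁻¹ * x⁻¹ ∈ Z → b * x * b⁻¹ * x⁻¹ ∈ Z →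
      a * b * x * (a * b)⁻¹ * x⁻¹ = (a * x * a⁻¹ * x⁻¹) * (b * x * b⁻¹ * x⁻¹) := by
    intro a b ha ha' hb
    have h1 := hCZ a ha _ hb
    calc a * b * x * (a * b)⁻¹ * x⁻¹ = a * (b * x * b⁻¹ * x⁻¹) * (x * a⁻¹ * x⁻¹) := by group
      _ = (b * x * b⁻¹ * x⁻¹) * (a * x * a⁻¹ * x⁻¹) := by rw [h1]; group
      _ = (a * x * a⁻¹ * x⁻¹) * (b * x * b⁻¹ * x⁻¹) := comm_of_sq hZ hb ha'
  let K : Subgroup G :=
    { carrier := {g | g ∈ C ∧ g * x * g⁻¹ * x⁻¹ ∈ Z}
      one_mem' := ⟨one_mem _, by simp⟩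
      mul_mem' := by
        rintro a b ⟨ha, ha'⟩ ⟨hb, hb'⟩
        refine ⟨mul_mem ha hb, ?_⟩
        rw [hmulz a b ha ha' hb']
        exact mul_mem ha' hb'
      inv_mem' := by
        rintro a ⟨ha, ha'⟩
        refine ⟨inv_mem ha, ?_⟩
        have h1 := hCZ _ (inv_mem ha) _ (inv_mem ha')
        have e : a⁻¹ * x * a⁻¹⁻¹ * x⁻¹ = a⁻¹ * (a * x * a⁻¹ * x⁻¹)⁻¹ * a := by group
        rw [e, h1, inv_mul_cancel_right]
        exact inv_mem ha' }
  let φ : K →* G := MonoidHom.mk' (fun g => (g : G) * x * (g : G)⁻¹ * x⁻¹) fun a b => hmulz a b a.2.1 a.2.2 b.2.2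
  have hKC : K ≤ C := fun g hg => hg.1
  have hTK : T ≤ K := fun t ht => ⟨hTC ht, by
    rw [hTx t ht, mul_inv_cancel_right, mul_inv_cancel]
    exact one_mem _⟩
  have h1 : T.subgroupOf K ≤ φ.ker := by
    intro t ht
    rw [MonoidHom.mem_ker]
    change (t : G) * x * (t : G)⁻¹ * x⁻¹ = 1
    rw [hTx t (mem_subgroupOf.1 ht), mul_inv_cancel_right, mul_inv_cancel]
  have h2 : ¬ 2 ∣ Nat.card φ.range := by
    rw [← index_ker]
    intro h
    exact syl ((h.trans (index_dvd_of_le h1)).trans (Dvd.intro _ (relIndex_mul_relIndex T K C hTK hKC)))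
  have h3 : IsPGroup 2 φ.range := by
    rintro ⟨_, ⟨g, rfl⟩⟩
    refine ⟨1, Subtype.ext ?_⟩
    rw [pow_one, pow_two]
    exact hZ _ g.2.2
  have h4 : Nat.card φ.range = 1 := by
    obtain ⟨n, hn⟩ := IsPGroup.iff_card.1 h3
    rcases Nat.eq_zero_or_pos n with h0 | h0
    · rw [hn, h0, pow_zero]
    · exact absurd (hn ▸ dvd_pow_self 2 h0.ne') h2
  have h5 : φ.range = ⊥ := card_eq_one.1 h4
  have h6 : φ ⟨c, hc, hcx⟩ ∈ φ.range := ⟨_, rfl⟩
  rw [h5, mem_bot] at h6
  change c * x * c⁻¹ * x⁻¹ = 1 at h6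
  rwa [mul_inv_eq_one, mul_inv_eq_iff_eq_mul] at h6

/-- `|NZ : C_{NZ}(A)| ≤ |N : C_N(A)|` for `Z ≤ C(A)` -/
theorem relIndex_sup_le [Finite G] {N Z K : Subgroup G} (hN : ∀ n ∈ N, ∀ z ∈ Z, n * z = z * n) (hZ : Z ≤ K) :
    K.relIndex (N ⊔ Z) ≤ K.relIndex N := by
  have hmem : ∀ g ∈ N ⊔ Z, ∃ n ∈ N, ∃ z ∈ Z, n * z = g := by
    intro g hg
    rw [sup_eq_closure_mul] at hg
    refine closure_induction (p := fun g _ => ∃ n ∈ N, ∃ z ∈ Z, n * z = g) ?_ ?_ ?_ ?_ hg
    · rintro _ ⟨n, hn, z, hz, rfl⟩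
      exact ⟨n, hn, z, hz, rfl⟩
    · exact ⟨1, one_mem _, 1, one_mem _, mul_one 1⟩
    · rintro _ _ _ _ ⟨n, hn, z, hz, rfl⟩ ⟨m, hm, w, hw, rfl⟩
      refine ⟨n * m, mul_mem hn hm, z * w, mul_mem hz hw, ?_⟩
      calc n * m * (z * w) = n * (m * z) * w := by group
        _ = n * z * (m * w) := by rw [hN m hm z hz]; group
    · rintro _ _ ⟨n, hn, z, hz, rfl⟩
      refine ⟨n⁻¹, inv_mem hn, z⁻¹, inv_mem hz, ?_⟩
      rw [← mul_inv_rev, hN n hn z hz]
  have hf : Finite (N ⧸ K.subgroupOf N) := inferInstance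
  refine Nat.card_le_card_of_surjective
    (Quotient.map' (inclusion (le_sup_left : N ≤ N ⊔ Z)) ?_ : (N ⧸ K.subgroupOf N) → (N ⊔ Z : Subgroup G) ⧸ K.subgroupOf (N ⊔ Z)) ?_
  · intro a b h
    rw [QuotientGroup.leftRel_apply] at h ⊢
    exact h
  · intro q
    induction q using QuotientGroup.induction_on with
    | H g =>
      obtain ⟨n, hn, z, hz, e⟩ := hmem g g.2
      refine ⟨QuotientGroup.mk ⟨n, hn⟩, ?_⟩
      change QuotientGroup.mk (inclusion (le_sup_left : N ≤ N ⊔ Z) ⟨n, hn⟩) = QuotientGroup.mk g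
      rw [QuotientGroup.eq, mem_subgroupOf]
      change n⁻¹ * (g : G) ∈ K
      rw [← e, inv_mul_cancel_left]
      exact hZ hz

end Cfsg.Agent.Omega.KLF.PlugG

end

section


/-!
# THEOREM KLF (#21950 (3) = #22692 (8), in the form of #22912 (c)): `Pre → Out` for a section (helper462)

* `exists_two_pow`, `sup_eq_top`, `mem_of_odd`, `fix_of_odd` : elements of odd order (`O²(X)`);
* `exists_atom` : an exact atom `B ≤ A`, faithful on `M`;
* `Mid` : the situation in `X₀ ≥ T` minimal with `[⟨x^X₀⟩, B] ≠ 1`;  `exists_mid`;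
* `Mid.exact` : a `T`-fixed vector `n ≠ 1` of `N = M / C_M(O²(X₀))` : `B` is faithful and exact on `⟨n^X₀⟩`,
  `N = ⟨n^X₀⟩ C_N(B)`;  `Mid.mem_orb` : `⟨n^X₀⟩` contains all `T`-fixed vectors;  `Mid.out`;
* **`exists_out`**.
-/

set_option autoImplicit false

namespace Cfsg.Agent.Omega.KLF.Low

open Subgroup Cfsg Cfsg.Agent.ZN Cfsg.Agent.ClassTwoFusion.Quad Cfsg.Agent.Omega.ML.MinFrame
open Cfsg.Agent.Omega.ML.Final Cfsg.Agent.Omega.KL.GenTool Cfsg.Agent.Omega.KLF.Def
open Cfsg.Agent.MinSimple.MinParabolic (IsMinPar le_of_forall)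
open Cfsg.Agent.MinSimple.VModule (o2_isPGroup o2_le le_o2 le_normalizer_o2 o2_le_of_sylow)
open Cfsg.Agent.Omega.NOThree.NoOver (relIndex_ne)

universe u v

/-! ### Elements of odd order -/

section odd

variable {X : Type*} [Group X]

theorem exists_two_pow [Finite X] (g : X) : ∃ a : ℕ, Odd (orderOf (g ^ 2 ^ a)) := by
  obtain ⟨a, m, hm, h⟩ := Nat.exists_eq_two_pow_mul_odd (orderOf_pos g).ne'
  refine ⟨a, ?_⟩
  rw [orderOf_pow_of_dvd (by positivity) (Dvd.intro m h.symm), h, Nat.mul_div_cancel_left _ (by positivity)]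
  exact hm

/-- `X = O²(X) T` -/
theorem sup_eq_top [Finite X] {T K : Subgroup X} (hK : K.Normal) (syl : ¬ 2 ∣ T.index)
    (ho : ∀ g : X, Odd (orderOf g) → g ∈ K) : K ⊔ T = ⊤ := by
  have h1 : IsPGroup 2 (X ⧸ K) := by
    intro q
    obtain ⟨g, rfl⟩ := QuotientGroup.mk_surjective q
    obtain ⟨a, ha⟩ := exists_two_pow g
    exact ⟨a, (QuotientGroup.eq_one_iff (g ^ 2 ^ a)).2 (ho _ ha)⟩
  obtain ⟨n, hn⟩ := IsPGroup.iff_card.1 h1
  have h2 : (K ⊔ T).index ∣ 2 ^ n := by
    rw [← hn]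
    exact index_dvd_of_le le_sup_left
  obtain ⟨k, -, hk⟩ := (Nat.dvd_prime_pow Nat.prime_two).1 h2
  have hk0 : k = 0 := by
    by_contra h0
    exact syl (((dvd_pow_self 2 h0).trans (dvd_of_eq hk.symm)).trans (index_dvd_of_le le_sup_right))
  rw [← index_eq_one, hk, hk0, pow_zero]

/-- `O²(X) ≤ K` if `X = K T` -/
theorem mem_of_odd [Finite X] {T K : Subgroup X} (hK : K.Normal) (two : IsPGroup 2 T) (h : K ⊔ T = ⊤) {g : X}
    (hg : Odd (orderOf g)) : g ∈ K := by
  have h0 : g ∈ K ⊔ T := h ▸ mem_top g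
  obtain ⟨k, hk, t, ht, rfl⟩ := mem_sup_of_normal_left.1 h0
  obtain ⟨n, hn⟩ := two ⟨t, ht⟩
  have h1 : t ^ 2 ^ n = 1 := congrArg Subtype.val hn
  have e : ((k * t : X) : X ⧸ K) = (t : X ⧸ K) := by
    rw [QuotientGroup.mk_mul, (QuotientGroup.eq_one_iff k).2 hk, one_mul]
  have h2 : orderOf ((k * t : X) : X ⧸ K) ∣ 2 ^ n := by
    rw [e]
    apply orderOf_dvd_of_pow_eq_one
    rw [← QuotientGroup.mk_pow, h1, QuotientGroup.mk_one]
  have h3 : orderOf ((k * t : X) : X ⧸ K) ∣ orderOf (k * t) := orderOf_map_dvd (QuotientGroup.mk' K) (k * t)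
  have h4 : Nat.Coprime (2 ^ n) (orderOf (k * t)) := (Nat.coprime_two_left.2 hg).pow_left n
  have h5 : orderOf ((k * t : X) : X ⧸ K) = 1 := Nat.eq_one_of_dvd_coprimes h4 h2 h3
  exact (QuotientGroup.eq_one_iff _).1 (orderOf_eq_one_iff.1 h5)

/-- the group generated by the elements of odd order -/
def od (X : Type*) [Group X] : Subgroup X := closure {g | Odd (orderOf g)}

theorem od_normal : (od X).Normal := by
  refine ⟨fun n hn g => ?_⟩
  have h1 : od X ≤ (od X).comap (MulAut.conj g).toMonoidHom := by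
    conv_lhs => rw [od]
    rw [closure_le]
    intro k hk
    refine subset_closure ?_
    change Odd (orderOf (MulAut.conj g k))
    rw [MulEquiv.orderOf_eq]
    exact hk
  exact h1 hn

theorem mem_od {g : X} (hg : Odd (orderOf g)) : g ∈ od X := subset_closure hg

/-- a vector which is fixed by `T` and by the elements of odd order -/
theorem fix_of_odd [Finite X] {T P : Subgroup X} (syl : ¬ 2 ∣ T.relIndex P) {α : Type*} [MulAction X α]
    {v : α} (hodd : ∀ g ∈ P, Odd (orderOf g) → g • v = v) (hT : ∀ t ∈ T, t • v = v) : ∀ g ∈ P, g • v = v := by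
  intro g hg
  have h1 : od P ⊔ T.subgroupOf P = ⊤ := sup_eq_top od_normal syl fun g hg => mem_od hg
  have h2 : od P ⊔ T.subgroupOf P ≤ (MulAction.stabilizer X v).subgroupOf P := by
    refine sup_le ?_ fun t ht => hT _ ht
    rw [od, closure_le]
    intro k hk
    exact hodd k k.2 (by rwa [orderOf_coe])
  rw [h1] at h2
  exact h2 (mem_top (⟨g, hg⟩ : P))

end odd

/-! ### An atom -/

section atom

variable {X : Type u} [Group X] [Finite X] {M : Type v} [Group M] [Finite M] [MulDistribMulAction X M]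
  {T A E : Subgroup X} {Y : Subgroup M} {x : M}

/-- a complement in an elementary abelian group -/
theorem exists_compl {A F : Subgroup X} (hel : ∀ a ∈ A, a * a = 1) :
    ∃ B : Subgroup X, B ≤ A ∧ F ⊓ B = ⊥ ∧ ∀ a ∈ A, ∃ b ∈ B, ∃ f ∈ F, a = b * f := by
  have hfin : {B : Subgroup X | B ≤ A ∧ F ⊓ B = ⊥}.Finite := Set.toFinite _
  obtain ⟨B, hB⟩ := hfin.exists_maximal ⟨⊥, bot_le, inf_bot_eq _⟩
  obtain ⟨hBA, hBF⟩ := hB.prop
  refine ⟨B, hBA, hBF, fun a ha => ?_⟩
  have hcomm : ∀ a ∈ A, ∀ b ∈ A, a * b = b * a := by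
    intro a ha b hb
    have e : ∀ c ∈ A, c⁻¹ = c := fun c hc => inv_eq_of_mul_eq_one_right (hel c hc)
    rw [← e _ (A.mul_mem ha hb), mul_inv_rev, e a ha, e b hb]
  have hcB : ∀ b ∈ B, a * b = b * a := fun b hb => hcomm a ha b (hBA hb)
  by_cases h1 : F ⊓ adj B a (hel a ha) hcB = ⊥
  · have h2 : adj B a (hel a ha) hcB ≤ B := by
      refine hB.le_of_ge ⟨?_, h1⟩ fun b hb => Or.inl hb
      rintro g (hg | hg)
      · exact hBA hg
      · have h3 := A.mul_mem (hBA hg) ha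
        rwa [mul_assoc, hel a ha, mul_one] at h3
    exact ⟨a, h2 (Or.inr (by rw [hel a ha]; exact B.one_mem)), 1, F.one_mem, (mul_one a).symm⟩
  · obtain ⟨⟨f, hf⟩, hf1'⟩ := ne_bot_iff_exists_ne_one.1 h1
    have hf1 : f ≠ 1 := fun h2 => hf1' (Subtype.ext h2)
    obtain ⟨hfF, hfB | hfB⟩ := hf
    · exact absurd (mem_bot.1 (hBF ▸ (⟨hfF, hfB⟩ : f ∈ F ⊓ B))) hf1
    · refine ⟨_, B.inv_mem hfB, f, hfF, ?_⟩
      rw [mul_inv_rev, inv_mul_cancel_right]
      exact (inv_eq_of_mul_eq_one_right (hel a ha)).symm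

theorem exists_atom (ml : MLK.{u, v}) (h : Pre T A E Y x) : ∃ B : Subgroup X, B ≤ A ∧
    fxr X (⊤ : Subgroup M) ⊓ B = ⊥ ∧ B ≠ ⊥ ∧ (cv M (B : Set X)).index = Nat.card B ∧
    ∀ C : Subgroup X, C ≤ B → C ≠ ⊥ → C ≠ B → Nat.card C < (cv M (C : Set X)).index := by
  set F := fxr X (⊤ : Subgroup M) with hF
  have hno : ∀ C : Subgroup X, C ≤ A → F ⊓ C = ⊥ → Nat.card C ≤ (cv M (C : Set X)).index := by
    intro C hC hCF
    have h1 := no ml h.KX h.sq h.two h.syl h.fx h.gen (A := C) (fun a ha => h.el a (hC ha)) (hC.trans h.Ax)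
    rwa [← hF, ← inf_relIndex_right, hCF, relIndex_bot_left] at h1
  obtain ⟨B, hBA, hBF, hAB⟩ := exists_compl (F := F) h.el
  have hrel : F.relIndex A ≤ Nat.card B := by
    rw [← relIndex_bot_left, ← hBF, inf_relIndex_right]
    have h1 : A ≤ B ⊔ F := fun a ha => by
      obtain ⟨b, hb, f, hf, rfl⟩ := hAB a ha
      exact mul_mem (mem_sup_left hb) (mem_sup_right hf)
    have hn : F.Normal := fxr_normal fun _ _ _ => mem_top _
    rw [← relIndex_sup_right (K := F) (H := B)]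
    exact relIndex_le_of_le_right h1 (relIndex_ne _ _)
  have hBe : (cv M (B : Set X)).index = Nat.card B := by
    refine le_antisymm ?_ (hno B hBA hBF)
    have h1 : (cv M (B : Set X)).index ≤ (cv M (A : Set X)).index :=
      index_antitone (cv_anti (SetLike.coe_subset_coe.2 hBA))
    exact h1.trans (h.exact.trans hrel)
  have hB1 : B ≠ ⊥ := by
    rintro rfl
    obtain ⟨a, ha, m, ham⟩ := h.mv
    obtain ⟨b, hb, f, hf, rfl⟩ := hAB a ha
    rw [mem_bot.1 hb, one_mul] at ham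
    exact ham (hf m (mem_top m))
  have hfin : {C : Subgroup X | C ≤ B ∧ C ≠ ⊥ ∧ (cv M (C : Set X)).index = Nat.card C}.Finite := Set.toFinite _
  obtain ⟨C, hC⟩ := hfin.exists_minimal ⟨B, le_rfl, hB1, hBe⟩
  obtain ⟨hCB, hC1, hCe⟩ := hC.prop
  have hb : ∀ D : Subgroup X, D ≤ B → F ⊓ D = ⊥ := fun D hD =>
    le_bot_iff.1 ((inf_le_inf_left F hD).trans hBF.le)
  refine ⟨C, hCB.trans hBA, hb C hCB, hC1, hCe, fun D hD hD1 hDC => ?_⟩
  refine lt_of_le_of_ne (hno D (hD.trans (hCB.trans hBA)) (hb D (hD.trans hCB))) fun h1 => hDC ?_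
  exact le_antisymm hD (hC.le_of_le ⟨hD.trans hCB, hD1, h1.symm⟩ hD)

end atom

/-! ### The middle -/

/-- the situation in `X₀` -/
structure Mid {X : Type u} [Group X] {M : Type v} [Group M] [MulDistribMulAction X M] (T A : Subgroup X)
    (Y : Subgroup M) (x : M) : Prop where
  ml : MLK.{u, v}
  sq : ∀ m : M, m * m = 1
  two : IsPGroup 2 T
  syl : ¬ 2 ∣ T.index
  fx : ∀ t ∈ T, t • x = x
  tY : ∀ t ∈ T, ∀ w ∈ Y, t • w ∈ Y
  mN : (∃ g ∈ normalizer (T : Set X), g • x ≠ x) →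
    ∀ g ∈ normalizer (T : Set X), Odd (orderOf g) → ∀ w ∈ Y, g • w = w
  mP : ∀ P : Subgroup X, IsMinPar T P → (∃ p ∈ P, p • x ≠ x) → ∀ p ∈ P, Odd (orderOf p) → ∀ w ∈ Y, p • w = w
  mY : ∃ g : X, Odd (orderOf g) ∧ ∃ w ∈ Y, g • w ≠ w
  mx : ∃ g : X, g • x ≠ x
  AT : A ≤ T
  A1 : A ≠ ⊥
  el : ∀ a ∈ A, a * a = 1
  low : ∀ R : Subgroup X, T ≤ R → R ≠ ⊤ → A ≤ o2 R
  fU : A ⊓ fxr X (orb (⊤ : Subgroup X) x) = ⊥
  le : (cv M (A : Set X)).index ≤ Nat.card A
  KX : IsKGroup X

section mid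

variable {X : Type u} [Group X] [Finite X] {M : Type v} [Group M] [Finite M] [MulDistribMulAction X M]
  {T A E : Subgroup X} {Y : Subgroup M} {x : M}

omit [Finite X] [Finite M] in
theorem cv_map {R : Subgroup X} (C : Subgroup R) :
    cv M ((C.map R.subtype : Subgroup X) : Set X) = cv M (C : Set R) := by
  ext m
  constructor
  · exact fun h c hc => h c ⟨c, hc, rfl⟩
  · rintro h _ ⟨c, hc, rfl⟩
    exact h c hc

omit [Finite X] in
/-- `O₂(L) ∩ R ≤ O₂(R)` for `R ≤ L` -/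
theorem o2_inf_self {L R : Subgroup X} (h : R ≤ L) : o2 L ⊓ R ≤ o2 R :=
  o2_inf_le le_rfl (fun _ hg _ hx => R.mul_mem (R.mul_mem hg hx) (R.inv_mem hg)) h

theorem exists_mid (ml : MLK.{u, v}) (h : Pre T A E Y x) : ∃ (R B : Subgroup X), T ≤ R ∧ B ≤ A ∧
    Mid (X := R) (T.subgroupOf R) (B.subgroupOf R) Y x := by
  obtain ⟨B, hBA, hBF, hB1, hBe, hBa⟩ := exists_atom ml h
  have hTs : T ≤ MulAction.stabilizer X x := fun t ht => h.fx t ht
  have hAT : A ≤ T := h.Ax.trans (o2_le_of_sylow h.two fun h2 => h.syl (h2.trans (relIndex_dvd_index_of_le hTs)))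
  have hBT : B ≤ T := hBA.trans hAT
  have hfin : {R : Subgroup X | T ≤ R ∧ ¬ B ≤ fxr X (orb R x)}.Finite := Set.toFinite _
  obtain ⟨R, hR⟩ := hfin.exists_minimal ⟨⊤, le_top, fun h1 => hB1 (by
    rw [h.gen] at h1
    rw [← hBF]
    exact (inf_eq_right.2 h1).symm)⟩
  obtain ⟨hTR, hRm⟩ := hR.prop
  have hBR : B ≤ R := hBT.trans hTR
  -- (a)
  have hlow : ∀ S : Subgroup X, T ≤ S → S ≤ R → S ≠ R → B ≤ o2 S := by
    intro S hTS hSR hne
    have h1 : B ≤ fxr X (orb S x) := by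
      by_contra h2
      exact hne (le_antisymm hSR (hR.le_of_le ⟨hTS, h2⟩ hSR))
    have h2 : B ≤ o2 (MulAction.stabilizer X x) ⊓ (S ⊓ fxr X (orb S x)) :=
      le_inf (hBA.trans h.Ax) (le_inf (hBT.trans hTS) h1)
    refine h2.trans (o2_inf_le inf_le_left (fun g hg k hk => ⟨S.mul_mem (S.mul_mem hg hk.1) (S.inv_mem hg),
      conj_mem_fxr (fun _ hg _ hm => smul_mem_orb hg hm) hg hk.2⟩) fun g hg => ?_)
    exact hg.2 x (mem_orb_self S x)
  have hfxr : ∀ b : R, b ∈ fxr R (orb (⊤ : Subgroup R) x) ↔ (b : X) ∈ fxr X (orb R x) := by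
    intro b
    rw [mem_fxr_orb, mem_fxr_orb]
    exact ⟨fun h1 g hg => h1 ⟨g, hg⟩ (mem_top _), fun h1 g _ => h1 g g.2⟩
  have hnorm : ∀ g ∈ normalizer (T.subgroupOf R : Set R), (g : X) ∈ normalizer (T : Set X) := by
    intro g hg
    have h1 : (normalizer (T.subgroupOf R : Set R)).map R.subtype ≤ normalizer (T : Set X) := by
      refine le_normalizer_of ?_
      rintro _ ⟨n, hn, rfl⟩ t ht
      exact (mem_normalizer_iff.1 hn ⟨t, hTR ht⟩).1 ht
    exact h1 ⟨g, hg, rfl⟩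
  have eB : (B.subgroupOf R).map R.subtype = B := by rw [subgroupOf_map_subtype, inf_eq_left.2 hBR]
  have hcardB : Nat.card (B.subgroupOf R) = Nat.card B := Nat.card_congr (subgroupOfEquivOfLe hBR).toEquiv
  have hcvB : cv M ((B.subgroupOf R : Subgroup R) : Set R) = cv M (B : Set X) := by rw [← cv_map, eB]
  refine ⟨R, B, hTR, hBA, ?_⟩
  refine
    { ml := ml
      sq := h.sq
      two := h.two.comap_of_injective _ R.subtype_injective
      syl := fun h2 => h.syl (h2.trans (relIndex_dvd_index_of_le hTR))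
      fx := fun t ht => h.fx t ht
      tY := fun t ht => h.tY t ht
      mN := ?_
      mP := ?_
      mY := ?_
      mx := ?_
      AT := fun b hb => hBT hb
      A1 := fun h1 => hB1 (by rw [← eB, h1, Subgroup.map_bot])
      el := fun a ha => Subtype.ext (h.el _ (hBA ha))
      low := ?_
      fU := ?_
      le := by rw [hcvB, hcardB, hBe]
      KX := sec_KG.sub X h.KX R }
  · rintro ⟨g, hg, hgx⟩ k hk hodd w hw
    exact h.mN ⟨g, hnorm g hg, hgx⟩ k (hnorm k hk) (by rwa [orderOf_coe]) w hw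
  · rintro P hP ⟨p, hp, hpx⟩ k hk hodd w hw
    exact h.mP (P.map R.subtype) (minPar_map_subtype hTR hP) ⟨p, ⟨p, hp, rfl⟩, hpx⟩ k ⟨k, hk, rfl⟩
      (by rwa [orderOf_coe]) w hw
  · by_contra hc
    push Not at hc
    apply hRm
    intro b hb
    rw [mem_fxr_orb]
    intro g hg
    have h1 : od R ⊔ T.subgroupOf R = ⊤ := sup_eq_top od_normal
      (fun h2 => h.syl (h2.trans (relIndex_dvd_index_of_le hTR))) fun g hg => mem_od hg
    have h2 : (⟨g, hg⟩ : R) ∈ od R ⊔ T.subgroupOf R := h1 ▸ mem_top _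
    have hn : (od R).Normal := od_normal
    obtain ⟨k, hk, t, ht, hkt⟩ := mem_sup_of_normal_left.1 h2
    have h3 : od R ≤ E.subgroupOf R := by
      rw [od, closure_le]
      intro k hk
      exact h.cY k (by rwa [orderOf_coe]) fun w hw => hc k hk w hw
    have h4 : g = (k : X) * t := congrArg Subtype.val hkt.symm
    rw [h4, mul_smul, h.fx t ht]
    exact h.cE b (hBA hb) k (h3 hk)
  · by_contra hc
    push Not at hc
    apply hRm
    intro b hb
    rw [mem_fxr_orb]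
    intro g hg
    have h1 : g • x = x := hc ⟨g, hg⟩
    rw [h1, h.fx b (hBT hb)]
  · intro S hTS hS
    have h1 : S.map R.subtype ≠ R := by
      intro h2
      apply hS
      rw [eq_top_iff]
      intro r _
      have h3 : (r : X) ∈ S.map R.subtype := by rw [h2]; exact r.2
      obtain ⟨s, hs, hsr⟩ := h3
      rwa [← (Subtype.ext hsr : s = r)]
    have h2 : T ≤ S.map R.subtype := fun t ht => ⟨⟨t, hTR ht⟩, hTS ht, rfl⟩
    have h3 := hlow _ h2 (map_subtype_le S) h1
    exact le_trans (fun a ha => h3 ha) (o2_subgroupOf_le S)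
  · set B' := B.subgroupOf R with hB'
    set U := orb (⊤ : Subgroup R) x with hU
    set F := fxr R U with hF
    have hBx : B' ≤ o2 (MulAction.stabilizer R x) := by
      have h1 : B ≤ o2 ((MulAction.stabilizer R x).map R.subtype) := by
        have h2 : (MulAction.stabilizer R x).map R.subtype ≤ MulAction.stabilizer X x := by
          rintro _ ⟨g, hg, rfl⟩
          exact hg
        refine (le_inf (hBA.trans h.Ax) fun b hb => ?_).trans (o2_inf_self h2)
        exact ⟨⟨b, hBR hb⟩, h.fx b (hBT hb), rfl⟩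
      exact le_trans (fun b hb => h1 hb) (o2_subgroupOf_le _)
    have hno := no_orb (H := R) (M := M) (T := T.subgroupOf R) (A := B') (x := x) ml (sec_KG.sub X h.KX R) h.sq
      (h.two.comap_of_injective _ R.subtype_injective)
      (fun h2 => h.syl (h2.trans (relIndex_dvd_index_of_le hTR))) (fun t ht => h.fx t ht)
      (fun a ha => Subtype.ext (h.el _ (hBA ha))) hBx
    rw [← hU, ← hF] at hno
    set B₀ := B' ⊓ F with hB₀
    have h1 : F.relIndex B' * Nat.card B₀ = Nat.card B' := by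
      rw [ML.CD.card_eq_relIndex_mul (inf_le_left : B' ⊓ F ≤ B'), hB₀, inf_relIndex_left]
    have hUB : U ≤ cv M (B₀ : Set R) := cv_inf_eq_iff.2 inf_le_right
    have hAB : cv M (B' : Set R) ≤ cv M (B₀ : Set R) := cv_anti (SetLike.coe_subset_coe.2 inf_le_left)
    have h2 : (cv M (B' : Set R)).relIndex (cv M (B₀ : Set R)) * (cv M (B₀ : Set R)).index = Nat.card B' := by
      rw [relIndex_mul_index hAB, hcvB, hcardB, hBe]
    have h3 : (cv M (B' : Set R)).relIndex U ≤ (cv M (B' : Set R)).relIndex (cv M (B₀ : Set R)) :=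
      relIndex_le_of_le_right hUB (relIndex_ne _ _)
    by_contra hne
    have h4 : Nat.card B₀ < (cv M (B₀ : Set R)).index := by
      have h5 := hBa (B₀.map R.subtype) (by rw [← eB]; exact map_mono inf_le_left)
        (fun h6 => hne ((map_eq_bot_iff_of_injective _ R.subtype_injective).1 h6)) (fun h6 => hRm fun b hb => by
          rw [← h6] at hb
          obtain ⟨c, hc, rfl⟩ := hb
          exact (hfxr c).1 hc.2)
      rwa [cv_map, card_map_of_injective R.subtype_injective] at h5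
    have h5 : 0 < F.relIndex B' := Nat.pos_of_ne_zero (relIndex_ne _ _)
    have h6 : F.relIndex B' * Nat.card B₀ < (cv M (B' : Set R)).relIndex (cv M (B₀ : Set R)) *
        (cv M (B₀ : Set R)).index := by
      calc F.relIndex B' * Nat.card B₀ < F.relIndex B' * (cv M (B₀ : Set R)).index :=
            Nat.mul_lt_mul_of_pos_left h4 h5
        _ ≤ _ := Nat.mul_le_mul_right _ (hno.trans h3)
    rw [h1, h2] at h6
    exact absurd h6 (lt_irrefl _)

end mid

/-! ### The quotient `N = M / C_M(O²(X))` -/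

/-- `p : M → N = M / C_M(O²(X))` -/
structure Qt {X : Type u} [Group X] {M : Type v} [Group M] [MulDistribMulAction X M] {N : Type v} [Group N]
    [MulDistribMulAction X N] (p : M →* N) : Prop where
  surj : Function.Surjective p
  eq : ∀ (g : X) (m : M), p (g • m) = g • p m
  ker : ∀ m : M, p m = 1 → ∀ g : X, Odd (orderOf g) → g • m = m
  nf : ∀ n : N, (∀ g : X, Odd (orderOf g) → g • n = n) → n = 1

namespace Mid

variable {X : Type u} [Group X] [Finite X] {M : Type v} [Group M] [Finite M] [MulDistribMulAction X M]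
  {T A E : Subgroup X} {Y : Subgroup M} {x : M} {N : Type v} [Group N] [MulDistribMulAction X N] {p : M →* N}

omit [Finite M] in
/-- `O₂(X)` centralises `⟨x^X⟩` -/
theorem o2_top_le (h : Mid T A Y x) : o2 (⊤ : Subgroup X) ≤ fxr X (orb (⊤ : Subgroup X) x) := by
  have h1 : o2 (⊤ : Subgroup X) ≤ T := o2_le_of_sylow h.two (by rw [relIndex_top_right]; exact h.syl)
  intro q hq
  rw [mem_fxr_orb]
  intro g _
  have h2 : g⁻¹ * q * g ∈ o2 (⊤ : Subgroup X) := by
    have := conj_mem_of_le (le_normalizer_o2 (⊤ : Subgroup X)) (mem_top g⁻¹) hq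
    rwa [inv_inv] at this
  have h3 := h.fx _ (h1 h2)
  calc q • g • x = g • (g⁻¹ * q * g) • x := by rw [← mul_smul, ← mul_smul]; congr 1; group
    _ = g • x := by rw [h3]

omit [Finite M] in
theorem eq_bot_of_le (h : Mid T A Y x) {B : Subgroup X} (hB : B ≤ A) (h2 : B ≤ o2 (⊤ : Subgroup X)) : B = ⊥ :=
  le_bot_iff.1 ((le_inf hB (h2.trans h.o2_top_le)).trans h.fU.le)

omit [Finite M] in
/-- `X = K₀ T` -/
theorem sup_top (h : Mid T A Y x) : normalClosure (A : Set X) ⊔ T = ⊤ := by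
  by_contra hne
  have h1 := h.low _ le_sup_right hne
  have h2 : A ≤ o2 (normalClosure (A : Set X) ⊔ T) ⊓ normalClosure (A : Set X) := le_inf h1 subset_normalClosure
  exact h.A1 (h.eq_bot_of_le le_rfl (h2.trans (o2_inf_le le_top
    (fun g _ k hk => normalClosure_normal.conj_mem k hk g) le_sup_left)))

omit [Finite X] [Finite M] in
theorem sqN (h : Mid T A Y x) (D : Qt (X := X) p) (n : N) : n * n = 1 := by
  obtain ⟨m, rfl⟩ := D.surj n
  rw [← map_mul, h.sq, map_one]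

/-- **`A` is faithful and exact on `⟨n^X⟩`** for every `T`-fixed `n ≠ 1` -/
theorem exact (h : Mid T A Y x) (D : Qt (X := X) p) {n : N} (hn : n ≠ 1) (hT : ∀ t ∈ T, t • n = n) :
    A ⊓ fxr X (orb (⊤ : Subgroup X) n) = ⊥ ∧
      (cv N (A : Set X)).relIndex (orb (⊤ : Subgroup X) n) = Nat.card A ∧
      orb (⊤ : Subgroup X) n ⊔ cv N (A : Set X) = ⊤ := by
  have hfN : Finite N := Finite.of_surjective p D.surj
  set O := orb (⊤ : Subgroup X) n with hO
  have hst : MulAction.stabilizer X n ≠ ⊤ := fun h1 => hn (D.nf n fun g _ => (h1 ▸ mem_top g :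
    g ∈ MulAction.stabilizer X n))
  have hA := h.low _ (fun t ht => hT t ht : T ≤ MulAction.stabilizer X n) hst
  have hinv : ∀ g : X, ∀ m ∈ O, g • m ∈ O := fun g m hm => smul_mem_orb (mem_top g) hm
  have hbot : A ⊓ fxr X O = ⊥ := by
    refine h.eq_bot_of_le inf_le_left ((inf_le_inf_right _ hA).trans (o2_inf_le le_top ?_ ?_))
    · exact fun g _ k hk => (fxr_normal hinv).conj_mem k hk g
    · exact fun g hg => hg n (mem_orb_self _ n)
  have hno := no_orb h.ml h.KX (h.sqN D) h.two h.syl hT h.el hA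
  rw [← hO, ← inf_relIndex_right, inf_comm, hbot, relIndex_bot_left] at hno
  have h1 : (cv N (A : Set X)).index ≤ (cv M (A : Set X)).index := by
    rw [← index_comap_of_surjective _ D.surj]
    refine index_antitone fun m hm a ha => ?_
    rw [← D.eq, hm a ha]
  have h2 : (cv N (A : Set X)).relIndex O ≤ (cv N (A : Set X)).index := by
    rw [← relIndex_top_right]
    exact relIndex_le_of_le_right le_top (relIndex_ne _ _)
  have h3 := h.le
  refine ⟨hbot, by omega, ?_⟩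
  have hcomm := comm_of_sq (h.sqN D)
  have hnor : (cv N (A : Set X)).Normal := ⟨fun m hm g => by rwa [hcomm g m, mul_inv_cancel_right]⟩
  have h7 : (cv N (A : Set X)).relIndex (O ⊔ cv N (A : Set X)) * (O ⊔ cv N (A : Set X)).index =
      (cv N (A : Set X)).index := relIndex_mul_index le_sup_right
  rw [relIndex_sup_right] at h7
  have h8 : 0 < Nat.card A := Nat.card_pos
  have h9 : (cv N (A : Set X)).relIndex O = Nat.card A := by omega
  have h10 : (cv N (A : Set X)).index = Nat.card A := by omega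
  rw [h9, h10] at h7
  rw [← index_eq_one]
  exact Nat.eq_of_mul_eq_mul_left h8 (h7.trans (mul_one _).symm)

/-- **all `T`-fixed vectors are in `⟨n^X⟩`** -/
theorem mem_orb (h : Mid T A Y x) (D : Qt (X := X) p) {n n' : N} (hn : n ≠ 1) (hT : ∀ t ∈ T, t • n = n)
    (hT' : ∀ t ∈ T, t • n' = n') : n' ∈ orb (⊤ : Subgroup X) n := by
  have hfN : Finite N := Finite.of_surjective p D.surj
  set O := orb (⊤ : Subgroup X) n with hO
  have hcomm := comm_of_sq (h.sqN D)
  have hinv : ∀ g : X, ∀ m ∈ O, g • m ∈ O := fun g m hm => smul_mem_orb (mem_top g) hm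
  have hOn : O.Normal := ⟨fun m hm g => by rwa [hcomm g m, mul_inv_cancel_right]⟩
  have hcn : (cv N (A : Set X)).Normal := ⟨fun m hm g => by rwa [hcomm g m, mul_inv_cancel_right]⟩
  let _ := modAct O hinv
  have hK : normalClosure (A : Set X) ≤ fxr X (⊤ : Subgroup (N ⧸ O)) := by
    have hF : (fxr X (⊤ : Subgroup (N ⧸ O))).Normal := fxr_normal fun _ _ _ => mem_top _
    refine normalClosure_le_normal fun a ha m' _ => ?_
    obtain ⟨m, rfl⟩ := QuotientGroup.mk_surjective m'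
    have h1 : m ∈ O ⊔ cv N (A : Set X) := by rw [(h.exact D hn hT).2.2]; exact mem_top _
    obtain ⟨u, hu, c, hc, rfl⟩ := mem_sup_of_normal_right.1 h1
    have e : ((u * c : N) : N ⧸ O) = (c : N ⧸ O) := by
      rw [QuotientGroup.mk_mul, (QuotientGroup.eq_one_iff u).2 hu, one_mul]
    rw [e]
    exact congrArg (QuotientGroup.mk : N → N ⧸ O) (hc a ha)
  have hfix : ∀ g : X, g • n' * n' ∈ O := by
    intro g
    have h0 : g ∈ normalClosure (A : Set X) ⊔ T := by rw [h.sup_top]; exact mem_top g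
    obtain ⟨k, hk, t, ht, rfl⟩ := mem_sup_of_normal_left.1 h0
    rw [mul_smul, hT' t ht]
    have h1 : ((k • n' : N) : N ⧸ O) = (n' : N ⧸ O) := hK hk (n' : N ⧸ O) (mem_top _)
    rw [← QuotientGroup.eq_one_iff, QuotientGroup.mk_mul, h1, ← QuotientGroup.mk_mul, h.sqN D, QuotientGroup.mk_one]
  obtain ⟨z, hz, hz2⟩ := exists_fixed_mod (h.sqN D) h.syl hT' hfix
  rwa [D.nf z fun g _ => hz g, mul_one] at hz2

omit [Finite M] in
/-- a mover of `x` -/
theorem exists_mover (h : Mid T A Y x) : ∃ P : Subgroup X, T ≤ P ∧ (∃ p ∈ P, p • x ≠ x) ∧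
    ∀ g ∈ P, Odd (orderOf g) → ∀ w ∈ Y, g • w = w := by
  by_cases h1 : ∃ g ∈ normalizer (T : Set X), g • x ≠ x
  · exact ⟨_, le_normalizer, h1, h.mN h1⟩
  by_contra hc
  push Not at hc h1
  obtain ⟨g, hg⟩ := h.mx
  have h2 : (⊤ : Subgroup X) ≤ MulAction.stabilizer X x := by
    refine le_of_forall le_top (fun n hn => h1 n hn.2) fun P hP _ => ?_
    by_contra h3
    obtain ⟨p, hp, hpx⟩ : ∃ p ∈ P, p • x ≠ x := by
      by_contra h4
      push Not at h4
      exact h3 fun p hp => h4 p hp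
    obtain ⟨k, hk, hodd, w, hw, hkw⟩ := hc P hP.le ⟨p, hp, hpx⟩
    exact hkw (h.mP P hP ⟨p, hp, hpx⟩ k hk hodd w hw)
  exact hg (h2 (mem_top g))

omit [Finite X] [Finite M] in
theorem rel_ndvd (h : Mid T A Y x) {P : Subgroup X} (hP : T ≤ P) : ¬ 2 ∣ T.relIndex P := fun h2 =>
  h.syl (h2.trans (relIndex_dvd_index_of_le hP))

omit [Finite M] in
/-- `p(x) ≠ 1` -/
theorem px_ne (h : Mid T A Y x) (D : Qt (X := X) p) : p x ≠ 1 := by
  intro h1
  obtain ⟨g, hg⟩ := h.mx
  exact hg (fix_of_odd (P := ⊤) (h.rel_ndvd le_top) (fun k _ hk => D.ker x h1 k hk) h.fx g (mem_top g))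

omit [Finite X] in
/-- `p(y) ≠ 1` is `T`-fixed for some `y ∈ Y` -/
theorem exists_y (h : Mid T A Y x) (D : Qt (X := X) p) : ∃ y ∈ Y, p y ≠ 1 ∧ ∀ t ∈ T, t • p y = p y := by
  have hfN : Finite N := Finite.of_surjective p D.surj
  obtain ⟨g, hg, w, hw, hgw⟩ := h.mY
  have h1 : Y.map p ≠ ⊥ := fun h2 => hgw (D.ker w (mem_bot.1 (h2 ▸ mem_map_of_mem p hw)) g hg)
  obtain ⟨_, ⟨y, hy, rfl⟩, hy1, hyT⟩ := exists_fixed (h.sqN D) h.two h1 (by
    rintro t ht _ ⟨w, hw, rfl⟩
    exact ⟨t • w, h.tY t ht w hw, D.eq t w⟩)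
  exact ⟨y, hy, hy1, hyT⟩

/-- **the output** -/
theorem out_of (h : Mid T A Y x) (D : Qt (X := X) p) {H : Type u} [Group H] {N' : Type v} [Group N']
    [MulDistribMulAction H N'] {f : X →* H} (hf : Function.Surjective f) {e : N' →* N} (he : Function.Injective e)
    (heq : ∀ (g : X) (n : N'), e (f g • n) = g • e n) (hr : e.range = orb (⊤ : Subgroup X) (p x))
    (hfaith : ∀ g : H, (∀ n : N', g • n = n) → g = 1) {x' y' : N'} (hx : e x' = p x) {y : M} (hyY : y ∈ Y)
    (hy : e y' = p y) (hy1 : p y ≠ 1) (hyT : ∀ t ∈ T, t • p y = p y) :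
    ∃ A' : Subgroup H, A' ≤ A.map f ∧ Out (T.map f) A' x' y' := by
  have hfN : Finite N := Finite.of_surjective p D.surj
  have hfN' : Finite N' := Finite.of_injective e he
  have hfH : Finite H := Finite.of_surjective f hf
  have hfix : ∀ (g : X) (n : N'), f g • n = n ↔ g • e n = e n := fun g n => by rw [← heq, he.eq_iff]
  have sq' : ∀ n : N', n * n = 1 := fun n => he (by rw [map_mul, h.sqN D, map_one])
  have hcomm := comm_of_sq sq'
  have x1 : x' ≠ 1 := fun h1 => h.px_ne D (by rw [← hx, h1, map_one])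
  have y1 : y' ≠ 1 := fun h1 => hy1 (by rw [← hy, h1, map_one])
  have fx' : ∀ t ∈ T.map f, t • x' = x' := by
    rintro _ ⟨t, ht, rfl⟩
    rw [hfix, hx, ← D.eq, h.fx t ht]
  have fy' : ∀ t ∈ T.map f, t • y' = y' := by
    rintro _ ⟨t, ht, rfl⟩
    rw [hfix, hy, hyT t ht]
  have two' : IsPGroup 2 (T.map f) := h.two.map f
  have syl' : ¬ 2 ∣ (T.map f).index := fun h2 => h.syl (h2.trans (index_map_dvd T hf))
  -- movers of `x` fix `y`
  have hmv : ∀ P : Subgroup X, T ≤ P → (∀ g ∈ P, Odd (orderOf g) → ∀ w ∈ Y, g • w = w) → ∀ g ∈ P, f g • y' = y' := by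
    intro P hTP hP g hg
    rw [hfix, hy]
    exact fix_of_odd (h.rel_ndvd hTP) (fun k hk hodd => by rw [← D.eq, hP k hk hodd y hyY]) hyT g hg
  have hmx : ∀ g : X, f g • x' ≠ x' → g • x ≠ x := fun g h1 h2 => h1 (by rw [hfix, hx, ← D.eq, h2])
  have xy : x' ≠ y' := by
    intro h1
    obtain ⟨P, hTP, ⟨q, hq, hqx⟩, hP⟩ := h.exists_mover
    refine hqx (fix_of_odd (h.rel_ndvd hTP) (fun k hk hodd => ?_) h.fx q hq)
    have h2 : p (x * y⁻¹) = 1 := by rw [map_mul, map_inv, ← hx, ← hy, h1, mul_inv_cancel]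
    have h3 := D.ker _ h2 k hodd
    rw [smul_mul', smul_inv', hP k hk hodd y hyY] at h3
    exact mul_right_cancel h3
  -- no fixed vectors
  have nf' : ∀ n : N', (∀ g : H, g • n = n) → n = 1 := by
    intro n hn
    apply he
    rw [map_one]
    exact D.nf _ fun g _ => (hfix g n).1 (hn (f g))
  have st' : ∀ n : N', n ≠ 1 → MulAction.stabilizer H n ≠ ⊤ := fun n hn h1 => hn (nf' n fun g =>
    (h1 ▸ mem_top g : g ∈ MulAction.stabilizer H n))
  have irr' : ∀ W : Subgroup N', (∀ g : H, ∀ w ∈ W, g • w ∈ W) → W = ⊥ ∨ W = ⊤ := by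
    intro W hW
    by_cases hW1 : W = ⊥
    · exact Or.inl hW1
    right
    obtain ⟨w, hw, hw1, hwT⟩ := exists_fixed sq' two' hW1 fun t _ w hw => hW t w hw
    have h1 : p x ∈ orb (⊤ : Subgroup X) (e w) := by
      refine h.mem_orb D (fun h2 => hw1 (he (by rw [h2, map_one]))) (fun t ht => ?_) fun t ht => ?_
      · exact (hfix t w).1 (hwT _ (mem_map_of_mem f ht))
      · rw [← D.eq, h.fx t ht]
    have h2 : orb (⊤ : Subgroup X) (e w) ≤ W.map e := orb_le fun g _ => ⟨f g • w, hW _ w hw, heq g w⟩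
    have h3 : e.range ≤ W.map e := by
      rw [hr]
      exact orb_le fun g _ => h2 (smul_mem_orb (mem_top g) h1)
    rw [eq_top_iff]
    intro n _
    obtain ⟨w', hw', hww⟩ := h3 ⟨n, rfl⟩
    rwa [← he hww]
  have gen' : orb (⊤ : Subgroup H) x' = ⊤ := by
    rcases irr' (orb (⊤ : Subgroup H) x') fun g w hw => smul_mem_orb (mem_top g) hw with h1 | h1
    · exact absurd (mem_bot.1 (h1 ▸ mem_orb_self _ x')) x1
    · exact h1
  have fxr' : fxr H (⊤ : Subgroup N') = ⊥ := by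
    rw [eq_bot_iff]
    intro k hk
    exact mem_bot.2 (hfaith k fun n => hk n (mem_top n))
  have o2' : o2 (⊤ : Subgroup H) = ⊥ := by
    rw [eq_bot_iff, ← fxr', ← gen']
    have h1 : o2 (⊤ : Subgroup H) ≤ T.map f := o2_le_of_sylow two' (by rwa [relIndex_top_right])
    intro q hq
    rw [mem_fxr_orb]
    intro g _
    have h2 : g⁻¹ * q * g ∈ o2 (⊤ : Subgroup H) := by
      have := conj_mem_of_le (le_normalizer_o2 (⊤ : Subgroup H)) (mem_top g⁻¹) hq
      rwa [inv_inv] at this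
    have h3 := fx' _ (h1 h2)
    calc q • g • x' = g • (g⁻¹ * q * g) • x' := by rw [← mul_smul, ← mul_smul]; congr 1; group
      _ = g • x' := by rw [h3]
  -- `A` is exact
  obtain ⟨hA1, hA2, -⟩ := h.exact D (h.px_ne D) fun t ht => by rw [← D.eq, h.fx t ht]
  have hinj : ∀ a ∈ A, f a = 1 → a = 1 := by
    intro a ha h1
    have h2 : a ∈ A ⊓ fxr X (orb (⊤ : Subgroup X) (p x)) := by
      refine ⟨ha, fun m hm => ?_⟩
      rw [← hr] at hm
      obtain ⟨n, rfl⟩ := hm
      rw [← hfix, h1, one_smul]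
    rw [hA1] at h2
    exact mem_bot.1 h2
  have hcard : Nat.card (A.map f) = Nat.card A := by
    refine (Nat.card_congr (Equiv.ofBijective (fun a : A => (⟨f a, mem_map_of_mem f a.2⟩ : A.map f)) ⟨?_, ?_⟩)).symm
    · intro a b hab
      have h1 : f a = f b := congrArg Subtype.val hab
      have h2 := hinj _ (A.mul_mem a.2 (A.inv_mem b.2)) (by rw [map_mul, map_inv, h1, mul_inv_cancel])
      exact Subtype.ext (mul_inv_eq_one.1 h2)
    · rintro ⟨_, a, ha, rfl⟩
      exact ⟨⟨a, ha⟩, rfl⟩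
  have hex : (cv N' ((A.map f : Subgroup H) : Set H)).index = Nat.card (A.map f) := by
    have h1 : (cv N (A : Set X)).comap e = cv N' ((A.map f : Subgroup H) : Set H) := by
      ext n
      constructor
      · rintro h2 _ ⟨a, ha, rfl⟩
        exact (hfix a n).2 (h2 a ha)
      · intro h2 a ha
        exact (hfix a n).1 (h2 _ (mem_map_of_mem f ha))
    rw [← h1, index_comap, hr, hA2, hcard]
  have low' : ∀ R : Subgroup H, T.map f ≤ R → R ≠ ⊤ → A.map f ≤ o2 R := by
    intro R hTR hR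
    have h1 : R.comap f ≠ ⊤ := fun h2 => hR (by rw [← map_comap_eq_self_of_surjective hf R, h2, map_top_of_surjective f hf])
    refine (map_mono (h.low _ (map_le_iff_le_comap.1 hTR) h1)).trans ((o2_map_le f _).trans ?_)
    rw [map_comap_eq_self_of_surjective hf]
  have el' : ∀ a ∈ A.map f, a * a = 1 := by
    rintro _ ⟨a, ha, rfl⟩
    rw [← map_mul, h.el a ha, map_one]
  have KX' : IsKGroup H := kgroup_of_surj h.KX ⊤ (f.comp (⊤ : Subgroup X).subtype) fun q => by
    obtain ⟨g, rfl⟩ := hf q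
    exact ⟨⟨g, mem_top g⟩, rfl⟩
  have no' : ∀ C : Subgroup H, C ≤ A.map f → Nat.card C ≤ (cv N' (C : Set H)).index := by
    intro C hC
    have h1 := no h.ml KX' sq' two' syl' fx' gen' (fun c hc => el' c (hC hc))
      (hC.trans (low' _ (fun t ht => fx' t ht : T.map f ≤ MulAction.stabilizer H x') (st' x' x1)))
    rwa [fxr', relIndex_bot_left] at h1
  have hAf : A.map f ≠ ⊥ := fun h1 => h.A1 (by rw [← card_eq_one, ← hcard, h1, card_bot])
  -- the atom
  have hfin : {C : Subgroup H | C ≤ A.map f ∧ C ≠ ⊥ ∧ (cv N' (C : Set H)).index = Nat.card C}.Finite := Set.toFinite _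
  obtain ⟨A', hA'⟩ := hfin.exists_minimal ⟨A.map f, le_rfl, hAf, hex⟩
  obtain ⟨hA'A, hA'1, hA'e⟩ := hA'.prop
  have hAT' : A' ≤ T.map f := hA'A.trans (map_mono h.AT)
  have mN' : (∃ g ∈ normalizer ((T.map f : Subgroup H) : Set H), g • x' ≠ x') →
      ∀ g ∈ normalizer ((T.map f : Subgroup H) : Set H), g • y' = y' := by
    rintro ⟨g, hg, hgx⟩ k hk
    obtain ⟨t, ht, n, hn, rfl⟩ := exists_normalizer_map f hf h.two h.syl hg
    obtain ⟨t₂, ht₂, n₂, hn₂, rfl⟩ := exists_normalizer_map f hf h.two h.syl hk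
    have h1 : f n • x' ≠ x' := fun h2 => hgx (by rw [mul_smul, h2, fx' t ht])
    rw [mul_smul, hmv _ le_normalizer (h.mN ⟨n, hn, hmx n h1⟩) n₂ hn₂, fy' t₂ ht₂]
  have mP' : ∀ P : Subgroup H, IsMinPar (T.map f) P → (∃ q ∈ P, q • x' ≠ x') → ∀ q ∈ P, q • y' = y' := by
    rintro P' hP' ⟨q', hq', hqx⟩ r' hr'
    obtain ⟨P, hP, rfl⟩ := exists_minPar_map f hf hP'
    obtain ⟨q, hq, rfl⟩ := hq'
    obtain ⟨r, hr, rfl⟩ := hr'
    exact hmv P hP.le (h.mP P hP ⟨q, hq, hmx q hqx⟩) r hr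
  -- the stabiliser of `x' y'`
  have hst : ∀ g : H, g • (x' * y') = x' * y' → g • x' = x' := by
    have h1 : MulAction.stabilizer H (x' * y') ≤ MulAction.stabilizer H x' := by
      refine le_of_forall (S := T.map f) (fun t ht => ?_) (fun g hg => ?_) fun P hP hPS => ?_
      · change t • (x' * y') = x' * y'
        rw [smul_mul', fx' t ht, fy' t ht]
      · change g • x' = x'
        by_contra hc
        have h2 := mN' ⟨g, hg.2, hc⟩ g hg.2
        have h3 : g • (x' * y') = x' * y' := hg.1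
        rw [smul_mul', h2] at h3
        exact hc (mul_right_cancel h3)
      · intro q hq
        by_contra hc
        have h2 := mP' P hP ⟨q, hq, hc⟩ q hq
        have h3 : q • (x' * y') = x' * y' := hPS hq
        rw [smul_mul', h2] at h3
        exact hc (mul_right_cancel h3)
    exact fun g hg => h1 hg
  have four : 4 ≤ Nat.card A' := by
    have hp : IsPGroup 2 A' := two'.to_le hAT'
    obtain ⟨k, hk⟩ := IsPGroup.iff_card.1 hp
    have hk0 : k ≠ 0 := by
      rintro rfl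
      rw [pow_zero] at hk
      exact hA'1 (card_eq_one.1 hk)
    by_cases hk1 : k = 1
    · exfalso
      subst hk1
      rw [pow_one] at hk
      obtain ⟨⟨t, ht⟩, ht1'⟩ := ne_bot_iff_exists_ne_one.1 hA'1
      have ht1 : t ≠ 1 := fun h2 => ht1' (Subtype.ext h2)
      have htt := el' t (hA'A ht)
      have h1 : zpowers t = A' := by
        refine eq_of_le_of_card_ge (by rwa [zpowers_le]) ?_
        rw [hk, Nat.card_zpowers, orderOf_eq_prime (p := 2) (by rw [pow_two, htt]) ht1]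
      have h2 : (cv N' ({t} : Set H)).index = 2 := by
        rw [QData.cv_singleton, h1, hA'e, hk]
      have h3 := TC.TT.not_trans (M := N') sq' hst (A := o2 (MulAction.stabilizer H x'))
        (B := o2 (MulAction.stabilizer H y')) (o2_isPGroup _) (o2_isPGroup _)
        (fun g hg a ha => conj_mem_of_le (le_normalizer_o2 _) hg ha)
        (fun g hg a ha => conj_mem_of_le (le_normalizer_o2 _) hg ha)
        (low' _ (fun s hs => fx' s hs : T.map f ≤ MulAction.stabilizer H x') (st' x' x1) (hA'A ht))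
        (low' _ (fun s hs => fy' s hs : T.map f ≤ MulAction.stabilizer H y') (st' y' y1) (hA'A ht)) htt (fun h3 => ht1 (by
          have h4 : t ∈ o2 (⊤ : Subgroup H) := by
            have h5 : pCore 2 H ≤ o2 (⊤ : Subgroup H) := le_o2 le_top (Lib.Cores.pCore_isPGroup 2)
              (le_normalizer_of fun g _ n hn => (Lib.Cores.pCore_normal 2).conj_mem n hn g)
            exact h5 h3
          rw [o2'] at h4
          exact mem_bot.1 h4))
      omega
    · rw [hk]
      calc 4 = 2 ^ 2 := rfl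
        _ ≤ 2 ^ k := Nat.pow_le_pow_right (by norm_num) (by omega)
  refine ⟨A', hA'A, ?_⟩
  exact
  { sq := sq'
    faith := hfaith
    irr := irr'
    two := two'
    syl := syl'
    x1 := x1
    y1 := y1
    xy := xy
    fx := fx'
    fy := fy'
    mN := mN'
    mP := mP'
    AT := hAT'
    el := fun a ha => el' a (hA'A ha)
    four := four
    exact := hA'e
    atom := fun C hC hC1 hC2 => lt_of_le_of_ne (no' C (hC.trans hA'A)) fun h1 => hC2
      (le_antisymm hC (hA'.le_of_le ⟨hC.trans hA'A, hC1, h1.symm⟩ hC))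
    low := fun R hTR hR => hA'A.trans (low' R hTR hR)
    nmax := by
      rintro ⟨K, hK, hmax⟩
      have h1 : IsMinPar (T.map f) (⊤ : Subgroup H) := by
        refine ⟨le_top, fun h2 => hA'1 ?_, K, lt_top_iff_ne_top.2 hK, fun L hL hL1 => hmax L hL hL1.ne⟩
        have h3 : T.map f ≤ o2 (⊤ : Subgroup H) := le_o2 le_top two' h2
        exact le_bot_iff.1 (hAT'.trans (h3.trans o2'.le))
      obtain ⟨g, hg⟩ : ∃ g : H, g • x' ≠ x' := by
        by_contra hc
        push Not at hc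
        exact x1 (nf' x' hc)
      exact y1 (nf' y' fun k => mP' ⊤ h1 ⟨g, mem_top g, hg⟩ k (mem_top k))
    KX := KX' }

end Mid

/-! ### The end -/

section main

variable {X : Type u} [Group X] [Finite X] {M : Type v} [Group M] [Finite M] [MulDistribMulAction X M]
  {T A E : Subgroup X} {Y : Subgroup M} {x : M}

omit [Finite X] [Finite M] in
/-- `C_{M/W}(O²(X)) = 1` for `W = C_M(O²(X))` -/
theorem exists_qt (sq : ∀ m : M, m * m = 1) : ∃ (N : Type v) (_ : Group N) (_ : MulDistribMulAction X N)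
    (p : M →* N), Qt (X := X) p := by
  have hcomm := comm_of_sq sq
  set W : Subgroup M := cv M {g : X | Odd (orderOf g)} with hW
  have hWn : W.Normal := ⟨fun m hm g => by rwa [hcomm g m, mul_inv_cancel_right]⟩
  have hinv : ∀ g : X, ∀ m ∈ W, g • m ∈ W := by
    intro g m hm k hk
    have h1 : Odd (orderOf (g⁻¹ * k * g)) := by
      have e : g⁻¹ * k * g = MulAut.conj g⁻¹ k := by simp
      rw [e, MulEquiv.orderOf_eq]
      exact hk
    have h2 := hm _ h1
    calc k • g • m = g • (g⁻¹ * k * g) • m := by rw [← mul_smul, ← mul_smul]; congr 1; group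
      _ = g • m := by rw [h2]
  refine ⟨M ⧸ W, inferInstance, modAct W hinv, QuotientGroup.mk' W, ?_⟩
  let _ := modAct W hinv
  refine ⟨QuotientGroup.mk'_surjective W, fun _ _ => rfl, fun m hm g hg => ?_, fun n hn => ?_⟩
  · exact (QuotientGroup.eq_one_iff m).1 hm g hg
  · obtain ⟨m, rfl⟩ := QuotientGroup.mk_surjective n
    refine (QuotientGroup.eq_one_iff m).2 fun g hg => ?_
    have h1 : ((g • m : M) : M ⧸ W) = (m : M ⧸ W) := hn g hg
    set c : M := g • m * m with hc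
    have hcW : c ∈ W := by
      rw [← QuotientGroup.eq_one_iff, hc, QuotientGroup.mk_mul, h1, ← QuotientGroup.mk_mul, sq, QuotientGroup.mk_one]
    have h2 : g • m = c * m := by rw [hc, mul_assoc, sq, mul_one]
    have h3 : ∀ k : ℕ, g ^ k • m = c ^ k * m := by
      intro k
      induction k with
      | zero => simp
      | succ k ih =>
        rw [pow_succ', mul_smul, ih, smul_mul', smul_pow', hcW g hg, h2, ← mul_assoc, ← pow_succ]
    obtain ⟨k, hk⟩ := hg
    have h4 := h3 (orderOf g)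
    rw [pow_orderOf_eq_one, one_smul, hk, pow_succ, pow_mul, pow_two, sq, one_pow, one_mul] at h4
    rw [h2]
    exact h4.symm

/-- **THEOREM KLF (3)** -/
theorem exists_out (ml : MLK.{u, v}) (h : Pre T A E Y x) :
    ∃ (R : Subgroup X) (H : Type u) (_ : Group H) (_ : Finite H) (N : Type v) (_ : Group N) (_ : Finite N)
      (_ : MulDistribMulAction H N) (π : R →* H) (U : Subgroup M) (q : U →* N) (A' : Subgroup H) (y : M)
      (hx : x ∈ U) (hy : y ∈ U), T ≤ R ∧ y ∈ Y ∧ Sec R π U q ∧ A' ≤ KL.Mor.im π A ∧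
        Out (KL.Mor.im π T) A' (q ⟨x, hx⟩) (q ⟨y, hy⟩) := by
  obtain ⟨R, B, hTR, hBA, hM⟩ := exists_mid ml h
  obtain ⟨N, _, _, p, D⟩ := exists_qt (X := R) h.sq
  have hfN : Finite N := Finite.of_surjective p D.surj
  obtain ⟨y, hyY, hy1, hyT⟩ := hM.exists_y D
  have hxT : ∀ t ∈ T.subgroupOf R, t • p x = p x := fun t ht => by rw [← D.eq, hM.fx t ht]
  set O := orb (⊤ : Subgroup R) (p x) with hO
  have hxO : p x ∈ O := mem_orb_self _ _
  have hyO : p y ∈ O := hM.mem_orb D (hM.px_ne D) hxT hyT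
  have hU : ∀ g : R, ∀ u ∈ O, g • u ∈ O := fun g u hu => smul_mem_orb (mem_top g) hu
  let _ := subAct (H := R) O hU
  let F : Subgroup R := fxr R (⊤ : Subgroup O)
  have hF : F.Normal := fxr_normal fun _ _ _ => mem_top _
  have htriv : ∀ n ∈ F, ∀ m : O, n • m = m := fun n hn m => hn m (mem_top m)
  let _ := quoAct F htriv
  obtain ⟨A', hA', hout⟩ := hM.out_of D (H := R ⧸ F) (N' := O) (f := QuotientGroup.mk' F) (e := O.subtype)
    (x' := ⟨p x, hxO⟩) (y' := ⟨p y, hyO⟩) (y := y) (QuotientGroup.mk'_surjective F) O.subtype_injective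
    (fun _ _ => rfl) O.range_subtype (by
      intro g hg
      obtain ⟨r, rfl⟩ := QuotientGroup.mk'_surjective F g
      exact (QuotientGroup.eq_one_iff r).2 fun m _ => hg m) rfl hyY rfl hy1 hyT
  refine ⟨R, R ⧸ F, inferInstance, inferInstance, O, inferInstance, inferInstance, inferInstance,
    QuotientGroup.mk' F, O.comap p, p.subgroupComap O, A', y, hxO, hyO, hTR, hyY, ?_, ?_, hout⟩
  · exact ⟨QuotientGroup.mk'_surjective F, MonoidHom.subgroupComap_surjective_of_surjective p O D.surj,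
      fun r hr u hu => by
        change p (r • u) ∈ O
        have h1 := D.eq ⟨r, hr⟩ u
        have h2 : p (r • u) = (⟨r, hr⟩ : R) • p u := h1
        rw [h2]
        exact hU _ _ hu,
      fun r u hru => Subtype.ext (D.eq r u)⟩
  · exact hA'.trans (map_mono fun b hb => hBA hb)

end main

end Cfsg.Agent.Omega.KLF.Low

end

section


/-!
# THEOREM KL, (P1), first half (#21588 (1), (2), #21261 (1), #21212 (1), (2)): the reduction to `A ≤ O₂(R)` (helper529)

* `Low T A V x y` : `Inp T A V x y` and `A ≤ O₂(R)` for all `T ≤ R < H`;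
* **`exists_low`** : (ML) gives `Low` for a section of `(H, M)`.

[`R` minimal with `T ≤ R`, `A ≰ O₂(R)`; `U = ⟨x^R⟩`.  `A ∩ C(U) = 1`, `|A| = |U : C_U(A)|`, `M = U C_M(A)` by (ML) and
the exactness; `R = ⟨A^R⟩T` is trivial on the coset `y U`, which contains a fixed vector `y₀`; `u = y y₀ ∈ U` has the same
stabiliser in `R` as `y`.  The section is `(R / C_R(U), U)` with `x`, `u`, `V`, `A`.]
-/

set_option autoImplicit false

namespace Cfsg.Agent.Omega.KL.GenA

open Subgroup Cfsg Cfsg.Agent.ZN Cfsg.Agent.ClassTwoFusion.Quad Cfsg.Agent.Omega.ML.MinFrame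
open Cfsg.Agent.Omega.KL.Def Cfsg.Agent.Omega.KL.Mor Cfsg.Agent.Omega.ML.Final
open Cfsg.Agent.MinSimple.MinParabolic (IsMinPar le_of_forall)
open Cfsg.Agent.MinSimple.VModule (o2_isPGroup o2_le le_o2 le_normalizer_o2 o2_le_of_sylow)

universe u v

/-- `Inp` and `A ≤ O₂(R)` for all `T ≤ R < H` -/
structure Low {H : Type u} [Group H] {M : Type v} [Group M] [MulDistribMulAction H M] (T A : Subgroup H)
    (V : Subgroup M) (x y : M) : Prop extends Inp T A V x y where
  low : ∀ R : Subgroup H, T ≤ R → R ≠ ⊤ → A ≤ o2 R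

/-! ### A fixed vector in a coset -/

section fix

variable {H : Type u} [Group H] {M : Type v} [Group M] [MulDistribMulAction H M]

/-- `R` acts on the coset `y U`, `y` has odd orbit length: there is a fixed vector in `y U` -/
theorem exists_fixed_coset [Finite M] (sq : ∀ m : M, m * m = 1) {R T : Subgroup H}
    (hTi : ¬ 2 ∣ T.relIndex R) {y : M} (hTy : ∀ t ∈ T, t • y = y) {U : Subgroup M} (hU : ∀ r ∈ R, r • y * y⁻¹ ∈ U) :
    ∃ y₀ : M, y * y₀ ∈ U ∧ ∀ r ∈ R, r • y₀ = y₀ := by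
  classical
  have hcomm := comm_of_sq sq
  let _ : CommGroup M := { (inferInstance : Group M) with mul_comm := hcomm }
  -- the orbit
  let _ : Fintype (MulAction.orbit R y) := Fintype.ofFinite _
  set O : Finset M := (MulAction.orbit R y).toFinset with hO
  have hmem : ∀ m : M, m ∈ O ↔ ∃ r : R, (r : H) • y = m := by
    intro m
    rw [hO, Set.mem_toFinset]
    exact Iff.rfl
  refine ⟨∏ m ∈ O, m, ?_, ?_⟩
  · -- in the coset
    have h1 : ∀ s : Finset M, (∀ m ∈ s, m * y⁻¹ ∈ U) → (∏ m ∈ s, m) * (y ^ s.card)⁻¹ ∈ U := by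
      intro s
      induction s using Finset.induction_on with
      | empty =>
        intro _
        simp
      | insert a s ha ih =>
        intro hs
        rw [Finset.prod_insert ha, Finset.card_insert_of_notMem ha, pow_succ]
        have h2 := U.mul_mem (hs a (Finset.mem_insert_self a s)) (ih fun m hm => hs m (Finset.mem_insert_of_mem hm))
        have e : a * y⁻¹ * ((∏ m ∈ s, m) * (y ^ s.card)⁻¹) = a * (∏ m ∈ s, m) * (y ^ s.card * y)⁻¹ := by
          rw [mul_inv_rev]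
          calc a * y⁻¹ * ((∏ m ∈ s, m) * (y ^ s.card)⁻¹) = a * (y⁻¹ * (∏ m ∈ s, m)) * (y ^ s.card)⁻¹ := by group
            _ = a * ((∏ m ∈ s, m) * y⁻¹) * (y ^ s.card)⁻¹ := by rw [hcomm y⁻¹]
            _ = a * (∏ m ∈ s, m) * (y⁻¹ * (y ^ s.card)⁻¹) := by group
        rwa [e] at h2
    have h2 := h1 O fun m hm => by
      obtain ⟨r, rfl⟩ := (hmem m).1 hm
      exact hU r r.2
    have h3 : Odd O.card := by
      have h4 : O.card = Nat.card (MulAction.orbit R y) := by
        rw [hO, Set.toFinset_card, Nat.card_eq_fintype_card]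
      rw [h4, ← Nat.not_even_iff_odd, even_iff_two_dvd, Nat.card_coe_set_eq, ← MulAction.index_stabilizer]
      intro h5
      apply hTi
      have h6 : T.subgroupOf R ≤ MulAction.stabilizer R y := fun t ht => hTy t ht
      exact h5.trans (index_dvd_of_le h6)
    have h4 : y ^ O.card = y := by
      obtain ⟨k, hk⟩ := h3
      rw [hk, pow_succ, pow_mul, pow_two, sq, one_pow, one_mul]
    rw [h4] at h2
    have h5 : y⁻¹ = y := inv_eq_of_mul_eq_one_right (sq y)
    rwa [h5, hcomm] at h2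
  · intro r hr
    have h1 : r • (∏ m ∈ O, m) = ∏ m ∈ O, r • m := by
      have := map_prod (MulDistribMulAction.toMonoidHom M r) (fun m => m) O
      exact this
    rw [h1]
    refine Finset.prod_nbij (fun m => r • m) ?_ ?_ ?_ ?_
    · intro m hm
      obtain ⟨k, rfl⟩ := (hmem m).1 hm
      exact (hmem _).2 ⟨⟨r, hr⟩ * k, (mul_smul _ _ _)⟩
    · intro m _ n _ h
      exact MulAction.injective r h
    · intro m hm
      obtain ⟨k, rfl⟩ := (hmem m).1 hm
      refine ⟨r⁻¹ • (k : H) • y, (hmem _).2 ⟨⟨r, hr⟩⁻¹ * k, (mul_smul _ _ _)⟩, smul_inv_smul r _⟩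
    · intro m _
      rfl

end fix

/-! ### The minimal overgroup -/

section main

variable {H : Type u} [Group H] [Finite H] {M : Type v} [Group M] [Finite M] [MulDistribMulAction H M]
  {T A : Subgroup H} {V : Subgroup M} {x y : M}

omit [Finite H] [Finite M] in
theorem relIndex_ndvd {T R : Subgroup H} (hT : ¬ 2 ∣ T.index) (hTR : T ≤ R) : ¬ 2 ∣ T.relIndex R := fun h2 =>
  hT (h2.trans (Dvd.intro _ (relIndex_mul_index hTR)))

omit [Finite M] in
/-- `A ≤ T` -/
theorem A_le (h : Inp T A V x y) : A ≤ T := by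
  have h1 : T ≤ MulAction.stabilizer H x := fun t ht => h.tx ht
  exact h.Ax.trans (o2_le_of_sylow h.two (relIndex_ndvd h.syl h1))

omit [Finite M] in
/-- `O₂(R)` fixes `⟨x^R⟩` -/
theorem o2_le_fxr (h : Inp T A V x y) {R : Subgroup H} (hTR : T ≤ R) : o2 R ≤ fxr H (orb R x) := by
  intro c hc
  rw [mem_fxr_orb]
  intro g hg
  have h1 : g⁻¹ * c * g ∈ T := by
    apply o2_le_of_sylow h.two (relIndex_ndvd h.syl hTR)
    have := conj_mem_of_le (le_normalizer_o2 R) (inv_mem hg) hc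
    rwa [inv_inv] at this
  have h2 := h.tx h1
  calc c • g • x = g • ((g⁻¹ * c * g) • x) := by rw [smul_smul, smul_smul]; congr 1; group
    _ = g • x := by rw [h2]

omit [Finite M] in
/-- there is `R ≥ T` minimal with `A ≰ O₂(R)` -/
theorem exists_min (h : Inp T A V x y) : ∃ R : Subgroup H, T ≤ R ∧ ¬ A ≤ o2 R ∧
    ∀ K : Subgroup H, T ≤ K → K ≤ R → K ≠ R → A ≤ o2 K := by
  have h0 : ¬ A ≤ o2 (⊤ : Subgroup H) := by
    intro h1
    apply h.A1
    rw [eq_bot_iff]
    intro a ha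
    refine mem_bot.2 (h.faith a fun m => ?_)
    have h2 := o2_le_fxr h le_top (h1 ha)
    rw [h.gen] at h2
    exact h2 m (mem_top m)
  have hfin : {K : Subgroup H | T ≤ K ∧ ¬ A ≤ o2 K}.Finite := Set.toFinite _
  obtain ⟨R, hR⟩ := hfin.exists_minimal ⟨⊤, le_top, h0⟩
  refine ⟨R, hR.prop.1, hR.prop.2, fun K hTK hKR hne => ?_⟩
  by_contra h1
  exact hne (le_antisymm hKR (hR.le_of_le ⟨hTK, h1⟩ hKR))

/-- the situation in a minimal `R` -/
structure Mn (T A : Subgroup H) (V : Subgroup M) (x y : M) (R : Subgroup H) : Prop extends Inp T A V x y where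
  ml : MLK.{u, v}
  TR : T ≤ R
  nR : ¬ A ≤ o2 R
  mn : ∀ K : Subgroup H, T ≤ K → K ≤ R → K ≠ R → A ≤ o2 K

namespace Mn

variable {R : Subgroup H}

omit [Finite H] [Finite M] in
theorem U_inv {g : H} (hg : g ∈ R) {m : M} (hm : m ∈ orb R x) : g • m ∈ orb R x := smul_mem_orb hg hm

omit [Finite H] in
/-- a normal 2-subgroup of the stabiliser -/
theorem A_le_o2_of {Q K : Subgroup H} (hAQ : A ≤ Q) (hQ : IsPGroup 2 Q) (hK : K ≤ R)
    (hKn : ∀ g ∈ R, ∀ k ∈ K, g * k * g⁻¹ ∈ K) (hQn : ∀ g ∈ K, ∀ q ∈ Q, g * q * g⁻¹ ∈ Q) (hAK : A ≤ K) : A ≤ o2 R := by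
  refine le_trans ?_ (ML.MinFrame.o2_le_o2 hK hKn)
  have h3 : Q ⊓ K ≤ o2 K := by
    refine le_o2 inf_le_right (hQ.to_le inf_le_left) (le_normalizer_of fun g hg x hx => ⟨hQn g hg x hx.1, ?_⟩)
    exact K.mul_mem (K.mul_mem hg hx.2) (K.inv_mem hg)
  exact le_trans (le_inf hAQ hAK) h3

omit [Finite M] in
theorem AR (h : Mn T A V x y R) : A ≤ R := (A_le h.toInp).trans h.TR

omit [Finite H] [Finite M] in
theorem Tn (h : Mn T A V x y R) : ¬ 2 ∣ T.relIndex R := relIndex_ndvd h.syl h.TR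

omit [Finite H] [Finite M] in
theorem conjx (_ : Mn T A V x y R) {g : H} (hg : g • x = x) {q : H} (hq : q ∈ o2 (MulAction.stabilizer H x)) :
    g * q * g⁻¹ ∈ o2 (MulAction.stabilizer H x) := conj_mem_of_le (le_normalizer_o2 _) hg hq

omit [Finite H] [Finite M] in
theorem conjy (_ : Mn T A V x y R) {g : H} (hg : g • y = y) {q : H} (hq : q ∈ o2 (MulAction.stabilizer H y)) :
    g * q * g⁻¹ ∈ o2 (MulAction.stabilizer H y) := conj_mem_of_le (le_normalizer_o2 _) hg hq

omit [Finite M] in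
/-- `A` does not centralise a vector whose stabiliser is in `C(x)` .. : `R ≰ C(x)` -/
theorem movx (h : Mn T A V x y R) : ∃ r ∈ R, r • x ≠ x := by
  by_contra hc
  push Not at hc
  exact h.nR (A_le_o2_of h.Ax (o2_isPGroup _) le_rfl (fun g hg k hk => R.mul_mem (R.mul_mem hg hk) (R.inv_mem hg))
    (fun g hg q hq => h.conjx (hc g hg) hq) h.AR)

omit [Finite M] in
theorem movy (h : Mn T A V x y R) : ∃ r ∈ R, r • y ≠ y := by
  by_contra hc
  push Not at hc
  exact h.nR (A_le_o2_of h.Ay (o2_isPGroup _) le_rfl (fun g hg k hk => R.mul_mem (R.mul_mem hg hk) (R.inv_mem hg))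
    (fun g hg q hq => h.conjy (hc g hg) hq) h.AR)

/-- (ML) for `R` and `x` -/
theorem no (h : Mn T A V x y R) {B : Subgroup H} (hB : B ≤ A) :
    (fxr H (orb R x)).relIndex B ≤ (cv M (B : Set H)).relIndex (orb R x) := by
  have h1 := rel_subgroup (M := M) (p := False) R (h.ml R M (kgroup_of_surj h.KH R (MonoidHom.id R) fun x => ⟨x, rfl⟩)
    h.sq)
  exact h1 T (o2 (MulAction.stabilizer H x) ⊓ R) B x (mem_top _) h.two h.TR h.Tn (fun t ht => h.tx ht)
    ((o2_isPGroup _).to_le inf_le_left) inf_le_right (fun q hq => o2_le _ hq.1)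
    (fun g hg hgx q hq => ⟨h.conjx hgx hq.1, R.mul_mem (R.mul_mem hg hq.2) (R.inv_mem hg)⟩)
    (le_inf (hB.trans h.Ax) (hB.trans h.AR)) (fun a ha => h.el a (hB ha)) False.elim

omit [Finite H] [Finite M] in
theorem fxr_le {g : H} (hg : g ∈ fxr H (orb R x)) : g • x = x := hg x (mem_orb_self R x)

omit [Finite M] in
/-- `A ≰ C(U)` -/
theorem not_le_fxr (h : Mn T A V x y R) : ¬ A ≤ fxr H (orb R x) := by
  intro hc
  exact h.nR (A_le_o2_of h.Ax (o2_isPGroup _) (K := R ⊓ fxr H (orb R x)) inf_le_left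
    (fun g hg k hk => ⟨R.mul_mem (R.mul_mem hg hk.1) (R.inv_mem hg), conj_mem_fxr (fun _ hg _ hm => U_inv hg hm) hg hk.2⟩)
    (fun g hg q hq => h.conjx (fxr_le hg.2) hq) (le_inf h.AR hc))

/-- **`A ∩ C(U) = 1`, `|A| = |U : C_U(A)|`, `M = U C_M(A)`** -/
theorem exact_U (h : Mn T A V x y R) : A ⊓ fxr H (orb R x) = ⊥ ∧
    (cv M (A : Set H)).relIndex (orb R x) = Nat.card A ∧ orb R x ⊔ cv M (A : Set H) = ⊤ := by
  set U := orb R x with hU
  set B := A ⊓ fxr H U with hB
  have hBA : B ≤ A := inf_le_left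
  have hno := h.no le_rfl
  rw [← hU] at hno
  have hcomm := comm_of_sq h.sq
  have h1 : (fxr H U).relIndex A * Nat.card B = Nat.card A := by
    have h2 := card_mul_index (B.subgroupOf A)
    rw [← relIndex, hB, inf_relIndex_left] at h2
    have h3 : Nat.card ((A ⊓ fxr H U).subgroupOf A) = Nat.card B := by
      rw [hB, Nat.card_congr (subgroupOfEquivOfLe (inf_le_left : A ⊓ fxr H U ≤ A)).toEquiv]
    rw [h3] at h2
    rw [mul_comm]
    exact h2
  have hUB : U ≤ cv M (B : Set H) := cv_inf_eq_iff.2 inf_le_right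
  have hAB : cv M (A : Set H) ≤ cv M (B : Set H) := cv_anti (SetLike.coe_subset_coe.2 hBA)
  have h2 : (cv M (A : Set H)).relIndex (cv M (B : Set H)) * (cv M (B : Set H)).index = Nat.card A := by
    rw [← h.exact]
    exact relIndex_mul_index hAB
  have h3 : (cv M (A : Set H)).relIndex U ≤ (cv M (A : Set H)).relIndex (cv M (B : Set H)) :=
    relIndex_le_of_le_right hUB (NOThree.NoOver.relIndex_ne _ _)
  have hbot : B = ⊥ := by
    by_contra hne
    have h4 := h.atom B hBA hne fun h5 => h.not_le_fxr (by rw [← h5]; exact inf_le_right)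
    have h5 : 0 < (fxr H U).relIndex A := Nat.pos_of_ne_zero (NOThree.NoOver.relIndex_ne _ _)
    have h6 : (fxr H U).relIndex A * Nat.card B < (cv M (A : Set H)).relIndex (cv M (B : Set H)) *
        (cv M (B : Set H)).index := by
      calc (fxr H U).relIndex A * Nat.card B < (fxr H U).relIndex A * (cv M (B : Set H)).index :=
            Nat.mul_lt_mul_of_pos_left h4 h5
        _ ≤ _ := Nat.mul_le_mul_right _ (hno.trans h3)
    rw [h1, h2] at h6
    exact absurd h6 (lt_irrefl _)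
  have hB1 : Nat.card B = 1 := by rw [hbot, card_bot]
  rw [hB1, mul_one] at h1
  have h6 : (cv M (A : Set H)).relIndex U = Nat.card A := by
    refine le_antisymm ?_ (h1 ▸ hno)
    calc (cv M (A : Set H)).relIndex U ≤ (cv M (A : Set H)).relIndex ⊤ :=
          relIndex_le_of_le_right le_top (NOThree.NoOver.relIndex_ne _ _)
      _ = Nat.card A := by rw [relIndex_top_right, h.exact]
  refine ⟨hbot, h6, ?_⟩
  have hn : (cv M (A : Set H)).Normal := ⟨fun m hm g => by rwa [hcomm g m, mul_inv_cancel_right]⟩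
  have h7 : (cv M (A : Set H)).relIndex (U ⊔ cv M (A : Set H)) * (U ⊔ cv M (A : Set H)).index =
      (cv M (A : Set H)).index := relIndex_mul_index le_sup_right
  rw [relIndex_sup_right, h6, h.exact] at h7
  have h8 : 0 < Nat.card A := Nat.card_pos
  rw [← index_eq_one]
  exact Nat.eq_of_mul_eq_mul_left h8 (h7.trans (mul_one _).symm)

/-- `K₀ = ⟨A^R⟩` -/
def K₀ (A R : Subgroup H) : Subgroup H := closure {k | ∃ r ∈ R, ∃ a ∈ A, k = r * a * r⁻¹}

omit [Finite H] in
theorem A_le_K₀ : A ≤ K₀ A R := fun a ha => subset_closure ⟨1, R.one_mem, a, ha, by group⟩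

omit [Finite H] in
theorem K₀_le (hA : A ≤ R) : K₀ A R ≤ R := by
  rw [K₀, closure_le]
  rintro _ ⟨r, hr, a, ha, rfl⟩
  exact R.mul_mem (R.mul_mem hr (hA ha)) (R.inv_mem hr)

omit [Finite H] in
theorem K₀_conj {g k : H} (hg : g ∈ R) (hk : k ∈ K₀ A R) : g * k * g⁻¹ ∈ K₀ A R := by
  have h1 : K₀ A R ≤ (K₀ A R).comap (MulAut.conj g).toMonoidHom := by
    conv_lhs => rw [K₀]
    rw [closure_le]
    rintro _ ⟨r, hr, a, ha, rfl⟩
    refine subset_closure ⟨g * r, R.mul_mem hg hr, a, ha, ?_⟩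
    change g * (r * a * r⁻¹) * g⁻¹ = _
    group
  exact h1 hk

omit [Finite M] in
/-- `R = K₀ T` -/
theorem sup_eq (h : Mn T A V x y R) : K₀ A R ⊔ T = R := by
  by_contra hne
  have hle : K₀ A R ⊔ T ≤ R := sup_le (K₀_le h.AR) h.TR
  have h1 := h.mn _ le_sup_right hle hne
  have h2 : A ≤ o2 (K₀ A R) := by
    have h3 : o2 (K₀ A R ⊔ T) ⊓ K₀ A R ≤ o2 (K₀ A R) := by
      refine le_o2 inf_le_right ((o2_isPGroup _).to_le inf_le_left) (le_normalizer_of fun g hg x hx => ⟨?_, ?_⟩)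
      · exact conj_mem_of_le (le_normalizer_o2 _) (mem_sup_left hg) hx.1
      · exact (K₀ A R).mul_mem ((K₀ A R).mul_mem hg hx.2) ((K₀ A R).inv_mem hg)
    exact (le_inf h1 A_le_K₀).trans h3
  exact h.nR (h2.trans (ML.MinFrame.o2_le_o2 (K₀_le h.AR) fun g hg k hk => K₀_conj hg hk))

/-- `K₀` is trivial on `M / U` -/
theorem K₀_act (h : Mn T A V x y R) {k : H} (hk : k ∈ K₀ A R) (m : M) : k • m * m⁻¹ ∈ orb R x := by
  have hcomm := comm_of_sq h.sq
  set U := orb R x with hU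
  let W : Subgroup H :=
    { carrier := {k | k ∈ R ∧ ∀ m : M, k • m * m⁻¹ ∈ U}
      one_mem' := ⟨R.one_mem, fun m => by rw [one_smul, mul_inv_cancel]; exact U.one_mem⟩
      mul_mem' := by
        rintro a b ⟨haR, ha⟩ ⟨hbR, hb⟩
        refine ⟨R.mul_mem haR hbR, fun m => ?_⟩
        have h1 := U.mul_mem (ha (b • m)) (hb m)
        have e : a • b • m * (b • m)⁻¹ * (b • m * m⁻¹) = a • b • m * m⁻¹ := by group
        rwa [e, ← mul_smul] at h1
      inv_mem' := by
        rintro a ⟨haR, ha⟩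
        refine ⟨R.inv_mem haR, fun m => ?_⟩
        have h1 := U.inv_mem (ha (a⁻¹ • m))
        rwa [smul_inv_smul, mul_inv_rev, inv_inv] at h1 }
  have h1 : K₀ A R ≤ W := by
    rw [K₀, closure_le]
    rintro _ ⟨r, hr, a, ha, rfl⟩
    refine ⟨R.mul_mem (R.mul_mem hr (h.AR ha)) (R.inv_mem hr), fun m => ?_⟩
    have h2 : r⁻¹ • m ∈ U ⊔ cv M (A : Set H) := by rw [h.exact_U.2.2]; exact mem_top _
    have hn : (cv M (A : Set H)).Normal := ⟨fun m hm g => by rwa [hcomm g m, mul_inv_cancel_right]⟩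
    obtain ⟨u, hu, c, hc, huc⟩ := mem_sup_of_normal_right.1 h2
    have h3 : a • r⁻¹ • m * (r⁻¹ • m)⁻¹ ∈ U := by
      rw [← huc, smul_mul', hc a ha, mul_inv_rev]
      have e : a • u * c * (c⁻¹ * u⁻¹) = a • u * u⁻¹ := by group
      rw [e]
      exact U.mul_mem (U_inv (h.AR ha) hu) (U.inv_mem hu)
    have h4 := U_inv hr h3
    rwa [smul_mul', smul_inv', smul_inv_smul, ← mul_smul, ← mul_smul] at h4
  exact (h1 hk).2 m

/-- `R` is trivial on the coset `y U` -/
theorem R_act (h : Mn T A V x y R) {r : H} (hr : r ∈ R) : r • y * y⁻¹ ∈ orb R x := by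
  have hn : T ≤ normalizer (K₀ A R : Set H) :=
    le_normalizer_of fun g hg k hk => K₀_conj (h.TR hg) hk
  have h1 : r ∈ K₀ A R ⊔ T := by rw [h.sup_eq]; exact hr
  obtain ⟨k, hk, t, ht, rfl⟩ := ML.MinFrame.sup_eq_mul hn h1
  rw [mul_smul, h.ty ht]
  exact h.K₀_act hk y

/-- **the vector `u`** -/
theorem exists_u (h : Mn T A V x y R) : ∃ u ∈ orb R x, ∃ y₀ : M, u = y * y₀ ∧ ∀ r ∈ R, r • y₀ = y₀ := by
  obtain ⟨y₀, h1, h2⟩ := exists_fixed_coset h.sq h.Tn (fun t ht => h.ty ht) (fun r hr => h.R_act hr)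
  exact ⟨y * y₀, h1, y₀, rfl, h2⟩

omit [Finite M] in
/-- there is a `T`-minimal `P ≤ R` which moves `x` -/
theorem exists_P (h : Mn T A V x y R) : ∃ P : Subgroup H, IsMinPar T P ∧ P ≤ R ∧ ∃ p ∈ P, p • x ≠ x := by
  by_contra hc
  push Not at hc
  obtain ⟨r, hr, hrx⟩ := h.movx
  have h1 : R ≤ MulAction.stabilizer H x := by
    refine le_of_forall h.TR (fun g hg => h.nx g hg.2) fun P hP hPR p hp => hc P hP hPR p hp
  exact hrx (h1 hr)

omit [Finite M] in
/-- `V ≤ U` -/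
theorem V_le (h : Mn T A V x y R) : V ≤ orb R x := by
  obtain ⟨P, hP, hPR, p, hp, hpx⟩ := h.exists_P
  have hV := (h.uni P hP ⟨p, hp, hpx⟩).1
  have hfin : Finite V := Nat.finite_of_card_ne_zero (by rw [h.cV]; norm_num)
  set W : Subgroup M := orb R x ⊓ V with hW
  have hx : x ∈ W := ⟨mem_orb_self R x, h.xV⟩
  have hpx' : p • x ∈ W := ⟨smul_mem_orb_self (hPR hp), hV p hp x h.xV⟩
  have hWV : W ≤ V := inf_le_right
  have h1 : Nat.card W ∣ 4 := by
    rw [← h.cV]
    exact card_dvd_of_le hWV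
  have h2 : 2 < Nat.card W := by
    have hfW : Finite W := Finite.of_injective _ (inclusion_injective hWV)
    have h3 : ({1, x, p • x} : Set M) ⊆ (W : Set M) := by
      rintro m (rfl | rfl | rfl)
      · exact W.one_mem
      · exact hx
      · exact hpx'
    have h4 : ({1, x, p • x} : Set M).ncard = 3 := by
      rw [Set.ncard_eq_three]
      refine ⟨1, x, p • x, h.x1.symm, fun h5 => h.x1 ?_, fun h5 => hpx h5.symm, rfl⟩
      exact MulAction.injective p (show p • x = p • (1 : M) by rw [← h5, smul_one])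
    have h5 := Set.ncard_le_ncard h3 (Set.toFinite _)
    rw [h4, ← Nat.card_coe_set_eq] at h5
    exact h5
  have h3 : Nat.card W = 4 := by
    have h4 : Nat.card W ≤ 4 := Nat.le_of_dvd (by norm_num) h1
    interval_cases h5 : Nat.card W
    · omega
    · rfl
  have h4 : W = V := eq_of_le_of_card_ge hWV (by rw [h3, h.cV])
  rw [← h4]
  exact inf_le_left

/-- **The section** -/
theorem low_of (h : Mn T A V x y R) {H' : Type u} [Group H'] {M' : Type v} [Group M'] [MulDistribMulAction H' M']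
    {π : R →* H'} {e : M' →* M} (D : Mor.Mor R π e) (he : e.range = orb R x)
    (hfaith : ∀ h' : H', (∀ m' : M', h' • m' = m') → h' = 1) :
    ∃ (x' u' : M'), Low (im π T) (im π A) (V.comap e) x' u' := by
  have hU : ∀ m : M, m ∈ orb R x → ∃ m' : M', e m' = m := fun m hm => by rw [← he] at hm; exact hm
  obtain ⟨u, hu, y₀, hy₀, hfix⟩ := h.exists_u
  obtain ⟨x', hx'⟩ := hU x (mem_orb_self R x)
  obtain ⟨u', hu'⟩ := hU u hu
  have hcomm := comm_of_sq h.sq
  obtain ⟨hdis, hcard, hsup⟩ := h.exact_U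
  have hfH : Finite H' := Finite.of_surjective π D.surj
  have hfM : Finite M' := Finite.of_injective e D.inj
  -- `u` and `y`
  have huy : ∀ r ∈ R, r • u = u ↔ r • y = y := by
    intro r hr
    rw [hy₀, smul_mul', hfix r hr]
    exact mul_left_inj y₀
  obtain ⟨P₀, hP₀, hP₀R, hP₀x⟩ := h.exists_P
  have hnx : ∀ g' ∈ normalizer (im π T : Set H'), g' • x' = x' ∧ g' • u' = u' := by
    intro g' hg'
    obtain ⟨g, hg, hgn, rfl⟩ := exists_normalizer D.surj h.two h.TR h.Tn hg'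
    refine ⟨(D.smul_eq_iff hg).2 (by rw [hx']; exact h.nx g hgn), (D.smul_eq_iff hg).2 ?_⟩
    rw [hu']
    exact (huy g hg).2 (h.ny g hgn)
  -- the kernel is trivial on `U`
  have hker : ∀ b, ∀ hb : b ∈ R, π ⟨b, hb⟩ = 1 → b ∈ fxr H (orb R x) := by
    intro b hb hb1 m hm
    obtain ⟨m', rfl⟩ := hU m hm
    rw [← D.sm hb, hb1, one_smul]
  have hcardB : ∀ B : Subgroup H, B ≤ A → Nat.card (im π B) = Nat.card B := by
    intro B hB
    refine card_im (hB.trans h.AR) fun b hb hb1 => ?_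
    have h1 : b ∈ A ⊓ fxr H (orb R x) := ⟨hB hb, hker b _ hb1⟩
    rw [hdis] at h1
    exact mem_bot.1 h1
  have hn : ∀ W : Subgroup M, W.Normal := fun W => ⟨fun m hm g => by rwa [hcomm g m, mul_inv_cancel_right]⟩
  have hidx : ∀ B : Subgroup H, B ≤ A → (cv M' ((im π B : Subgroup H') : Set H')).index = (cv M (B : Set H)).index := by
    intro B hB
    rw [D.index_cv (hB.trans h.AR), he]
    have h1 : orb R x ⊔ cv M (B : Set H) = ⊤ :=
      eq_top_iff.2 (hsup.ge.trans (sup_le_sup_left (cv_anti (SetLike.coe_subset_coe.2 hB)) _))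
    have := hn (cv M (B : Set H))
    rw [← relIndex_sup_right, h1, relIndex_top_right]
  have hyu : MulAction.stabilizer H' u' ≤ im π (MulAction.stabilizer H y) := by
    intro g' hg'
    obtain ⟨⟨g, hg⟩, rfl⟩ := D.surj g'
    refine mem_im_of hg ?_
    have h1 := (D.smul_eq_iff hg).1 (MulAction.mem_stabilizer_iff.1 hg')
    rw [hu'] at h1
    exact (huy g hg).1 h1
  have hyu' : im π (MulAction.stabilizer H y) ≤ MulAction.stabilizer H' u' := by
    intro g' hg'
    obtain ⟨g, hg, hg1, rfl⟩ := mem_im.1 hg'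
    refine MulAction.mem_stabilizer_iff.2 ((D.smul_eq_iff hg).2 ?_)
    rw [hu']
    exact (huy g hg).2 hg1
  refine ⟨x', u', ?_⟩
  exact
  { sq := fun m' => D.inj (by rw [map_mul, h.sq, map_one])
    faith := hfaith
    gen := by
      have h1 := D.orb_map R x'
      rw [inf_idem, im_top D.surj, hx', ← he] at h1
      have h2 : (⊤ : Subgroup M').map e = e.range := (MonoidHom.range_eq_map e).symm
      rw [← h2] at h1
      exact map_injective D.inj h1
    two := im_isPGroup h.two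
    syl := im_index D.surj h.Tn
    x1 := fun h1 => h.x1 (by rw [← hx', h1, map_one])
    y1 := fun h1 => by
      obtain ⟨r, hr, hry⟩ := h.movy
      apply hry
      rw [← huy r hr, ← hu', h1, map_one, smul_one]
    xy := fun h1 => by
      obtain ⟨p, hp, hpx⟩ := hP₀x
      apply hpx
      rw [← hx', h1, hu']
      exact (huy p (hP₀R hp)).2 ((h.uni P₀ hP₀ ⟨p, hp, hpx⟩).2 p hp)
    nx := fun g hg => (hnx g hg).1
    ny := fun g hg => (hnx g hg).2
    cV := by
      have h1 : (V.comap e).map e = V := by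
        rw [map_comap_eq, inf_eq_right, he]
        exact h.V_le
      rw [← card_map_of_injective (K := V.comap e) D.inj, h1, h.cV]
    xV := by rw [mem_comap, hx']; exact h.xV
    uni := by
      rintro P' hP' ⟨p', hp', hpx⟩
      obtain ⟨P, hP, hPR, rfl⟩ := exists_minPar D.surj h.TR hP'
      obtain ⟨p, hpR, hp, rfl⟩ := mem_im.1 hp'
      have h1 : p • x ≠ x := fun h1 => hpx ((D.smul_eq_iff hpR).2 (by rw [hx', h1]))
      obtain ⟨h2, h3⟩ := h.uni P hP ⟨p, hp, h1⟩
      constructor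
      · intro q' hq' w' hw'
        obtain ⟨q, hqR, hq, rfl⟩ := mem_im.1 hq'
        rw [mem_comap, D.sm hqR]
        exact h2 q hq _ hw'
      · intro q' hq'
        obtain ⟨q, hqR, hq, rfl⟩ := mem_im.1 hq'
        refine (D.smul_eq_iff hqR).2 ?_
        rw [hu']
        exact (huy q hqR).2 (h3 q hq)
    el := by
      rintro a' ha'
      obtain ⟨a, haR, ha, rfl⟩ := mem_im.1 ha'
      rw [← map_mul]
      have h1 : (⟨a, haR⟩ : R) * ⟨a, haR⟩ = 1 := Subtype.ext (h.el a ha)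
      rw [h1, map_one]
    A1 := fun h1 => h.A1 (by
      rw [← card_eq_one, ← hcardB A le_rfl, h1, card_bot])
    exact := by rw [hidx A le_rfl, hcardB A le_rfl, h.exact]
    atom := by
      intro C' hC' hC1 hC2
      set C : Subgroup H := A ⊓ pre π C' with hC
      have hCA : C ≤ A := inf_le_left
      have h1 : im π C = C' := by
        apply le_antisymm
        · rw [← le_pre_iff (hCA.trans h.AR)]
          exact inf_le_right
        · intro c' hc'
          obtain ⟨c, hcR, hc, rfl⟩ := mem_im.1 (hC' hc')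
          exact mem_im_of hcR ⟨hc, mem_pre.2 ⟨hcR, hc'⟩⟩
      rw [← h1, hcardB C hCA, hidx C hCA]
      refine h.atom C hCA (fun h2 => hC1 ?_) (fun h2 => hC2 ?_)
      · rw [← h1, ← card_eq_one, hcardB C hCA, h2, card_bot]
      · rw [← h1, h2]
    Ax := by
      rw [D.stab, hx']
      exact le_o2_im h.Ax (o2_le _) (o2_isPGroup _) fun g _ hg q hq => h.conjx hg hq
    Ay := by
      rw [le_antisymm hyu hyu']
      exact le_o2_im h.Ay (o2_le _) (o2_isPGroup _) fun g _ hg q hq => h.conjy hg hq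
    KH := kgroup_of_surj h.KH R π D.surj
    low := by
      intro R' hTR' hR'
      have h1 := h.mn (pre π R') ((le_pre_iff h.TR).2 hTR') pre_le (pre_ne D.surj hR')
      have h2 := (im_mono (π := π) h1).trans im_o2_le
      rwa [im_pre D.surj] at h2 }

end Mn

/-- **(P1), first half** -/
theorem exists_low (ml : MLK.{u, v}) (h : Inp T A V x y) :
    ∃ (H' : Type u) (_ : Group H') (_ : Finite H') (M' : Type v) (_ : Group M') (_ : Finite M')
      (_ : MulDistribMulAction H' M') (T' A' : Subgroup H') (V' : Subgroup M') (x' y' : M'), Low T' A' V' x' y' := by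
  obtain ⟨R, hTR, hnR, hmn⟩ := exists_min h
  have hM : Mn T A V x y R := { h with ml := ml, TR := hTR, nR := hnR, mn := hmn }
  have hU : ∀ g : R, ∀ u ∈ orb R x, g • u ∈ orb R x := fun g u hu => smul_mem_orb g.2 hu
  let _ := subAct (H := R) (orb R x) hU
  let N : Subgroup R := fxr R (⊤ : Subgroup (orb R x))
  have hN : N.Normal := fxr_normal fun _ _ _ => mem_top _
  have htriv : ∀ n ∈ N, ∀ m : orb R x, n • m = m := fun n hn m => hn m (mem_top m)
  let _ := quoAct N htriv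
  have D : Mor.Mor (M' := orb R x) R (QuotientGroup.mk' N) (orb R x).subtype :=
    ⟨QuotientGroup.mk'_surjective N, (orb R x).subtype_injective, fun _ _ => rfl⟩
  obtain ⟨x', u', hl⟩ := hM.low_of D (orb R x).range_subtype (by
    intro h' hh'
    obtain ⟨r, rfl⟩ := QuotientGroup.mk'_surjective N h'
    refine (QuotientGroup.eq_one_iff r).2 fun m _ => hh' m)
  exact ⟨R ⧸ N, inferInstance, inferInstance, orb R x, inferInstance, inferInstance, inferInstance, _, _, _, x', u', hl⟩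

end main

end Cfsg.Agent.Omega.KL.GenA

end
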