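import Cfsg.Agent.Mrg.Omega.KL.Def
import Cfsg.Agent.Mrg.Omega.IId.BSTrick

section


/-!
# THEOREM KL, the reduction to the middle (#21588 (1)-(4), #21261 (1)-(2); helper909)

* `Pre T A V x y` : the situation in a minimal `R` with `T ≤ R`, `A ≰ O₂(R)`;  `exists_pre` : from `Inp`;
* `Pre2` : moreover `M = ⟨x^H⟩`, `A` is faithful and exact;  `Pre.two` : on `⟨x^H⟩` (with `y` replaced by `y y₀`);
* `Pre2.le_cv` : **every proper submodule is centralised by `A`**;
* `Pre2.three` : on `M / C_M(⟨A^H⟩)`, which is irreducible;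
* `Pre2.four` : the quotient by the kernel;  `Pre2.sys` : the end;
* **`gen` : `Inp → ∃ .., Sys`**, `false_of` : the same for consumers.
-/

set_option autoImplicit false

namespace Cfsg.Agent.Omega.KL.Gen

open Subgroup Cfsg Cfsg.Agent.ZN Cfsg.Agent.ClassTwoFusion.Quad Cfsg.Agent.Omega.ML.MinFrame
open Cfsg.Agent.Omega.ML.Final Cfsg.Agent.Omega.KL.Def Cfsg.Agent.Omega.KL.GenTool
open Cfsg.Agent.MinSimple.MinParabolic (IsMinPar)
open Cfsg.Agent.MinSimple.VModule (o2_isPGroup o2_le le_o2 le_normalizer_o2 o2_le_of_sylow)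
open Cfsg.Agent.Omega.NOThree.NoOver (relIndex_ne)
open Cfsg.Agent.Omega.ML.CD (card_eq_relIndex_mul)

universe u v

/-- The situation in a minimal `R` with `T ≤ R`, `A ≰ O₂(R)`. -/
structure Pre {H : Type u} [Group H] {M : Type v} [Group M] [MulDistribMulAction H M] (T A : Subgroup H)
    (V : Subgroup M) (x y : M) : Prop where
  sq : ∀ m : M, m * m = 1
  two : IsPGroup 2 T
  syl : ¬ 2 ∣ T.index
  nx : ∀ g ∈ normalizer (T : Set H), g • x = x
  ny : ∀ g ∈ normalizer (T : Set H), g • y = y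
  cV : Nat.card V = 4
  xV : x ∈ V
  uni : ∀ P : Subgroup H, IsMinPar T P → (∃ p ∈ P, p • x ≠ x) →
    (∀ p ∈ P, ∀ w ∈ V, p • w ∈ V) ∧ ∀ p ∈ P, p • y = y
  mx : ∃ g : H, g • x ≠ x
  my : ∃ g : H, g • y ≠ y
  el : ∀ a ∈ A, a * a = 1
  AT : A ≤ T
  low : ∀ R : Subgroup H, T ≤ R → R ≠ ⊤ → A ≤ o2 R
  nlow : ¬ A ≤ o2 (⊤ : Subgroup H)
  KH : IsKGroup H

/-- Moreover `M = ⟨x^H⟩`, `A` is faithful and exact. -/
structure Pre2 {H : Type u} [Group H] {M : Type v} [Group M] [MulDistribMulAction H M] (T A : Subgroup H)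
    (V : Subgroup M) (x y : M) : Prop extends Pre T A V x y where
  gen : orb (⊤ : Subgroup H) x = ⊤
  ffx : ∀ a ∈ A, (∀ m : M, a • m = m) → a = 1
  exact : (cv M (A : Set H)).index = Nat.card A

variable {H : Type u} [Group H] {M : Type v} [Group M] [MulDistribMulAction H M] {T A : Subgroup H}
  {V : Subgroup M} {x y : M}

/-- `O₂(H)` centralises `⟨x^H⟩` -/
theorem o2_top_le [Finite H] (two : IsPGroup 2 T) (syl : ¬ 2 ∣ T.index) (fx : ∀ t ∈ T, t • x = x) :
    o2 (⊤ : Subgroup H) ≤ fxr H (orb (⊤ : Subgroup H) x) := by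
  have h1 : o2 (⊤ : Subgroup H) ≤ T := o2_le_of_sylow two (by rwa [relIndex_top_right])
  intro q hq
  rw [mem_fxr_orb]
  intro g _
  have h2 : g⁻¹ * q * g ∈ o2 (⊤ : Subgroup H) := by
    have := conj_mem_of_le (le_normalizer_o2 (⊤ : Subgroup H)) (mem_top g⁻¹) hq
    rwa [inv_inv] at this
  have h3 := fx _ (h1 h2)
  calc q • g • x = g • (g⁻¹ * q * g) • x := by rw [← mul_smul, ← mul_smul]; congr 1; group
    _ = g • x := by rw [h3]

/-- `O₂(L) ∩ R ≤ O₂(R)` for `R ≤ L` -/
theorem o2_inf_self {L R : Subgroup H} (h : R ≤ L) : o2 L ⊓ R ≤ o2 R :=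
  o2_inf_le le_rfl (fun _ hg _ hx => R.mul_mem (R.mul_mem hg hx) (R.inv_mem hg)) h

theorem cv_map {R : Subgroup H} (C : Subgroup R) :
    cv M ((C.map R.subtype : Subgroup H) : Set H) = cv M (C : Set R) := by
  ext m
  constructor
  · exact fun h c hc => h c ⟨c, hc, rfl⟩
  · rintro h _ ⟨c, hc, rfl⟩
    exact h c hc

/-! ### Stage 1: a minimal `R` -/

theorem exists_pre [Finite H] [Finite M] (h : Inp T A V x y) : ∃ R : Subgroup H, T ≤ R ∧
    Pre (H := R) (T.subgroupOf R) (A.subgroupOf R) V x y ∧ Atom M (A.subgroupOf R) := by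
  have hTx : ∀ t ∈ T, t • x = x := fun t ht => h.tx ht
  have hAT : A ≤ T := by
    refine h.Ax.trans (o2_le_of_sylow h.two fun h2 => h.syl (h2.trans (relIndex_dvd_index_of_le ?_)))
    exact fun t ht => h.tx ht
  have hne : ({R | T ≤ R ∧ ¬ A ≤ o2 R} : Set (Subgroup H)).Nonempty := by
    refine ⟨⊤, le_top, fun h1 => h.A1 ?_⟩
    rw [eq_bot_iff]
    intro a ha
    have h2 := o2_top_le h.two h.syl hTx (h1 ha)
    rw [h.gen] at h2
    exact mem_bot.2 (h.faith a fun m => h2 m (mem_top m))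
  obtain ⟨R, ⟨hTR, hR⟩, hmin⟩ := wellFounded_lt.has_min _ hne
  have hAR : A ≤ R := hAT.trans hTR
  have eA : (A.subgroupOf R).map R.subtype = A := by rw [subgroupOf_map_subtype, inf_eq_left.2 hAR]
  have hmv : ∀ {m : M}, A ≤ o2 (MulAction.stabilizer H m) → ∃ g : R, g • m ≠ m := by
    intro m hm
    by_contra hc
    push Not at hc
    have h1 : R ≤ MulAction.stabilizer H m := fun g hg => hc ⟨g, hg⟩
    exact hR ((le_inf hm hAR).trans (o2_inf_self h1))
  refine ⟨R, hTR, ?_, ?_⟩
  · refine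
      { sq := h.sq
        two := h.two.comap_of_injective _ R.subtype_injective
        syl := fun h2 => h.syl (h2.trans (relIndex_dvd_index_of_le hTR))
        nx := fun g hg => h.nx _ ?_
        ny := fun g hg => h.ny _ ?_
        cV := h.cV
        xV := h.xV
        uni := ?_
        mx := hmv h.Ax
        my := hmv h.Ay
        el := fun a ha => Subtype.ext (h.el _ ha)
        AT := fun a ha => hAT ha
        low := ?_
        nlow := ?_
        KH := sec_KG.sub H h.KH R }
    · have h1 : (normalizer (T.subgroupOf R : Set R)).map R.subtype ≤ normalizer (T : Set H) := by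
        refine le_normalizer_of ?_
        rintro _ ⟨n, hn, rfl⟩ t ht
        exact (mem_normalizer_iff.1 hn ⟨t, hTR ht⟩).1 ht
      exact h1 ⟨g, hg, rfl⟩
    · have h1 : (normalizer (T.subgroupOf R : Set R)).map R.subtype ≤ normalizer (T : Set H) := by
        refine le_normalizer_of ?_
        rintro _ ⟨n, hn, rfl⟩ t ht
        exact (mem_normalizer_iff.1 hn ⟨t, hTR ht⟩).1 ht
      exact h1 ⟨g, hg, rfl⟩
    · intro P hP hm
      obtain ⟨p, hp, hpx⟩ := hm
      obtain ⟨h1, h2⟩ := h.uni (P.map R.subtype) (minPar_map_subtype hTR hP) ⟨p, ⟨p, hp, rfl⟩, hpx⟩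
      exact ⟨fun q hq w hw => h1 q ⟨q, hq, rfl⟩ w hw, fun q hq => h2 q ⟨q, hq, rfl⟩⟩
    · intro S hTS hS
      have h1 : S.map R.subtype < R := by
        refine lt_of_le_of_ne (map_subtype_le S) fun h2 => hS ?_
        rw [eq_top_iff]
        intro r _
        have h3 : (r : H) ∈ S.map R.subtype := by rw [h2]; exact r.2
        obtain ⟨s, hs, hsr⟩ := h3
        rwa [← (Subtype.ext hsr : s = r)]
      have h2 : T ≤ S.map R.subtype := fun t ht => ⟨⟨t, hTR ht⟩, hTS ht, rfl⟩
      have h3 : A ≤ o2 (S.map R.subtype) := by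
        by_contra h4
        exact hmin _ ⟨h2, h4⟩ h1
      exact le_trans (fun a ha => h3 ha) (o2_subgroupOf_le S)
    · intro h1
      apply hR
      have h2 := (map_mono (f := R.subtype) h1).trans (o2_map_le R.subtype ⊤)
      rwa [eA, ← MonoidHom.range_eq_map, range_subtype] at h2
  · refine ⟨fun a ha => Subtype.ext (h.el _ ha), fun h1 => h.A1 ?_, ?_, fun C hC hC1 hCA => ?_⟩
    · rw [← eA, h1, Subgroup.map_bot]
    · rw [← cv_map, eA, h.exact]
      exact (Nat.card_congr (subgroupOfEquivOfLe hAR).toEquiv).symm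
    · have h1 := h.atom (C.map R.subtype) (by rw [← eA]; exact map_mono hC)
        (fun h2 => hC1 ((map_eq_bot_iff_of_injective _ R.subtype_injective).1 h2))
        (fun h2 => hCA (map_subtype_inj.1 (h2.trans eA.symm)))
      rwa [cv_map, card_map_of_injective R.subtype_injective] at h1

/-! ### Facts about `Pre` -/

namespace Pre

theorem tx (h : Pre T A V x y) {t : H} (ht : t ∈ T) : t • x = x := h.nx t (le_normalizer ht)

theorem ty (h : Pre T A V x y) {t : H} (ht : t ∈ T) : t • y = y := h.ny t (le_normalizer ht)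

theorem exists_par [Finite H] (h : Pre T A V x y) : ∃ P : Subgroup H, IsMinPar T P ∧ ∃ p ∈ P, p • x ≠ x := by
  by_contra hc
  push Not at hc
  obtain ⟨g, hg⟩ := h.mx
  have h1 : (⊤ : Subgroup H) ≤ MulAction.stabilizer H x :=
    MinSimple.MinParabolic.le_of_forall le_top (fun n hn => h.nx n hn.2) fun P hP _ p hp => hc P hP p hp
  exact hg (h1 (mem_top g))

theorem stab_ne (h : Pre T A V x y) : MulAction.stabilizer H x ≠ ⊤ := by
  intro h1
  obtain ⟨g, hg⟩ := h.mx
  exact hg (h1 ▸ mem_top g : g ∈ MulAction.stabilizer H x)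

theorem Ax (h : Pre T A V x y) : A ≤ o2 (MulAction.stabilizer H x) := h.low _ (fun _ ht => h.tx ht) h.stab_ne

theorem inv_eq (h : Pre T A V x y) (m : M) : m⁻¹ = m := inv_eq_of_mul_eq_one_right (h.sq m)

/-- the elements of `V#` are conjugate to `x` by elements which fix `y` -/
theorem trV [Finite H] (h : Pre T A V x y) {v : M} (hv : v ∈ V) (hv1 : v ≠ 1) : ∃ g : H, g • x = v ∧ g • y = y := by
  obtain ⟨P, hP, hm⟩ := h.exists_par
  obtain ⟨h1, h2⟩ := h.uni P hP hm
  obtain ⟨p, hp, hpv⟩ := trans hP.le h.syl (fun t ht => h.tx ht) h.cV h.xV h1 hm hv hv1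
  exact ⟨p, hpv, h2 p hp⟩

theorem V_le [Finite H] (h : Pre T A V x y) : V ≤ orb (⊤ : Subgroup H) x := by
  intro v hv
  by_cases hv1 : v = 1
  · rw [hv1]; exact one_mem _
  · obtain ⟨g, rfl, -⟩ := h.trV hv hv1
    exact smul_mem_orb_self (mem_top g)

/-- `⟨A^H⟩ T = H` -/
theorem K0T [Finite H] (h : Pre T A V x y) : normalClosure (A : Set H) ⊔ T = ⊤ := by
  by_contra hc
  apply h.nlow
  have h1 := h.low _ le_sup_right hc
  have h2 : A ≤ normalClosure (A : Set H) := subset_normalClosure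
  refine (le_inf h1 h2).trans (o2_inf_le le_top (fun g _ n hn => ?_) le_sup_left)
  exact (normalClosure_normal (s := (A : Set H))).conj_mem n hn g

/-- a normal subgroup which contains `A` and a `T`-invariant condition: a vector fixed by `T` and `⟨A^H⟩` is fixed by
`H` -/
theorem fixed [Finite H] (h : Pre T A V x y) {m : M} (h1 : ∀ t ∈ T, t • m = m)
    (h2 : ∀ k ∈ normalClosure (A : Set H), k • m = m) (g : H) : g • m = m := by
  have h3 : normalClosure (A : Set H) ⊔ T ≤ MulAction.stabilizer H m := sup_le (fun k hk => h2 k hk) fun t ht => h1 t ht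
  rw [h.K0T] at h3
  exact h3 (mem_top g)

end Pre

/-! ### Stage 2: the module `⟨x^H⟩` -/

theorem orb_inv (x : M) : ∀ g : H, ∀ u ∈ orb (⊤ : Subgroup H) x, g • u ∈ orb (⊤ : Subgroup H) x :=
  fun g _ hu => smul_mem_orb (mem_top g) hu

namespace Pre

section two

variable [Finite H] [Finite M]

/-- `A` is faithful and exact on `U = ⟨x^H⟩` and `M = U C_M(A)` -/
theorem counts (ml : MLK.{u, v}) (h : Pre T A V x y) (ha : Atom M A) :
    fxr H (orb (⊤ : Subgroup H) x) ⊓ A = ⊥ ∧ (cv M (A : Set H)).relIndex (orb (⊤ : Subgroup H) x) = Nat.card A ∧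
      orb (⊤ : Subgroup H) x ⊔ cv M (A : Set H) = ⊤ := by
  set U := orb (⊤ : Subgroup H) x with hU
  have hno := no_orb ml h.KH h.sq h.two h.syl (fun t ht => h.tx ht) h.el h.Ax
  rw [← hU] at hno
  have hfn : (fxr H U).Normal := fxr_normal (orb_inv x)
  have hstab : fxr H U ≤ MulAction.stabilizer H x := fun g hg => hg x (mem_orb_self _ x)
  have hC : fxr H U ⊓ A ≤ o2 (⊤ : Subgroup H) := by
    refine le_trans ?_ (o2_inf_le (L := ⊤) le_top (fun g _ n hn => hfn.conj_mem n hn g) hstab)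
    exact le_inf (inf_le_right.trans h.Ax) inf_le_left
  have hcard : Nat.card A = (fxr H U).relIndex A * Nat.card (fxr H U ⊓ A : Subgroup H) := by
    rw [card_eq_relIndex_mul (inf_le_right : fxr H U ⊓ A ≤ A), inf_relIndex_right]
  have hbot : fxr H U ⊓ A = ⊥ := by
    by_contra hne
    have hneA : fxr H U ⊓ A ≠ A := fun h1 => h.nlow (h1 ▸ hC)
    have h1 := ha.atom _ inf_le_right hne hneA
    have h2 : U ≤ cv M ((fxr H U ⊓ A : Subgroup H) : Set H) := fun m hm c hc => hc.1 m hm
    have h3 : cv M (A : Set H) ≤ cv M ((fxr H U ⊓ A : Subgroup H) : Set H) := fun m hm c hc => hm c hc.2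
    have h4 := relIndex_le_of_le_right h2 (relIndex_ne (cv M (A : Set H)) _)
    have h5 : (cv M (A : Set H)).relIndex (cv M ((fxr H U ⊓ A : Subgroup H) : Set H)) *
        (cv M ((fxr H U ⊓ A : Subgroup H) : Set H)).index = (cv M (A : Set H)).index := relIndex_mul_index h3
    rw [ha.exact, hcard] at h5
    have h6 : 0 < (fxr H U).relIndex A := Nat.pos_of_ne_zero (relIndex_ne _ _)
    have h7 : (fxr H U).relIndex A ≤ (cv M (A : Set H)).relIndex (cv M ((fxr H U ⊓ A : Subgroup H) : Set H)) :=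
      hno.trans h4
    nlinarith
  rw [hbot, card_bot, mul_one] at hcard
  have h1 : (cv M (A : Set H)).relIndex U ≤ (cv M (A : Set H)).index := by
    rw [← relIndex_top_right]
    exact relIndex_le_of_le_right le_top (relIndex_ne _ _)
  rw [ha.exact] at h1
  rw [← hcard] at hno
  have h2 : (cv M (A : Set H)).relIndex U = Nat.card A := le_antisymm h1 hno
  refine ⟨hbot, h2, ?_⟩
  have hM := comm_of_sq h.sq
  have hn : (cv M (A : Set H)).Normal := ⟨fun m hm g => by rwa [hM g m, mul_inv_cancel_right]⟩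
  have h3 : (cv M (A : Set H)).relIndex (U ⊔ cv M (A : Set H)) = (cv M (A : Set H)).relIndex U := relIndex_sup_right _ _
  have h4 := relIndex_mul_index (le_sup_right : cv M (A : Set H) ≤ U ⊔ cv M (A : Set H))
  rw [h3, h2, ha.exact] at h4
  have h5 : 0 < Nat.card A := Nat.card_pos
  exact index_eq_one.1 (Nat.eq_of_mul_eq_mul_left h5 (by rw [h4, mul_one]))

/-- `H` fixes `y` modulo `U` -/
theorem y_mod (ml : MLK.{u, v}) (h : Pre T A V x y) (ha : Atom M A) (g : H) :
    g • y * y ∈ orb (⊤ : Subgroup H) x := by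
  obtain ⟨-, -, htop⟩ := h.counts ml ha
  have hM := comm_of_sq h.sq
  set U := orb (⊤ : Subgroup H) x with hU
  have hUn : U.Normal := ⟨fun m hm g => by rwa [hM g m, mul_inv_cancel_right]⟩
  let _ := modAct (H := H) U (orb_inv x)
  have hmk : ∀ a b : M, (QuotientGroup.mk a : M ⧸ U) = QuotientGroup.mk b ↔ a * b ∈ U := by
    intro a b
    rw [QuotientGroup.eq, h.inv_eq]
  have hS : (⊤ : Subgroup H) ≤ MulAction.stabilizer H (QuotientGroup.mk y : M ⧸ U) := by
    rw [← h.K0T, sup_le_iff]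
    refine ⟨?_, fun t ht => ?_⟩
    · rw [normalClosure, closure_le]
      intro k hk
      obtain ⟨a, ha, hak⟩ := Group.mem_conjugatesOfSet_iff.1 hk
      obtain ⟨c, rfl⟩ := isConj_iff.1 hak
      change (QuotientGroup.mk ((c * a * c⁻¹) • y) : M ⧸ U) = QuotientGroup.mk y
      rw [hmk]
      obtain ⟨u, hu, w, hw, huw⟩ := (mem_sup_of_normal_left (s := U) (t := cv M (A : Set H))).1
        (by rw [htop]; exact mem_top (c⁻¹ • y))
      have e : (c * a * c⁻¹) • y * y = c • (a • u * u) := by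
        have e1 : y = c • (u * w) := by rw [huw, smul_inv_smul]
        rw [mul_smul, mul_smul, ← huw]
        conv_lhs => rw [e1]
        rw [← smul_mul', smul_mul' a u w, hw a ha, hM u w, mul_assoc, ← mul_assoc w w u, h.sq, one_mul]
      rw [e]
      exact orb_inv x c _ (U.mul_mem (orb_inv x a u hu) hu)
    · change (QuotientGroup.mk (t • y) : M ⧸ U) = QuotientGroup.mk y
      rw [h.ty ht]
  exact (hmk _ _).1 (hS (mem_top g))

/-- **Stage 2** -/
theorem stage2 (ml : MLK.{u, v}) (h : Pre T A V x y) (ha : Atom M A) :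
    letI := subAct (orb (⊤ : Subgroup H) x) (orb_inv x)
    ∃ y' : orb (⊤ : Subgroup H) x, Pre2 T A (V.subgroupOf (orb (⊤ : Subgroup H) x)) (⟨x, mem_orb_self _ x⟩) y' := by
  obtain ⟨hbot, hidx, -⟩ := h.counts ml ha
  obtain ⟨z, hz, hyz⟩ := exists_fixed_mod h.sq h.syl (fun t ht => h.ty ht) (h.y_mod ml ha)
  set U := orb (⊤ : Subgroup H) x with hU
  let _ := subAct U (orb_inv x)
  have hsm : ∀ (g : H) (u : U), ((g • u : U) : M) = g • (u : M) := fun _ _ => rfl
  have hcv : cv U (A : Set H) = (cv M (A : Set H)).subgroupOf U := by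
    ext u
    rw [mem_subgroupOf]
    exact ⟨fun h1 a ha => congrArg Subtype.val (h1 a ha), fun h1 a ha => Subtype.ext (h1 a ha)⟩
  refine ⟨⟨y * z, hyz⟩, ?_⟩
  exact
    { sq := fun m => Subtype.ext (h.sq m)
      two := h.two
      syl := h.syl
      nx := fun g hg => Subtype.ext (h.nx g hg)
      ny := fun g hg => Subtype.ext (by rw [hsm, smul_mul', h.ny g hg, hz])
      cV := by
        rw [← h.cV]
        exact Nat.card_congr (subgroupOfEquivOfLe h.V_le).toEquiv
      xV := h.xV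
      uni := by
        rintro P hP ⟨p, hp, hpx⟩
        obtain ⟨h1, h2⟩ := h.uni P hP ⟨p, hp, fun h3 => hpx (Subtype.ext h3)⟩
        exact ⟨fun q hq w hw => h1 q hq w hw, fun q hq => Subtype.ext (by rw [hsm, smul_mul', h2 q hq, hz])⟩
      mx := by
        obtain ⟨g, hg⟩ := h.mx
        exact ⟨g, fun h1 => hg (congrArg Subtype.val h1)⟩
      my := by
        obtain ⟨g, hg⟩ := h.my
        refine ⟨g, fun h1 => hg ?_⟩
        have h2 : g • (y * z) = y * z := congrArg Subtype.val h1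
        rw [smul_mul', hz] at h2
        exact mul_right_cancel h2
      el := h.el
      AT := h.AT
      low := h.low
      nlow := h.nlow
      KH := h.KH
      gen := by
        rw [eq_top_iff]
        have h1 : U ≤ (orb (⊤ : Subgroup H) (⟨x, mem_orb_self _ x⟩ : U)).map U.subtype :=
          orb_le fun g _ => ⟨g • ⟨x, mem_orb_self _ x⟩, smul_mem_orb_self (mem_top g), rfl⟩
        intro u _
        obtain ⟨w, hw, hwu⟩ := h1 u.2
        rwa [← (Subtype.ext hwu : w = u)]
      ffx := fun a ha hm => by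
        have h1 : a ∈ fxr H U ⊓ A := ⟨fun m hm' => congrArg Subtype.val (hm ⟨m, hm'⟩), ha⟩
        rw [hbot] at h1
        exact mem_bot.1 h1
      exact := by rw [hcv]; exact hidx }

end two

end Pre

/-! ### Stage 3: the irreducible quotient -/

/-- `C_M(⟨A^H⟩)` -/
def U0 (M : Type v) [Group M] [MulDistribMulAction H M] (A : Subgroup H) : Subgroup M :=
  cv M ((normalClosure (A : Set H) : Subgroup H) : Set H)

theorem U0_inv : ∀ g : H, ∀ m ∈ U0 M A, g • m ∈ U0 M A := by
  intro g m hm k hk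
  have h1 : g⁻¹ * k * g ∈ normalClosure (A : Set H) := by
    have := (normalClosure_normal (s := (A : Set H))).conj_mem k hk g⁻¹
    rwa [inv_inv] at this
  calc k • g • m = g • (g⁻¹ * k * g) • m := by rw [← mul_smul, ← mul_smul]; congr 1; group
    _ = g • m := by rw [hm _ h1]

theorem normal_of_sq (sq : ∀ m : M, m * m = 1) (W : Subgroup M) : W.Normal :=
  ⟨fun m hm g => by rwa [comm_of_sq sq g m, mul_inv_cancel_right]⟩

namespace Pre2

theorem not_mem (h : Pre2 T A V x y) {W : Subgroup M} (hW : ∀ g : H, ∀ m ∈ W, g • m ∈ W) (hne : W ≠ ⊤) : x ∉ W := by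
  intro hx
  apply hne
  rw [eq_top_iff, ← h.gen]
  exact orb_le fun g _ => hW g x hx

section fin

variable [Finite H]

theorem o2_top (h : Pre2 T A V x y) : A ⊓ o2 (⊤ : Subgroup H) = ⊥ := by
  rw [eq_bot_iff]
  rintro a ⟨ha, hao⟩
  have h1 := o2_top_le h.two h.syl (fun t ht => h.tx ht) hao
  rw [h.gen] at h1
  exact mem_bot.2 (h.ffx a ha fun m => h1 m (mem_top m))

/-- `x` is moved modulo every proper submodule -/
theorem moved (h : Pre2 T A V x y) {W : Subgroup M} (hW : ∀ g : H, ∀ m ∈ W, g • m ∈ W) (hne : W ≠ ⊤) :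
    ∃ g : H, g • x * x ∉ W := by
  by_contra hc
  push Not at hc
  have hVf : Finite V := Nat.finite_of_card_ne_zero (by rw [h.cV]; omega)
  have h1 : ∃ v ∈ V, v ≠ 1 ∧ v ≠ x := by
    by_contra hv
    push Not at hv
    have h2 : (V : Set M) ⊆ {1, x} := fun v hv' => by
      by_cases h3 : v = 1
      · exact Or.inl h3
      · exact Or.inr (hv v hv' h3)
    have h3 := Set.ncard_le_ncard h2 (Set.toFinite _)
    have h4 : (V : Set M).ncard = 4 := by rw [← Nat.card_coe_set_eq]; exact h.cV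
    have h5 := Set.ncard_insert_le (1 : M) ({x} : Set M)
    rw [Set.ncard_singleton] at h5
    omega
  obtain ⟨v, hv, hv1, hvx⟩ := h1
  obtain ⟨g, hg, -⟩ := h.trV hv hv1
  have h2 : v * x ∈ W := by rw [← hg]; exact hc g
  have h3 : v * x ≠ 1 := fun h3 => hvx (by rw [← h.inv_eq x]; exact mul_eq_one_iff_eq_inv.1 h3)
  obtain ⟨k, hk, -⟩ := h.trV (V.mul_mem hv h.xV) h3
  apply h.not_mem hW hne
  have h4 := hW k⁻¹ _ h2
  rwa [← hk, inv_smul_smul] at h4

end fin

section count

variable [Finite H] [Finite M]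

/-- **Every proper submodule is centralised by `A`; `A` is faithful and exact modulo it** -/
theorem mod (ml : MLK.{u, v}) (h : Pre2 T A V x y) {W : Subgroup M} [W.Normal] (hW : ∀ g : H, ∀ m ∈ W, g • m ∈ W)
    (hne : W ≠ ⊤) :
    letI := modAct W hW
    (∀ a ∈ A, (∀ m : M ⧸ W, a • m = m) → a = 1) ∧ (cv (M ⧸ W) (A : Set H)).index = Nat.card A ∧
      W ≤ cv M (A : Set H) ∧ orb (⊤ : Subgroup H) (QuotientGroup.mk x : M ⧸ W) = ⊤ := by
  let _ := modAct W hW
  have hsm : ∀ (g : H) (m : M), g • (QuotientGroup.mk m : M ⧸ W) = QuotientGroup.mk (g • m) := fun _ _ => rfl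
  have hmk : ∀ a b : M, (QuotientGroup.mk a : M ⧸ W) = QuotientGroup.mk b ↔ a * b ∈ W := by
    intro a b
    rw [QuotientGroup.eq, h.inv_eq]
  have hTs : T ≤ MulAction.stabilizer H (QuotientGroup.mk x : M ⧸ W) := fun t ht => by
    rw [MulAction.mem_stabilizer_iff, hsm, h.tx ht]
  have hR : MulAction.stabilizer H (QuotientGroup.mk x : M ⧸ W) ≠ ⊤ := by
    intro h1
    obtain ⟨g, hg⟩ := h.moved hW hne
    have h2 : g ∈ MulAction.stabilizer H (QuotientGroup.mk x : M ⧸ W) := by rw [h1]; exact mem_top g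
    rw [MulAction.mem_stabilizer_iff, hsm, hmk] at h2
    exact hg h2
  have hA := h.low _ hTs hR
  have htop : orb (⊤ : Subgroup H) (QuotientGroup.mk x : M ⧸ W) = ⊤ := by
    have h1 : orb (⊤ : Subgroup H) x ≤
        (orb (⊤ : Subgroup H) (QuotientGroup.mk x : M ⧸ W)).comap (QuotientGroup.mk' W) :=
      orb_le fun g _ => smul_mem_orb_self (mem_top g)
    rw [h.gen] at h1
    rw [eq_top_iff]
    intro m _
    obtain ⟨m, rfl⟩ := QuotientGroup.mk_surjective m
    exact h1 (mem_top m)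
  have hsq : ∀ m : M ⧸ W, m * m = 1 := by
    intro m
    obtain ⟨m, rfl⟩ := QuotientGroup.mk_surjective m
    rw [← QuotientGroup.mk_mul, h.sq]
    rfl
  have hno := no ml h.KH hsq h.two h.syl (fun t ht => hTs ht) htop h.el hA
  have hfn : (fxr H (⊤ : Subgroup (M ⧸ W))).Normal := fxr_normal fun _ _ _ => mem_top _
  have hker : ∀ a ∈ A, (∀ m : M ⧸ W, a • m = m) → a = 1 := by
    intro a ha hm
    have h1 : a ∈ A ⊓ o2 (⊤ : Subgroup H) := by
      refine ⟨ha, o2_inf_le (L := ⊤) (N := fxr H (⊤ : Subgroup (M ⧸ W))) le_top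
        (fun g _ n hn => hfn.conj_mem n hn g) (fun g hg => hg _ (mem_top _)) ⟨hA ha, fun m _ => hm m⟩⟩
    rw [h.o2_top] at h1
    exact mem_bot.1 h1
  have hbot : fxr H (⊤ : Subgroup (M ⧸ W)) ⊓ A = ⊥ := by
    rw [eq_bot_iff]
    rintro a ⟨h1, ha⟩
    exact mem_bot.2 (hker a ha fun m => h1 m (mem_top m))
  rw [← inf_relIndex_right, hbot, relIndex_bot_left] at hno
  have h1 : cv M (A : Set H) ⊔ W ≤ (cv (M ⧸ W) (A : Set H)).comap (QuotientGroup.mk' W) := by
    rw [sup_le_iff]
    constructor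
    · intro m hm a ha
      change a • (QuotientGroup.mk m : M ⧸ W) = QuotientGroup.mk m
      rw [hsm, hm a ha]
    · intro m hm a ha
      change a • (QuotientGroup.mk m : M ⧸ W) = QuotientGroup.mk m
      rw [hsm, hmk]
      exact W.mul_mem (hW a m hm) hm
  have h2 := index_antitone h1
  rw [index_comap_of_surjective _ (QuotientGroup.mk'_surjective W)] at h2
  have h3 := index_antitone (le_sup_left : cv M (A : Set H) ≤ cv M (A : Set H) ⊔ W)
  have h4 := relIndex_mul_index (le_sup_left : cv M (A : Set H) ≤ cv M (A : Set H) ⊔ W)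
  rw [h.exact] at h3 h4
  refine ⟨hker, by omega, ?_, htop⟩
  have h5 : (cv M (A : Set H) ⊔ W).index = Nat.card A := by omega
  rw [h5] at h4
  have h6 : (cv M (A : Set H)).relIndex (cv M (A : Set H) ⊔ W) = 1 :=
    Nat.eq_of_mul_eq_mul_right Nat.card_pos (by rw [h4, one_mul])
  exact le_sup_right.trans (relIndex_eq_one.1 h6)

theorem le_U0 (ml : MLK.{u, v}) (h : Pre2 T A V x y) {W : Subgroup M} (hW : ∀ g : H, ∀ m ∈ W, g • m ∈ W)
    (hne : W ≠ ⊤) : W ≤ U0 M A := by
  have _ := normal_of_sq h.sq W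
  obtain ⟨-, -, h1, -⟩ := h.mod ml hW hne
  have h2 : (fxr H W).Normal := fxr_normal hW
  have h3 : normalClosure (A : Set H) ≤ fxr H W := normalClosure_le_normal fun a ha m hm => h1 hm a ha
  exact fun m hm k hk => h3 hk m hm

omit [Finite M] [Finite H] in
theorem U0_ne (h : Pre2 T A V x y) : U0 M A ≠ ⊤ := by
  intro h1
  apply h.nlow
  have h2 : A ≤ ⊥ := by
    intro a ha
    refine mem_bot.2 (h.ffx a ha fun m => ?_)
    have h3 : m ∈ U0 M A := by rw [h1]; exact mem_top m
    exact h3 a (subset_normalClosure ha)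
  exact h2.trans bot_le

omit [Finite M] in
theorem y_not_mem (h : Pre2 T A V x y) : y ∉ U0 M A := by
  intro h1
  obtain ⟨g, hg⟩ := h.my
  exact hg (h.fixed (fun t ht => h.ty ht) (fun k hk => h1 k hk) g)

omit [Finite M] in
theorem xy_not_mem (h : Pre2 T A V x y) : x * y ∉ U0 M A := by
  intro h1
  obtain ⟨P, hP, p, hp, hpx⟩ := h.exists_par
  obtain ⟨-, h2⟩ := h.uni P hP ⟨p, hp, hpx⟩
  have h3 := h.fixed (m := x * y) (fun t ht => by rw [smul_mul', h.tx ht, h.ty ht]) (fun k hk => h1 k hk) p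
  rw [smul_mul', h2 p hp] at h3
  exact hpx (mul_right_cancel h3)

/-- **Stage 3** -/
theorem stage3 (ml : MLK.{u, v}) (h : Pre2 T A V x y) [(U0 M A).Normal] :
    letI := modAct (U0 M A) (U0_inv (M := M) (A := A))
    Pre2 T A (V.map (QuotientGroup.mk' (U0 M A))) (QuotientGroup.mk x : M ⧸ U0 M A) (QuotientGroup.mk y : M ⧸ U0 M A) ∧
      ∀ W : Subgroup (M ⧸ U0 M A), (∀ h : H, ∀ w ∈ W, h • w ∈ W) → W = ⊥ ∨ W = ⊤ := by
  obtain ⟨hker, hex, -, htop⟩ := h.mod ml (U0_inv (M := M) (A := A)) h.U0_ne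
  let _ := modAct (U0 M A) (U0_inv (M := M) (A := A))
  have hsm : ∀ (g : H) (m : M), g • (QuotientGroup.mk m : M ⧸ U0 M A) = QuotientGroup.mk (g • m) := fun _ _ => rfl
  have hmk : ∀ a b : M, (QuotientGroup.mk a : M ⧸ U0 M A) = QuotientGroup.mk b ↔ a * b ∈ U0 M A := by
    intro a b
    rw [QuotientGroup.eq, h.inv_eq]
  have hmk1 : ∀ a : M, (QuotientGroup.mk a : M ⧸ U0 M A) = 1 ↔ a ∈ U0 M A := fun a => QuotientGroup.eq_one_iff a
  have irr : ∀ W : Subgroup (M ⧸ U0 M A), (∀ h : H, ∀ w ∈ W, h • w ∈ W) → W = ⊥ ∨ W = ⊤ := by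
    intro W hW
    by_cases h1 : W = ⊤
    · exact Or.inr h1
    left
    have h2 : W.comap (QuotientGroup.mk' (U0 M A)) ≠ ⊤ := by
      intro h2
      apply h1
      rw [eq_top_iff]
      intro w _
      obtain ⟨m, rfl⟩ := QuotientGroup.mk_surjective w
      have : m ∈ W.comap (QuotientGroup.mk' (U0 M A)) := by rw [h2]; exact mem_top m
      exact this
    have h3 := h.le_U0 ml (W := W.comap (QuotientGroup.mk' (U0 M A))) (fun g m hm => hW g _ hm) h2
    rw [eq_bot_iff]
    intro w hw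
    obtain ⟨m, rfl⟩ := QuotientGroup.mk_surjective w
    exact mem_bot.2 ((hmk1 m).2 (h3 hw))
  refine ⟨?_, irr⟩
  exact
    { sq := by
        intro m
        obtain ⟨m, rfl⟩ := QuotientGroup.mk_surjective m
        rw [← QuotientGroup.mk_mul, h.sq]
        rfl
      two := h.two
      syl := h.syl
      nx := fun g hg => by rw [hsm, h.nx g hg]
      ny := fun g hg => by rw [hsm, h.ny g hg]
      cV := by
        have h1 : U0 M A ⊓ V = ⊥ := by
          rw [eq_bot_iff]
          rintro v ⟨hv1, hv⟩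
          by_contra hne
          obtain ⟨g, hg, -⟩ := h.trV hv hne
          apply h.not_mem (U0_inv (M := M) (A := A)) h.U0_ne
          rw [← inv_smul_smul g x, hg]
          exact U0_inv _ _ hv1
        rw [← relIndex_ker, QuotientGroup.ker_mk', ← inf_relIndex_right, h1, relIndex_bot_left, h.cV]
      xV := mem_map_of_mem _ h.xV
      uni := by
        rintro P hP ⟨p, hp, hpx⟩
        obtain ⟨h1, h2⟩ := h.uni P hP ⟨p, hp, fun h3 => hpx (by rw [hsm, h3])⟩
        refine ⟨?_, fun q hq => by rw [hsm, h2 q hq]⟩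
        rintro q hq _ ⟨v, hv, rfl⟩
        exact ⟨q • v, h1 q hq v hv, rfl⟩
      mx := by
        obtain ⟨g, hg⟩ := h.moved (U0_inv (M := M) (A := A)) h.U0_ne
        exact ⟨g, fun h1 => hg ((hmk _ _).1 h1)⟩
      my := by
        by_contra hc
        push Not at hc
        rcases irr (zpowers (QuotientGroup.mk y : M ⧸ U0 M A)) (by
          rintro g _ ⟨n, rfl⟩
          change g • (QuotientGroup.mk y : M ⧸ U0 M A) ^ n ∈ _
          rw [smul_zpow', hc g]
          exact ⟨n, rfl⟩) with h1 | h1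
        · rw [zpowers_eq_bot, hmk1] at h1
          exact h.y_not_mem h1
        · have h2 : (QuotientGroup.mk x : M ⧸ U0 M A) ∈ zpowers (QuotientGroup.mk y : M ⧸ U0 M A) := by
            rw [h1]
            exact mem_top _
          obtain ⟨n, hn⟩ := h2
          change (QuotientGroup.mk y : M ⧸ U0 M A) ^ n = QuotientGroup.mk x at hn
          have h3 : (QuotientGroup.mk y : M ⧸ U0 M A) ^ (2 : ℤ) = 1 := by
            rw [zpow_two, ← QuotientGroup.mk_mul, h.sq]
            rfl
          rcases Int.even_or_odd' n with ⟨k, hk | hk⟩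
          · rw [hk, zpow_mul, h3, one_zpow] at hn
            exact h.not_mem (U0_inv (M := M) (A := A)) h.U0_ne ((hmk1 x).1 hn.symm)
          · rw [hk, zpow_add, zpow_mul, h3, one_zpow, one_mul, zpow_one] at hn
            exact h.xy_not_mem ((hmk _ _).1 hn.symm)
      el := h.el
      AT := h.AT
      low := h.low
      nlow := h.nlow
      KH := h.KH
      gen := htop
      ffx := hker
      exact := hex }

end count

end Pre2

/-! ### Stage 4: the faithful quotient -/

theorem triv_fxr : ∀ g ∈ fxr H (⊤ : Subgroup M), ∀ m : M, g • m = m := fun _ hg m => hg m (mem_top m)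

/-- **Stage 4** -/
theorem Pre2.stage4 [Finite H] [Finite M] (h : Pre2 T A V x y) [(fxr H (⊤ : Subgroup M)).Normal] :
    letI := quoAct (fxr H (⊤ : Subgroup M)) (triv_fxr (H := H) (M := M))
    Pre2 (T.map (QuotientGroup.mk' (fxr H (⊤ : Subgroup M)))) (A.map (QuotientGroup.mk' (fxr H (⊤ : Subgroup M)))) V x y
      ∧ ∀ g : H ⧸ fxr H (⊤ : Subgroup M), (∀ m : M, g • m = m) → g = 1 := by
  let _ := quoAct (fxr H (⊤ : Subgroup M)) (triv_fxr (H := H) (M := M))
  set C := fxr H (⊤ : Subgroup M) with hC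
  let π : H →* H ⧸ C := QuotientGroup.mk' C
  have hπ : Function.Surjective π := QuotientGroup.mk'_surjective C
  have he : ∀ (g : H) (m : M), π g • m = g • m := fun _ _ => rfl
  have faith : ∀ g : H ⧸ C, (∀ m : M, g • m = m) → g = 1 := by
    intro g hg
    obtain ⟨g, rfl⟩ := hπ g
    exact (QuotientGroup.eq_one_iff g).2 fun m _ => hg m
  have hnor : ∀ m : M, (∀ g ∈ normalizer (T : Set H), g • m = m) → ∀ g ∈ normalizer (T.map π : Set (H ⧸ C)), g • m = m := by
    intro m hm g hg
    obtain ⟨t, ⟨t, ht, rfl⟩, n, hn, rfl⟩ := exists_normalizer_map π hπ h.two h.syl hg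
    rw [mul_smul, he, he, hm n hn, hm t (le_normalizer ht)]
  have hAC : A ⊓ C = ⊥ := by
    rw [eq_bot_iff]
    rintro a ⟨ha, h1⟩
    exact mem_bot.2 (h.ffx a ha fun m => h1 m (mem_top m))
  have hgen : orb (⊤ : Subgroup (H ⧸ C)) x = ⊤ := by
    rw [eq_top_iff, ← h.gen]
    exact orb_le fun g _ => smul_mem_orb_self (g := π g) (mem_top _)
  have hsyl : ¬ 2 ∣ (T.map π).index := fun h2 => h.syl (h2.trans (index_map_dvd T hπ))
  have htop : o2 (⊤ : Subgroup (H ⧸ C)) = ⊥ := by
    have h1 := o2_top_le (x := x) (h.two.map π) hsyl (by rintro _ ⟨t, ht, rfl⟩; rw [he, h.tx ht])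
    rw [hgen] at h1
    rw [eq_bot_iff]
    exact fun g hg => mem_bot.2 (faith g fun m => h1 hg m (mem_top m))
  refine ⟨?_, faith⟩
  exact
    { sq := h.sq
      two := h.two.map π
      syl := hsyl
      nx := hnor x h.nx
      ny := hnor y h.ny
      cV := h.cV
      xV := h.xV
      uni := by
        rintro P' hP' ⟨p', hp', hpx⟩
        obtain ⟨P, hP, rfl⟩ := exists_minPar_map π hπ hP'
        obtain ⟨p, hp, rfl⟩ := hp'
        obtain ⟨h1, h2⟩ := h.uni P hP ⟨p, hp, hpx⟩
        refine ⟨?_, ?_⟩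
        · rintro _ ⟨q, hq, rfl⟩ w hw
          exact h1 q hq w hw
        · rintro _ ⟨q, hq, rfl⟩
          exact h2 q hq
      mx := by
        obtain ⟨g, hg⟩ := h.mx
        exact ⟨π g, hg⟩
      my := by
        obtain ⟨g, hg⟩ := h.my
        exact ⟨π g, hg⟩
      el := by
        rintro _ ⟨a, ha, rfl⟩
        rw [← map_mul, h.el a ha, map_one]
      AT := map_mono h.AT
      low := by
        intro R hR hne
        have h1 : R.comap π ≠ ⊤ := by
          intro h1
          apply hne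
          rw [eq_top_iff]
          intro g _
          obtain ⟨g, rfl⟩ := hπ g
          have : g ∈ R.comap π := by rw [h1]; exact mem_top g
          exact this
        have h2 := (map_mono (f := π) (h.low _ (map_le_iff_le_comap.1 hR) h1)).trans (o2_map_le π _)
        rwa [map_comap_eq_self_of_surjective hπ] at h2
      nlow := by
        intro h1
        rw [htop, le_bot_iff, Subgroup.map_eq_bot_iff] at h1
        rw [QuotientGroup.ker_mk'] at h1
        apply h.nlow
        rw [← inf_eq_left.2 h1, hAC]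
        exact bot_le
      KH := sec_KG.quo H h.KH C
      gen := hgen
      ffx := fun a _ hm => faith a hm
      exact := by
        have h1 : cv M (A.map π : Set (H ⧸ C)) = cv M (A : Set H) := by
          ext m
          constructor
          · exact fun hm a ha => hm _ ⟨a, ha, rfl⟩
          · rintro hm _ ⟨a, ha, rfl⟩
            exact hm a ha
        rw [h1, h.exact, ← relIndex_ker, QuotientGroup.ker_mk', ← inf_relIndex_right, inf_comm, hAC,
          relIndex_bot_left] }

/-! ### Stage 5: the end -/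

/-- **Stage 5** -/
theorem Pre2.sys [Finite H] [Finite M] (ml : MLK.{u, v}) (h : Pre2 T A V x y)
    (faith : ∀ g : H, (∀ m : M, g • m = m) → g = 1)
    (irr : ∀ W : Subgroup M, (∀ h : H, ∀ w ∈ W, h • w ∈ W) → W = ⊥ ∨ W = ⊤) :
    ∃ A' ≤ A, Sys T A' V x y := by
  have hle : ∀ B ≤ A, Nat.card B ≤ (cv M (B : Set H)).index := by
    intro B hB
    have h1 := no ml h.KH h.sq h.two h.syl (fun t ht => h.tx ht) h.gen (fun b hb => h.el b (hB hb)) (hB.trans h.Ax)
    have h2 : fxr H (⊤ : Subgroup M) = ⊥ := by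
      rw [eq_bot_iff]
      exact fun g hg => mem_bot.2 (faith g fun m => hg m (mem_top m))
    rwa [h2, relIndex_bot_left] at h1
  have hA1 : A ≠ ⊥ := fun h1 => h.nlow (h1 ▸ bot_le)
  have hne : ({B | B ≤ A ∧ B ≠ ⊥ ∧ (cv M (B : Set H)).index = Nat.card B} : Set (Subgroup H)).Nonempty :=
    ⟨A, le_rfl, hA1, h.exact⟩
  obtain ⟨B, ⟨hBA, hB1, hBe⟩, hmin⟩ := wellFounded_lt.has_min _ hne
  have hx1 : x ≠ 1 := by
    rintro rfl
    obtain ⟨g, hg⟩ := h.mx
    exact hg (smul_one g)
  have hy1 : y ≠ 1 := by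
    rintro rfl
    obtain ⟨g, hg⟩ := h.my
    exact hg (smul_one g)
  have hstY : MulAction.stabilizer H y ≠ ⊤ := by
    intro h1
    obtain ⟨g, hg⟩ := h.my
    exact hg (h1 ▸ mem_top g : g ∈ MulAction.stabilizer H y)
  have hxy : x ≠ y := by
    rintro rfl
    obtain ⟨P, hP, hm⟩ := h.exists_par
    obtain ⟨p, hp, hpx⟩ := hm
    exact hpx ((h.uni P hP ⟨p, hp, hpx⟩).2 p hp)
  -- `C_H(x y) ≤ C_H(x)`
  have hst : ∀ g : H, g • (x * y) = x * y → g • x = x := by
    have h1 : MulAction.stabilizer H (x * y) ≤ MulAction.stabilizer H x := by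
      refine MinSimple.MinParabolic.le_of_forall (S := T) (fun t ht => ?_) (fun n hn => h.nx n hn.2) fun P hP hPs p hp => ?_
      · rw [MulAction.mem_stabilizer_iff, smul_mul', h.tx ht, h.ty ht]
      · by_contra hpx
        have h2 := (h.uni P hP ⟨p, hp, hpx⟩).2 p hp
        have h3 : p • (x * y) = x * y := hPs hp
        rw [smul_mul', h2] at h3
        exact hpx (mul_right_cancel h3)
    exact fun g hg => h1 hg
  have htop : o2 (⊤ : Subgroup H) = ⊥ := by
    have h1 := o2_top_le (x := x) h.two h.syl (fun t ht => h.tx ht)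
    rw [h.gen] at h1
    rw [eq_bot_iff]
    exact fun g hg => mem_bot.2 (faith g fun m => h1 hg m (mem_top m))
  have hcore : ∀ t : H, t ≠ 1 → t ∉ pCore 2 H := by
    intro t ht1 ht
    have h1 : pCore 2 H ≤ o2 (⊤ : Subgroup H) :=
      le_o2 le_top (Lib.Cores.pCore_isPGroup 2) (le_normalizer_of fun g _ q hq =>
        (Lib.Cores.pCore_normal 2).conj_mem q hq g)
    rw [htop] at h1
    exact ht1 (mem_bot.1 (h1 ht))
  have h4 : 4 ≤ Nat.card B := by
    obtain ⟨b, hb⟩ := Subgroup.ne_bot_iff_exists_ne_one.1 hB1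
    have hb1 : (b : H) ≠ 1 := fun h1 => hb (Subtype.ext h1)
    have hbA : (b : H) ∈ A := hBA b.2
    have h5 := TC.TT.not_trans h.sq (x := x) (y := y) hst (o2_isPGroup (MulAction.stabilizer H x))
      (o2_isPGroup (MulAction.stabilizer H y)) (fun g hg a ha => conj_mem_of_le (le_normalizer_o2 _) hg ha)
      (fun g hg a ha => conj_mem_of_le (le_normalizer_o2 _) hg ha) (h.Ax hbA)
      (h.low _ (fun t ht => h.ty ht) hstY hbA) (h.el b hbA) (hcore b hb1)
    have h6 := index_antitone (cv_anti (V := M) (show ({(b : H)} : Set H) ⊆ (B : Set H) from by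
      rintro _ rfl; exact b.2))
    rw [hBe] at h6
    obtain ⟨n, hn⟩ := IsPGroup.iff_card.1 (h.two.to_le (hBA.trans h.AT))
    rw [hn] at h6 ⊢
    match n, h6 with
    | 0, h6 => omega
    | 1, h6 => omega
    | n + 2, _ =>
      have h7 : 1 ≤ 2 ^ n := Nat.one_le_two_pow
      rw [pow_add]
      omega
  have ht : Two T V x y :=
    { sq := h.sq
      faith := faith
      gen := h.gen
      two := h.two
      syl := h.syl
      x1 := hx1
      y1 := hy1
      xy := hxy
      nx := h.nx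
      ny := h.ny
      cV := h.cV
      xV := h.xV
      uni := h.uni }
  refine ⟨B, hBA, ?_⟩
  exact
    { ht with
      el := fun b hb => h.el b (hBA hb)
      A1 := hB1
      exact := hBe
      atom := by
        intro C hC hC1 hCB
        refine lt_of_le_of_ne (hle C (hC.trans hBA)) fun h1 => ?_
        exact hmin C ⟨hC.trans hBA, hC1, h1.symm⟩ (lt_of_le_of_ne hC hCB)
      irr := irr
      AT := hBA.trans h.AT
      four := h4
      low := fun R hR hne => hBA.trans (h.low R hR hne)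
      nmax := by
        rintro ⟨N, hN, hN2⟩
        apply hN
        rw [eq_top_iff]
        refine MinSimple.MinParabolic.le_of_forall (S := T) le_top (fun n hn => ?_) fun P hP _ => ?_
        · exact hN2 (MulAction.stabilizer H x) (fun t ht => h.tx ht) h.stab_ne (h.nx n hn.2)
        · by_cases hm : ∃ p ∈ P, p • x ≠ x
          · exact fun p hp => hN2 (MulAction.stabilizer H y) (fun t ht => h.ty ht) hstY ((h.uni P hP hm).2 p hp)
          · push Not at hm
            exact fun p hp => hN2 (MulAction.stabilizer H x) (fun t ht => h.tx ht) h.stab_ne (hm p hp)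
      KH := h.KH }

/-! ### The theorem -/

/-- **`Inp → False` if the middle is contradictory** -/
theorem false_of (ml : MLK.{u, v})
    (k : ∀ (H' : Type u) [Group H'] [Finite H'] (M' : Type v) [Group M'] [Finite M'] [MulDistribMulAction H' M']
      (T' A' : Subgroup H') (V' : Subgroup M') (x' y' : M'), ¬ Sys T' A' V' x' y')
    {H : Type u} [Group H] [Finite H] {M : Type v} [Group M] [Finite M] [MulDistribMulAction H M] {T A : Subgroup H}
    {V : Subgroup M} {x y : M} (h : Inp T A V x y) : False := by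
  obtain ⟨R, -, hpre, hat⟩ := exists_pre h
  obtain ⟨y', h2⟩ := hpre.stage2 ml hat
  let _ := subAct (orb (⊤ : Subgroup R) x) (orb_inv x)
  have _ := normal_of_sq h2.sq (U0 (orb (⊤ : Subgroup R) x) (A.subgroupOf R))
  obtain ⟨h3, irr⟩ := h2.stage3 ml
  let _ := modAct (U0 (orb (⊤ : Subgroup R) x) (A.subgroupOf R))
    (U0_inv (M := orb (⊤ : Subgroup R) x) (A := A.subgroupOf R))
  have _ : (fxr R (⊤ : Subgroup (orb (⊤ : Subgroup R) x ⧸ U0 (orb (⊤ : Subgroup R) x) (A.subgroupOf R)))).Normal :=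
    fxr_normal fun _ _ _ => mem_top _
  obtain ⟨h4, faith⟩ := h3.stage4
  let _ := quoAct (fxr R (⊤ : Subgroup (orb (⊤ : Subgroup R) x ⧸ U0 (orb (⊤ : Subgroup R) x) (A.subgroupOf R))))
    triv_fxr
  obtain ⟨A', -, h5⟩ := h4.sys ml faith fun W hW => irr W fun g w hw => hW (QuotientGroup.mk g) w hw
  exact k _ _ _ _ _ _ _ h5

/-- **`Inp → ∃ .., Sys`** -/
theorem gen (ml : MLK.{u, v}) {H : Type u} [Group H] [Finite H] {M : Type v} [Group M] [Finite M]
    [MulDistribMulAction H M] {T A : Subgroup H} {V : Subgroup M} {x y : M} (h : Inp T A V x y) :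
    ∃ (H' : Type u) (_ : Group H') (_ : Finite H') (M' : Type v) (_ : Group M') (_ : Finite M')
      (_ : MulDistribMulAction H' M') (T' A' : Subgroup H') (V' : Subgroup M') (x' y' : M'), Sys T' A' V' x' y' := by
  by_contra hc
  exact false_of ml (fun H' _ _ M' _ _ _ T' A' V' x' y' h' => hc ⟨H', _, inferInstance, M', _, inferInstance, _, T', A',
    V', x', y', h'⟩) h

end Cfsg.Agent.Omega.KL.Gen

end

section


/-!
# The end of THEOREM Z-RANK / SIGMA: the reduction to the middle (#22648 (3), #22781 (4); helper636)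

* `ZIn` : the faithful input with an atom;  `ZPre.zin` ;
* `ZMin` : a minimal `R` with `T ≤ R`, `A ≰ O₂(R)`;  `ZIn.exists_min` ;
* `dA M A` : the submodule `[M, ⟨A^H⟩]`;  `ZMin2` : `M = [M, ⟨A^H⟩]`, it is generated by the orbit of every `T`-fixed
  vector which is moved;  `ZMin.stage2` ;
* `ZMin3` : `M` irreducible;  `ZMin2.stage3`, `ZMin3.stage4` (the faithful quotient), `ZMin3.sys`;
* **`exists_sys` : `ZPre → ∃ .., ZSys`**, `false_of`.
-/

set_option autoImplicit false

namespace Cfsg.Agent.Omega.KL.ZR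

open Subgroup Cfsg Cfsg.Agent.ZN Cfsg.Agent.ClassTwoFusion.Quad Cfsg.Agent.Omega.ML.MinFrame
open Cfsg.Agent.Omega.ML.Final Cfsg.Agent.Omega.KL.Def Cfsg.Agent.Omega.KL.GenTool
open Cfsg.Agent.MinSimple.MinParabolic (IsMinPar)
open Cfsg.Agent.MinSimple.VModule (o2_isPGroup o2_le le_o2 le_normalizer_o2 o2_le_of_sylow)
open Cfsg.Agent.Omega.NOThree.NoOver (relIndex_ne)
open Cfsg.Agent.Omega.ML.CD (card_eq_relIndex_mul)
open Cfsg.Agent.Omega.KL.Gen (o2_top_le o2_inf_self cv_map normal_of_sq U0 U0_inv triv_fxr)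

universe u v

variable {H : Type u} [Group H] {M : Type v} [Group M] [MulDistribMulAction H M] {c : ℕ} {T A : Subgroup H}
  {Z : Subgroup M}

/-- the faithful input with an atom -/
structure ZIn {H : Type u} [Group H] {M : Type v} [Group M] [MulDistribMulAction H M] (c : ℕ) (T A : Subgroup H)
    (Z : Subgroup M) : Prop extends ZTwo c T Z, Atom M A where
  fix : ∀ P : Subgroup H, IsMinPar T P → ∃ m ∈ Z, (∀ p ∈ P, p • m = m) ∧ A ≤ o2 (MulAction.stabilizer H m)
  good : ∃ m ∈ Z, A ≤ o2 (MulAction.stabilizer H m)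
  nlow : ¬ A ≤ o2 (⊤ : Subgroup H)
  KH : IsKGroup H

/-- a minimal `R` with `T ≤ R`, `A ≰ O₂(R)` -/
structure ZMin {H : Type u} [Group H] {M : Type v} [Group M] [MulDistribMulAction H M] (c : ℕ) (T A : Subgroup H)
    (Z : Subgroup M) : Prop extends ZTwo c T Z where
  fix : ∀ P : Subgroup H, IsMinPar T P → ∃ m ∈ Z, (∀ p ∈ P, p • m = m) ∧ ∃ g : H, g • m ≠ m
  good : ∃ m ∈ Z, ∃ g : H, g • m ≠ m
  el : ∀ a ∈ A, a * a = 1
  AT : A ≤ T
  low : ∀ R : Subgroup H, T ≤ R → R ≠ ⊤ → A ≤ o2 R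
  nlow : ¬ A ≤ o2 (⊤ : Subgroup H)
  KH : IsKGroup H

/-- `M = [M, ⟨A^H⟩]` -/
structure ZMin2 {H : Type u} [Group H] {M : Type v} [Group M] [MulDistribMulAction H M] (c : ℕ) (T A : Subgroup H)
    (Z : Subgroup M) : Prop extends ZMin c T A Z where
  full : ∀ W : Subgroup M, (∀ g : H, ∀ m ∈ W, g • m ∈ W) → (∀ a ∈ A, ∀ m : M, a • m * m ∈ W) → W = ⊤
  gen : ∀ z : M, (∀ t ∈ T, t • z = z) → (∃ g : H, g • z ≠ z) → orb (⊤ : Subgroup H) z = ⊤
  ffx : ∀ a ∈ A, (∀ m : M, a • m = m) → a = 1
  exact : (cv M (A : Set H)).index = Nat.card A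

/-- `M` irreducible -/
structure ZMin3 {H : Type u} [Group H] {M : Type v} [Group M] [MulDistribMulAction H M] (c : ℕ) (T A : Subgroup H)
    (Z : Subgroup M) : Prop extends ZTwo c T Z where
  irr : ∀ W : Subgroup M, (∀ h : H, ∀ w ∈ W, h • w ∈ W) → W = ⊥ ∨ W = ⊤
  fix : ∀ P : Subgroup H, IsMinPar T P → ∃ m ∈ Z, m ≠ 1 ∧ ∀ p ∈ P, p • m = m
  ne : ∃ m ∈ Z, m ≠ 1
  el : ∀ a ∈ A, a * a = 1
  AT : A ≤ T
  low : ∀ R : Subgroup H, T ≤ R → R ≠ ⊤ → A ≤ o2 R
  nlow : ¬ A ≤ o2 (⊤ : Subgroup H)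
  ffx : ∀ a ∈ A, (∀ m : M, a • m = m) → a = 1
  exact : (cv M (A : Set H)).index = Nat.card A
  KH : IsKGroup H

/-! ### The submodule `[M, ⟨A^H⟩]` -/

/-- `[M, ⟨A^H⟩]` -/
def dA (M : Type v) [Group M] [MulDistribMulAction H M] (A : Subgroup H) : Subgroup M :=
  closure {w | ∃ g : H, ∃ a ∈ A, ∃ m : M, w = g • (a • m * m)}

theorem dA_inv : ∀ g : H, ∀ m ∈ dA M A, g • m ∈ dA M A := by
  intro g m hm
  have h1 : dA M A ≤ (dA M A).comap (MulDistribMulAction.toMonoidHom M g) := by
    conv_lhs => rw [dA]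
    rw [closure_le]
    rintro _ ⟨k, a, ha, m, rfl⟩
    refine subset_closure ⟨g * k, a, ha, m, ?_⟩
    exact (mul_smul _ _ _).symm
  exact h1 hm

theorem mem_dA {a : H} (ha : a ∈ A) (m : M) : a • m * m ∈ dA M A :=
  subset_closure ⟨1, a, ha, m, (one_smul _ _).symm⟩

theorem dA_le {W : Subgroup M} (hW : ∀ g : H, ∀ m ∈ W, g • m ∈ W) (h : ∀ a ∈ A, ∀ m : M, a • m * m ∈ W) :
    dA M A ≤ W := by
  rw [dA, closure_le]
  rintro _ ⟨g, a, ha, m, rfl⟩
  exact hW g _ (h a ha m)

theorem ZTwo.inv_eq (h : ZTwo c T Z) (m : M) : m⁻¹ = m := inv_eq_of_mul_eq_one_right (h.sq m)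

/-- an index bound as a relative index of a fixed space -/
theorem ZTwo.par' (h : ZTwo c T Z) {P : Subgroup H} (hP : IsMinPar T P) : (cv M (P : Set H)).relIndex Z ≤ c := by
  have h1 := h.par P hP
  rwa [inf_relIndex_left] at h1

/-! ### Stage 0: the faithful quotient and an atom -/

theorem ZPre.zin [Finite H] [Finite M] (ml : MLK.{u, v}) (h : ZPre c T A Z) :
    ∃ (H' : Type u) (_ : Group H') (_ : Finite H') (_ : MulDistribMulAction H' M) (T' A' : Subgroup H'),
      ZIn c T' A' Z := by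
  have htriv : ∀ k ∈ fxr H (⊤ : Subgroup M), ∀ m : M, k • m = m := fun k hk m => hk m (mem_top m)
  have hN : (fxr H (⊤ : Subgroup M)).Normal := fxr_normal fun _ _ _ => mem_top _
  set N := fxr H (⊤ : Subgroup M) with hNdef
  let _ : MulDistribMulAction (H ⧸ N) M := quoAct N htriv
  let π : H →* H ⧸ N := QuotientGroup.mk' N
  have hπ : Function.Surjective π := QuotientGroup.mk'_surjective N
  have he : ∀ (g : H) (v : M), π g • v = g • v := fun _ _ => rfl
  have hker : ∀ k : H, (∀ v : M, k • v = v) → π k = 1 := fun k hk =>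
    (QuotientGroup.eq_one_iff k).2 fun v _ => hk v
  have hker2 : ∀ k : H, π k = 1 → ∀ v : M, k • v = v := fun k hk v =>
    (QuotientGroup.eq_one_iff k).1 hk v (mem_top v)
  have hst : ∀ z : M, (MulAction.stabilizer H z).map π = MulAction.stabilizer (H ⧸ N) z := by
    intro z
    ext g
    constructor
    · rintro ⟨c, hc, rfl⟩
      exact hc
    · intro hg
      obtain ⟨c, rfl⟩ := hπ g
      exact ⟨c, hg, rfl⟩
  have ho2 : ∀ z : M, A ≤ o2 (MulAction.stabilizer H z) → A.map π ≤ o2 (MulAction.stabilizer (H ⧸ N) z) := by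
    intro z hz
    refine (map_mono hz).trans (le_o2 ?_ ((o2_isPGroup _).map π) ?_)
    · rw [← hst]
      exact map_mono (o2_le _)
    · rw [← hst]
      exact (map_mono (le_normalizer_o2 _)).trans (le_normalizer_map π)
  have hfaith : ∀ g : H ⧸ N, (∀ m : M, g • m = m) → g = 1 := by
    intro g hg
    obtain ⟨c, rfl⟩ := hπ g
    exact hker c hg
  have hsyl : ¬ 2 ∣ (T.map π).index := fun h2 => h.syl (h2.trans (index_map_dvd T hπ))
  have hKH : IsKGroup (H ⧸ N) := sec_KG.quo H h.KC N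
  have hTZ : ∀ t ∈ T.map π, ∀ z ∈ Z, t • z = z := by
    rintro _ ⟨t, ht, rfl⟩ z hz
    rw [he, h.TZ t ht z hz]
  have hel : ∀ a ∈ A.map π, a * a = 1 := by
    rintro _ ⟨a, ha, rfl⟩
    rw [← map_mul, h.el a ha, map_one]
  -- `O₂(H/N) = 1`
  have htop : o2 (⊤ : Subgroup (H ⧸ N)) = ⊥ := by
    rw [eq_bot_iff]
    intro g hg
    refine mem_bot.2 (hfaith g fun m => ?_)
    have h1 : (⊤ : Subgroup M) ≤ cv M ({g} : Set (H ⧸ N)) := by
      rw [← h.gen, iSup_le_iff]
      intro z
      refine orb_le fun k _ => ?_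
      have h2 := o2_top_le (x := (z : M)) (h.two.map π) hsyl (fun t ht => hTZ t ht z z.2) hg
      exact mem_cv_singleton.2 (h2 _ (smul_mem_orb_self (g := π k) (mem_top _)))
    exact mem_cv_singleton.1 (h1 (mem_top m))
  -- (NO)
  have hno : ∀ B : Subgroup (H ⧸ N), B ≤ A.map π → Nat.card B ≤ (cv M (B : Set (H ⧸ N))).index := by
    intro B hB
    obtain ⟨m, hm, hAm⟩ := h.good
    have h1 := no_orb ml hKH h.sq (h.two.map π) hsyl (fun t ht => hTZ t ht m hm) (fun b hb => hel b (hB hb))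
      (hB.trans (ho2 m hAm))
    have hfn : (fxr (H ⧸ N) (orb (⊤ : Subgroup (H ⧸ N)) m)).Normal := fxr_normal fun g u hu => smul_mem_orb (mem_top g) hu
    have h2 : fxr (H ⧸ N) (orb (⊤ : Subgroup (H ⧸ N)) m) ⊓ B = ⊥ := by
      rw [eq_bot_iff, ← htop]
      refine le_trans (le_inf (inf_le_right.trans (hB.trans (ho2 m hAm))) inf_le_left)
        (o2_inf_le (L := ⊤) le_top (fun g _ n hn => hfn.conj_mem n hn g) fun g hg => ?_)
      exact hg m (mem_orb_self _ m)
    rw [← inf_relIndex_right, h2, relIndex_bot_left] at h1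
    refine h1.trans ?_
    rw [← relIndex_top_right]
    exact relIndex_le_of_le_right le_top (relIndex_ne _ _)
  have hcv : cv M (A.map π : Set (H ⧸ N)) = cv M (A : Set H) := by
    ext v
    constructor
    · exact fun hv a ha => hv _ ⟨a, ha, rfl⟩
    · rintro hv _ ⟨a, ha, rfl⟩
      exact hv a ha
  have hcard : Nat.card (A.map π) = N.relIndex A := by
    rw [← relIndex_bot_left, ← relIndex_comap, MonoidHom.comap_bot, QuotientGroup.ker_mk']
  have hex : (cv M (A.map π : Set (H ⧸ N))).index = Nat.card (A.map π) := by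
    refine le_antisymm ?_ (hno _ le_rfl)
    rw [hcv, hcard]
    exact h.le
  have hA1 : A.map π ≠ ⊥ := by
    intro h1
    obtain ⟨a, ha, m, ham⟩ := h.mv
    apply ham
    refine hker2 a ?_ m
    rw [← mem_bot, ← h1]
    exact ⟨a, ha, rfl⟩
  obtain ⟨B, ⟨hBA, hB1, hBe⟩, hmin⟩ := wellFounded_lt.has_min
    ({B | B ≤ A.map π ∧ B ≠ ⊥ ∧ (cv M (B : Set (H ⧸ N))).index = Nat.card B} : Set (Subgroup (H ⧸ N)))
    ⟨A.map π, le_rfl, hA1, hex⟩
  refine ⟨H ⧸ N, inferInstance, inferInstance, inferInstance, T.map π, B, ?_⟩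
  exact
    { sq := h.sq
      two := h.two.map π
      syl := hsyl
      TZ := hTZ
      nZ := by
        intro g hg z hz
        obtain ⟨t, ⟨t, ht, rfl⟩, n, hn, rfl⟩ := exists_normalizer_map π hπ h.two h.syl hg
        rw [mul_smul, he, he, h.TZ t ht _ (h.nZ n hn z hz)]
        exact h.nZ n hn z hz
      par := by
        intro P' hP'
        obtain ⟨P, hP, rfl⟩ := exists_minPar_map π hπ hP'
        have h1 : cv M (P.map π : Set (H ⧸ N)) = cv M (P : Set H) := by
          ext v
          constructor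
          · exact fun hv a ha => hv _ ⟨a, ha, rfl⟩
          · rintro hv _ ⟨a, ha, rfl⟩
            exact hv a ha
        rw [h1]
        exact h.par P hP
      fix := by
        intro P' hP'
        obtain ⟨P, hP, rfl⟩ := exists_minPar_map π hπ hP'
        obtain ⟨m, hm, h1, h2⟩ := h.fix P hP
        refine ⟨m, hm, ?_, hBA.trans (ho2 m h2)⟩
        rintro _ ⟨p, hp, rfl⟩
        exact h1 p hp
      good := by
        obtain ⟨m, hm, h1⟩ := h.good
        exact ⟨m, hm, hBA.trans (ho2 m h1)⟩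
      nlow := by
        rw [htop]
        exact fun h1 => hB1 (le_bot_iff.1 h1)
      KH := hKH
      el := fun a ha => hel a (hBA ha)
      A1 := hB1
      exact := hBe
      atom := by
        intro C hC hC1 hCB
        refine lt_of_le_of_ne (hno C (hC.trans hBA)) fun h1 => ?_
        exact hmin C ⟨hC.trans hBA, hC1, h1.symm⟩ (lt_of_le_of_ne hC hCB) }

/-! ### Stage 1: a minimal `R` -/

theorem ZIn.AT [Finite H] (h : ZIn c T A Z) : A ≤ T := by
  obtain ⟨m, hm, h1⟩ := h.good
  refine h1.trans (o2_le_of_sylow h.two fun h2 => h.syl (h2.trans (relIndex_dvd_index_of_le ?_)))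
  exact fun t ht => h.TZ t ht m hm

theorem ZIn.exists_min [Finite H] (h : ZIn c T A Z) : ∃ R : Subgroup H, T ≤ R ∧
    ZMin (H := R) c (T.subgroupOf R) (A.subgroupOf R) Z ∧ Atom M (A.subgroupOf R) := by
  have hAT : A ≤ T := h.AT
  have hne : ({R | T ≤ R ∧ ¬ A ≤ o2 R} : Set (Subgroup H)).Nonempty := ⟨⊤, le_top, h.nlow⟩
  obtain ⟨R, ⟨hTR, hR⟩, hmin⟩ := wellFounded_lt.has_min _ hne
  have hAR : A ≤ R := hAT.trans hTR
  have eA : (A.subgroupOf R).map R.subtype = A := by rw [subgroupOf_map_subtype, inf_eq_left.2 hAR]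
  have hmv : ∀ {m : M}, A ≤ o2 (MulAction.stabilizer H m) → ∃ g : R, g • m ≠ m := by
    intro m hm
    by_contra hc
    push Not at hc
    have h1 : R ≤ MulAction.stabilizer H m := fun g hg => hc ⟨g, hg⟩
    exact hR ((le_inf hm hAR).trans (o2_inf_self h1))
  refine ⟨R, hTR, ?_, ?_⟩
  · refine
      { sq := h.sq
        two := h.two.comap_of_injective _ R.subtype_injective
        syl := fun h2 => h.syl (h2.trans (relIndex_dvd_index_of_le hTR))
        TZ := fun t ht z hz => h.TZ t ht z hz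
        nZ := fun g hg z hz => h.nZ (g : H) ?_ z hz
        par := ?_
        fix := ?_
        good := ?_
        el := fun a ha => Subtype.ext (h.el _ ha)
        AT := fun a ha => hAT ha
        low := ?_
        nlow := ?_
        KH := sec_KG.sub H h.KH R }
    · have h1 : (normalizer (T.subgroupOf R : Set R)).map R.subtype ≤ normalizer (T : Set H) := by
        refine le_normalizer_of ?_
        rintro _ ⟨n, hn, rfl⟩ t ht
        exact (mem_normalizer_iff.1 hn ⟨t, hTR ht⟩).1 ht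
      exact h1 ⟨g, hg, rfl⟩
    · intro P hP
      have h1 := h.par (P.map R.subtype) (minPar_map_subtype hTR hP)
      rwa [cv_map] at h1
    · intro P hP
      obtain ⟨m, hm, h1, h2⟩ := h.fix (P.map R.subtype) (minPar_map_subtype hTR hP)
      exact ⟨m, hm, fun p hp => h1 p ⟨p, hp, rfl⟩, hmv h2⟩
    · obtain ⟨m, hm, h1⟩ := h.good
      exact ⟨m, hm, hmv h1⟩
    · intro S hTS hS
      have h1 : S.map R.subtype < R := by
        refine lt_of_le_of_ne (map_subtype_le S) fun h2 => hS ?_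
        rw [eq_top_iff]
        intro r _
        have h3 : (r : H) ∈ S.map R.subtype := by rw [h2]; exact r.2
        obtain ⟨s, hs, hsr⟩ := h3
        rwa [← (Subtype.ext hsr : s = r)]
      have h2 : T ≤ S.map R.subtype := fun t ht => ⟨⟨t, hTR ht⟩, hTS ht, rfl⟩
      have h3 : A ≤ o2 (S.map R.subtype) := by
        by_contra h4
        exact hmin _ ⟨h2, h4⟩ h1
      exact le_trans (fun a ha => h3 ha) (o2_subgroupOf_le S)
    · intro h1
      apply hR
      have h2 := (map_mono (f := R.subtype) h1).trans (o2_map_le R.subtype ⊤)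
      rwa [eA, ← MonoidHom.range_eq_map, range_subtype] at h2
  · refine ⟨fun a ha => Subtype.ext (h.el _ ha), fun h1 => h.A1 ?_, ?_, fun C hC hC1 hCA => ?_⟩
    · rw [← eA, h1, Subgroup.map_bot]
    · rw [← cv_map, eA, h.exact]
      exact (Nat.card_congr (subgroupOfEquivOfLe hAR).toEquiv).symm
    · have h1 := h.atom (C.map R.subtype) (by rw [← eA]; exact map_mono hC)
        (fun h2 => hC1 ((map_eq_bot_iff_of_injective _ R.subtype_injective).1 h2))
        (fun h2 => hCA (map_subtype_inj.1 (h2.trans eA.symm)))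
      rwa [cv_map, card_map_of_injective R.subtype_injective] at h1

/-! ### Stage 2: the submodule `[M, ⟨A^H⟩]` -/

namespace ZMin

theorem le_o2 (h : ZMin c T A Z) {x : M} (hx : ∀ t ∈ T, t • x = x) (hm : ∃ g : H, g • x ≠ x) :
    A ≤ o2 (MulAction.stabilizer H x) := by
  refine h.low _ (fun t ht => hx t ht) fun h1 => ?_
  obtain ⟨g, hg⟩ := hm
  exact hg (h1 ▸ mem_top g : g ∈ MulAction.stabilizer H x)

/-- `⟨A^H⟩ T = H` -/
theorem K0T [Finite H] (h : ZMin c T A Z) : normalClosure (A : Set H) ⊔ T = ⊤ := by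
  by_contra hc
  apply h.nlow
  have h1 := h.low _ le_sup_right hc
  have h2 : A ≤ normalClosure (A : Set H) := subset_normalClosure
  refine (le_inf h1 h2).trans (o2_inf_le le_top (fun g _ n hn => ?_) le_sup_left)
  exact (normalClosure_normal (s := (A : Set H))).conj_mem n hn g

theorem fixed [Finite H] (h : ZMin c T A Z) {m : M} (h1 : ∀ t ∈ T, t • m = m)
    (h2 : ∀ k ∈ normalClosure (A : Set H), k • m = m) (g : H) : g • m = m := by
  have h3 : normalClosure (A : Set H) ⊔ T ≤ MulAction.stabilizer H m := sup_le (fun k hk => h2 k hk) fun t ht => h1 t ht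
  rw [h.K0T] at h3
  exact h3 (mem_top g)

/-- `H` fixes `T`-fixed vectors modulo `[M, ⟨A^H⟩]` -/
theorem mod_dA [Finite H] (h : ZMin c T A Z) {y : M} (hy : ∀ t ∈ T, t • y = y) (g : H) : g • y * y ∈ dA M A := by
  have hM := comm_of_sq h.sq
  have hDn : (dA M A).Normal := normal_of_sq h.sq _
  let _ := modAct (H := H) (dA M A) dA_inv
  have hmk : ∀ a b : M, (QuotientGroup.mk a : M ⧸ dA M A) = QuotientGroup.mk b ↔ a * b ∈ dA M A := by
    intro a b
    rw [QuotientGroup.eq, h.inv_eq]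
  have hS : (⊤ : Subgroup H) ≤ MulAction.stabilizer H (QuotientGroup.mk y : M ⧸ dA M A) := by
    rw [← h.K0T, sup_le_iff]
    refine ⟨?_, fun t ht => ?_⟩
    · rw [normalClosure, closure_le]
      intro k hk
      obtain ⟨a, ha, hak⟩ := Group.mem_conjugatesOfSet_iff.1 hk
      obtain ⟨c, rfl⟩ := isConj_iff.1 hak
      change (QuotientGroup.mk ((c * a * c⁻¹) • y) : M ⧸ dA M A) = QuotientGroup.mk y
      rw [hmk]
      have e : (c * a * c⁻¹) • y * y = c • (a • (c⁻¹ • y) * (c⁻¹ • y)) := by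
        rw [smul_mul', smul_inv_smul, mul_smul, mul_smul]
      rw [e]
      exact dA_inv c _ (mem_dA ha _)
    · change (QuotientGroup.mk (t • y) : M ⧸ dA M A) = QuotientGroup.mk y
      rw [hy t ht]
  exact (hmk _ _).1 (hS (mem_top g))

section fin

variable [Finite H] [Finite M]

/-- `A` is faithful and exact on `U = ⟨x^H⟩` and `M = U C_M(A)` -/
theorem counts (ml : MLK.{u, v}) (h : ZMin c T A Z) (ha : Atom M A) {x : M} (hx : ∀ t ∈ T, t • x = x)
    (hm : ∃ g : H, g • x ≠ x) :
    fxr H (orb (⊤ : Subgroup H) x) ⊓ A = ⊥ ∧ (cv M (A : Set H)).relIndex (orb (⊤ : Subgroup H) x) = Nat.card A ∧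
      orb (⊤ : Subgroup H) x ⊔ cv M (A : Set H) = ⊤ := by
  have hAx := h.le_o2 hx hm
  set U := orb (⊤ : Subgroup H) x with hU
  have hno := no_orb ml h.KH h.sq h.two h.syl hx h.el hAx
  rw [← hU] at hno
  have hfn : (fxr H U).Normal := fxr_normal (Gen.orb_inv x)
  have hstab : fxr H U ≤ MulAction.stabilizer H x := fun g hg => hg x (mem_orb_self _ x)
  have hC : fxr H U ⊓ A ≤ o2 (⊤ : Subgroup H) := by
    refine le_trans ?_ (o2_inf_le (L := ⊤) le_top (fun g _ n hn => hfn.conj_mem n hn g) hstab)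
    exact le_inf (inf_le_right.trans hAx) inf_le_left
  have hcard : Nat.card A = (fxr H U).relIndex A * Nat.card (fxr H U ⊓ A : Subgroup H) := by
    rw [card_eq_relIndex_mul (inf_le_right : fxr H U ⊓ A ≤ A), inf_relIndex_right]
  have hbot : fxr H U ⊓ A = ⊥ := by
    by_contra hne
    have hneA : fxr H U ⊓ A ≠ A := fun h1 => h.nlow (h1 ▸ hC)
    have h1 := ha.atom _ inf_le_right hne hneA
    have h2 : U ≤ cv M ((fxr H U ⊓ A : Subgroup H) : Set H) := fun m hm c hc => hc.1 m hm
    have h3 : cv M (A : Set H) ≤ cv M ((fxr H U ⊓ A : Subgroup H) : Set H) := fun m hm c hc => hm c hc.2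
    have h4 := relIndex_le_of_le_right h2 (relIndex_ne (cv M (A : Set H)) _)
    have h5 : (cv M (A : Set H)).relIndex (cv M ((fxr H U ⊓ A : Subgroup H) : Set H)) *
        (cv M ((fxr H U ⊓ A : Subgroup H) : Set H)).index = (cv M (A : Set H)).index := relIndex_mul_index h3
    rw [ha.exact, hcard] at h5
    have h6 : 0 < (fxr H U).relIndex A := Nat.pos_of_ne_zero (relIndex_ne _ _)
    have h7 : (fxr H U).relIndex A ≤ (cv M (A : Set H)).relIndex (cv M ((fxr H U ⊓ A : Subgroup H) : Set H)) :=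
      hno.trans h4
    nlinarith
  rw [hbot, card_bot, mul_one] at hcard
  have h1 : (cv M (A : Set H)).relIndex U ≤ (cv M (A : Set H)).index := by
    rw [← relIndex_top_right]
    exact relIndex_le_of_le_right le_top (relIndex_ne _ _)
  rw [ha.exact] at h1
  rw [← hcard] at hno
  have h2 : (cv M (A : Set H)).relIndex U = Nat.card A := le_antisymm h1 hno
  refine ⟨hbot, h2, ?_⟩
  have hn : (cv M (A : Set H)).Normal := normal_of_sq h.sq _
  have h3 : (cv M (A : Set H)).relIndex (U ⊔ cv M (A : Set H)) = (cv M (A : Set H)).relIndex U := relIndex_sup_right _ _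
  have h4 := relIndex_mul_index (le_sup_right : cv M (A : Set H) ≤ U ⊔ cv M (A : Set H))
  rw [h3, h2, ha.exact] at h4
  have h5 : 0 < Nat.card A := Nat.card_pos
  exact index_eq_one.1 (Nat.eq_of_mul_eq_mul_left h5 (by rw [h4, mul_one]))

theorem dA_le_orb (ml : MLK.{u, v}) (h : ZMin c T A Z) (ha : Atom M A) {x : M} (hx : ∀ t ∈ T, t • x = x)
    (hm : ∃ g : H, g • x ≠ x) : dA M A ≤ orb (⊤ : Subgroup H) x := by
  obtain ⟨-, -, htop⟩ := h.counts ml ha hx hm
  have hM := comm_of_sq h.sq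
  have _ := normal_of_sq h.sq (orb (⊤ : Subgroup H) x)
  refine dA_le (Gen.orb_inv x) fun a haA m => ?_
  obtain ⟨u, hu, w, hw, rfl⟩ := (mem_sup_of_normal_left (s := orb (⊤ : Subgroup H) x) (t := cv M (A : Set H))).1
    (by rw [htop]; exact mem_top m)
  have e : a • (u * w) * (u * w) = a • u * u := by
    rw [smul_mul', hw a haA]
    calc a • u * w * (u * w) = a • u * (w * u) * w := by group
      _ = a • u * u * (w * w) := by rw [hM w u]; group
      _ = a • u * u := by rw [h.sq, mul_one]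
  rw [e]
  exact (orb (⊤ : Subgroup H) x).mul_mem (Gen.orb_inv x a u hu) hu

/-- a moved `T`-fixed vector in `[M, ⟨A^H⟩]` with the same stabiliser -/
theorem exists_mem (h : ZMin c T A Z) {y : M} (hy : ∀ t ∈ T, t • y = y) :
    ∃ z : M, (∀ g : H, g • z = z) ∧ y * z ∈ dA M A :=
  exists_fixed_mod h.sq h.syl hy fun g => h.mod_dA hy g

end fin

/-- the new `Z` -/
def Z₁ (Z : Subgroup M) (A : Subgroup H) : Subgroup (dA M A) :=
  (Z ⊔ cv M ((⊤ : Subgroup H) : Set H)).subgroupOf (dA M A)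

/-- **Stage 2** -/
theorem stage2 [Finite H] [Finite M] (ml : MLK.{u, v}) (h : ZMin c T A Z) (ha : Atom M A) :
    letI := subAct (dA M A) (dA_inv (M := M) (A := A))
    ZMin2 c T A (Z₁ Z A) := by
  set D := dA M A with hD
  let _ := subAct D (dA_inv (M := M) (A := A))
  have hM := comm_of_sq h.sq
  have hsm : ∀ (g : H) (u : D), ((g • u : D) : M) = g • (u : M) := fun _ _ => rfl
  set F₀ := cv M ((⊤ : Subgroup H) : Set H) with hF₀
  have hTZ : Z ⊔ F₀ ≤ cv M (T : Set H) :=
    sup_le (fun z hz t ht => h.TZ t ht z hz) fun z hz t _ => hz t (mem_top t)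
  have hex : ∀ m ∈ Z, (∃ g : H, g • m ≠ m) → ∃ z : D, z ∈ Z₁ Z A ∧ (∃ g : H, g • z ≠ z) ∧
      ∀ g : H, g • m = m → g • z = z := by
    rintro m hm ⟨g, hg⟩
    obtain ⟨z, hz, hmz⟩ := h.exists_mem (fun t ht => h.TZ t ht m hm)
    refine ⟨⟨m * z, hmz⟩, ?_, ⟨g, fun h1 => hg ?_⟩, fun k hk => Subtype.ext ?_⟩
    · exact mul_mem (mem_sup_left hm) (mem_sup_right fun k _ => hz k)
    · have h2 : g • (m * z) = m * z := congrArg Subtype.val h1
      rw [smul_mul', hz] at h2
      exact mul_right_cancel h2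
    · rw [hsm, smul_mul', hz, hk]
  have hcv : ∀ S : Set H, cv D S = (cv M S).subgroupOf D := by
    intro S
    ext u
    rw [mem_subgroupOf]
    exact ⟨fun h1 a ha => congrArg Subtype.val (h1 a ha), fun h1 a ha => Subtype.ext (h1 a ha)⟩
  have hgen : ∀ z : D, (∀ t ∈ T, t • z = z) → (∃ g : H, g • z ≠ z) → orb (⊤ : Subgroup H) z = ⊤ := by
    rintro z hz ⟨g, hg⟩
    have h1 := h.dA_le_orb ml ha (x := (z : M)) (fun t ht => congrArg Subtype.val (hz t ht))
      ⟨g, fun h2 => hg (Subtype.ext h2)⟩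
    have h2 : orb (⊤ : Subgroup H) (z : M) ≤ (orb (⊤ : Subgroup H) z).map D.subtype :=
      orb_le fun g _ => ⟨g • z, smul_mem_orb_self (mem_top g), rfl⟩
    rw [eq_top_iff]
    intro u _
    obtain ⟨u', hu', huu'⟩ := (h1.trans h2) u.2
    rwa [← (Subtype.ext huu' : u' = u)]
  obtain ⟨m₀, hm₀, hm₀'⟩ := h.good
  obtain ⟨x, hxZ, ⟨gx, hgx⟩, -⟩ := hex m₀ hm₀ hm₀'
  have hxT : ∀ t ∈ T, t • (x : M) = x := fun t ht => hTZ hxZ t ht
  have hxm : ∃ g : H, g • (x : M) ≠ x := ⟨gx, fun h1 => hgx (Subtype.ext h1)⟩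
  obtain ⟨hbot, hidx, htop⟩ := h.counts ml ha hxT hxm
  have hxD : orb (⊤ : Subgroup H) (x : M) = D :=
    le_antisymm (orb_le fun g _ => dA_inv g _ x.2) (h.dA_le_orb ml ha hxT hxm)
  rw [hxD] at hbot hidx htop
  exact
    { sq := fun m => Subtype.ext (h.sq m)
      two := h.two
      syl := h.syl
      TZ := fun t ht z hz => Subtype.ext (hTZ hz t ht)
      nZ := by
        intro g hg z hz
        have h1 : Z ⊔ F₀ ≤ (Z ⊔ F₀).comap (MulDistribMulAction.toMonoidHom M g) := by
          refine sup_le (fun w hw => mem_sup_left (h.nZ g hg w hw)) fun w hw => mem_sup_right ?_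
          change g • w ∈ F₀
          rw [hw g (mem_top g)]
          exact hw
        exact h1 hz
      par := by
        intro P hP
        rw [inf_relIndex_left, hcv]
        have e : Z₁ Z A = ((Z ⊔ F₀) ⊓ D).subgroupOf D := by rw [inf_subgroupOf_right]; rfl
        rw [e, relIndex_subgroupOf inf_le_right]
        have hn : (cv M (P : Set H)).Normal := normal_of_sq h.sq _
        calc (cv M (P : Set H)).relIndex ((Z ⊔ F₀) ⊓ D) ≤ (cv M (P : Set H)).relIndex (Z ⊔ cv M (P : Set H)) := by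
              refine relIndex_le_of_le_right (inf_le_left.trans (sup_le_sup_left ?_ _)) (relIndex_ne _ _)
              exact fun w hw p _ => hw p (mem_top p)
          _ = (cv M (P : Set H)).relIndex Z := relIndex_sup_right _ _
          _ ≤ c := h.par' hP
      fix := by
        intro P hP
        obtain ⟨m, hm, h1, h2⟩ := h.fix P hP
        obtain ⟨z, hz, h3, h4⟩ := hex m hm h2
        exact ⟨z, hz, fun p hp => h4 p (h1 p hp), h3⟩
      good := ⟨x, hxZ, gx, hgx⟩
      el := h.el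
      AT := h.AT
      low := h.low
      nlow := h.nlow
      KH := h.KH
      full := by
        intro W hW h1
        have h2 : D ≤ W.map D.subtype := by
          refine dA_le ?_ fun a haA m => ?_
          · rintro g _ ⟨w, hw, rfl⟩
            exact ⟨g • w, hW g w hw, rfl⟩
          · have _ := normal_of_sq h.sq D
            obtain ⟨u, hu, w, hw, rfl⟩ := (mem_sup_of_normal_left (s := D) (t := cv M (A : Set H))).1
              (by rw [htop]; exact mem_top m)
            have e : a • (u * w) * (u * w) = a • u * u := by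
              rw [smul_mul', hw a haA]
              calc a • u * w * (u * w) = a • u * (w * u) * w := by group
                _ = a • u * u * (w * w) := by rw [hM w u]; group
                _ = a • u * u := by rw [h.sq, mul_one]
            rw [e]
            exact ⟨a • ⟨u, hu⟩ * ⟨u, hu⟩, h1 a haA ⟨u, hu⟩, rfl⟩
        rw [eq_top_iff]
        intro u _
        obtain ⟨u', hu', huu'⟩ := h2 u.2
        rwa [← (Subtype.ext huu' : u' = u)]
      gen := hgen
      ffx := by
        intro a haA hm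
        have h1 : a ∈ fxr H D ⊓ A := ⟨fun m hm' => congrArg Subtype.val (hm ⟨m, hm'⟩), haA⟩
        rw [hbot] at h1
        exact mem_bot.1 h1
      exact := by
        rw [hcv]
        exact hidx }

end ZMin

/-! ### Stage 3: the irreducible quotient -/

namespace ZMin2

/-- a moved `T`-fixed vector is moved modulo every proper submodule -/
theorem moved (h : ZMin2 c T A Z) {z : M} (hz : ∀ t ∈ T, t • z = z) (hm : ∃ g : H, g • z ≠ z) {W : Subgroup M}
    (hW : ∀ g : H, ∀ m ∈ W, g • m ∈ W) (hne : W ≠ ⊤) : ∃ g : H, g • z * z ∉ W := by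
  by_contra hc
  push Not at hc
  have hM := comm_of_sq h.sq
  let S : Subgroup M :=
    { carrier := {m | ∀ g : H, g • m * m ∈ W}
      one_mem' := fun g => by rw [smul_one, mul_one]; exact W.one_mem
      mul_mem' := by
        intro a b ha hb g
        have e : g • (a * b) * (a * b) = (g • a * a) * (g • b * b) := by
          rw [smul_mul']
          calc g • a * g • b * (a * b) = g • a * (g • b * a) * b := by group
            _ = g • a * a * (g • b * b) := by rw [hM (g • b) a]; group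
        rw [e]
        exact W.mul_mem (ha g) (hb g)
      inv_mem' := by
        intro a ha g
        rw [h.inv_eq a]
        exact ha g }
  have h1 : orb (⊤ : Subgroup H) z ≤ S := by
    refine orb_le fun g _ k => ?_
    have e : k • g • z * g • z = ((k * g) • z * z) * (g • z * z) := by
      rw [mul_smul]
      calc k • g • z * g • z = k • g • z * (z * z) * g • z := by rw [h.sq, mul_one]
        _ = k • g • z * z * (z * g • z) := by group
        _ = k • g • z * z * (g • z * z) := by rw [hM z (g • z)]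
    rw [e]
    exact W.mul_mem (hc _) (hc _)
  rw [h.gen z hz hm] at h1
  exact hne (h.full W hW fun a _ m => h1 (mem_top m) a)

theorem o2_top [Finite H] (h : ZMin2 c T A Z) : A ⊓ o2 (⊤ : Subgroup H) = ⊥ := by
  obtain ⟨z, hz, hm⟩ := h.good
  rw [eq_bot_iff]
  rintro a ⟨ha, hao⟩
  have h1 := o2_top_le h.two h.syl (fun t ht => h.TZ t ht z hz) hao
  rw [h.gen z (fun t ht => h.TZ t ht z hz) hm] at h1
  exact mem_bot.2 (h.ffx a ha fun m => h1 m (mem_top m))

section count

variable [Finite H] [Finite M]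

/-- **Every proper submodule is centralised by `A`; `A` is faithful and exact modulo it** -/
theorem mod (ml : MLK.{u, v}) (h : ZMin2 c T A Z) {W : Subgroup M} [W.Normal] (hW : ∀ g : H, ∀ m ∈ W, g • m ∈ W)
    (hne : W ≠ ⊤) :
    letI := modAct W hW
    (∀ a ∈ A, (∀ m : M ⧸ W, a • m = m) → a = 1) ∧ (cv (M ⧸ W) (A : Set H)).index = Nat.card A ∧
      W ≤ cv M (A : Set H) := by
  let _ := modAct W hW
  obtain ⟨x, hxZ, hxm⟩ := h.good
  have hxT : ∀ t ∈ T, t • x = x := fun t ht => h.TZ t ht x hxZ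
  have hsm : ∀ (g : H) (m : M), g • (QuotientGroup.mk m : M ⧸ W) = QuotientGroup.mk (g • m) := fun _ _ => rfl
  have hmk : ∀ a b : M, (QuotientGroup.mk a : M ⧸ W) = QuotientGroup.mk b ↔ a * b ∈ W := by
    intro a b
    rw [QuotientGroup.eq, h.inv_eq]
  have hTs : T ≤ MulAction.stabilizer H (QuotientGroup.mk x : M ⧸ W) := fun t ht => by
    rw [MulAction.mem_stabilizer_iff, hsm, hxT t ht]
  have hR : MulAction.stabilizer H (QuotientGroup.mk x : M ⧸ W) ≠ ⊤ := by
    intro h1
    obtain ⟨g, hg⟩ := h.moved hxT hxm hW hne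
    have h2 : g ∈ MulAction.stabilizer H (QuotientGroup.mk x : M ⧸ W) := by rw [h1]; exact mem_top g
    rw [MulAction.mem_stabilizer_iff, hsm, hmk] at h2
    exact hg h2
  have hA := h.low _ hTs hR
  have htop : orb (⊤ : Subgroup H) (QuotientGroup.mk x : M ⧸ W) = ⊤ := by
    have h1 : orb (⊤ : Subgroup H) x ≤
        (orb (⊤ : Subgroup H) (QuotientGroup.mk x : M ⧸ W)).comap (QuotientGroup.mk' W) :=
      orb_le fun g _ => smul_mem_orb_self (mem_top g)
    rw [h.gen x hxT hxm] at h1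
    rw [eq_top_iff]
    intro m _
    obtain ⟨m, rfl⟩ := QuotientGroup.mk_surjective m
    exact h1 (mem_top m)
  have hsq : ∀ m : M ⧸ W, m * m = 1 := by
    intro m
    obtain ⟨m, rfl⟩ := QuotientGroup.mk_surjective m
    rw [← QuotientGroup.mk_mul, h.sq]
    rfl
  have hno := no ml h.KH hsq h.two h.syl (fun t ht => hTs ht) htop h.el hA
  have hfn : (fxr H (⊤ : Subgroup (M ⧸ W))).Normal := fxr_normal fun _ _ _ => mem_top _
  have hker : ∀ a ∈ A, (∀ m : M ⧸ W, a • m = m) → a = 1 := by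
    intro a ha hm
    have h1 : a ∈ A ⊓ o2 (⊤ : Subgroup H) := by
      refine ⟨ha, o2_inf_le (L := ⊤) (N := fxr H (⊤ : Subgroup (M ⧸ W))) le_top
        (fun g _ n hn => hfn.conj_mem n hn g) (fun g hg => hg _ (mem_top _)) ⟨hA ha, fun m _ => hm m⟩⟩
    rw [h.o2_top] at h1
    exact mem_bot.1 h1
  have hbot : fxr H (⊤ : Subgroup (M ⧸ W)) ⊓ A = ⊥ := by
    rw [eq_bot_iff]
    rintro a ⟨h1, ha⟩
    exact mem_bot.2 (hker a ha fun m => h1 m (mem_top m))
  rw [← inf_relIndex_right, hbot, relIndex_bot_left] at hno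
  have h1 : cv M (A : Set H) ⊔ W ≤ (cv (M ⧸ W) (A : Set H)).comap (QuotientGroup.mk' W) := by
    rw [sup_le_iff]
    constructor
    · intro m hm a ha
      change a • (QuotientGroup.mk m : M ⧸ W) = QuotientGroup.mk m
      rw [hsm, hm a ha]
    · intro m hm a ha
      change a • (QuotientGroup.mk m : M ⧸ W) = QuotientGroup.mk m
      rw [hsm, hmk]
      exact W.mul_mem (hW a m hm) hm
  have h2 := index_antitone h1
  rw [index_comap_of_surjective _ (QuotientGroup.mk'_surjective W)] at h2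
  have h3 := index_antitone (le_sup_left : cv M (A : Set H) ≤ cv M (A : Set H) ⊔ W)
  have h4 := relIndex_mul_index (le_sup_left : cv M (A : Set H) ≤ cv M (A : Set H) ⊔ W)
  rw [h.exact] at h3 h4
  refine ⟨hker, by omega, ?_⟩
  have h5 : (cv M (A : Set H) ⊔ W).index = Nat.card A := by omega
  rw [h5] at h4
  have h6 : (cv M (A : Set H)).relIndex (cv M (A : Set H) ⊔ W) = 1 :=
    Nat.eq_of_mul_eq_mul_right Nat.card_pos (by rw [h4, one_mul])
  exact le_sup_right.trans (relIndex_eq_one.1 h6)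

theorem le_U0 (ml : MLK.{u, v}) (h : ZMin2 c T A Z) {W : Subgroup M} (hW : ∀ g : H, ∀ m ∈ W, g • m ∈ W)
    (hne : W ≠ ⊤) : W ≤ U0 M A := by
  have _ := normal_of_sq h.sq W
  obtain ⟨-, -, h1⟩ := h.mod ml hW hne
  have h2 : (fxr H W).Normal := fxr_normal hW
  have h3 : normalClosure (A : Set H) ≤ fxr H W := normalClosure_le_normal fun a ha m hm => h1 hm a ha
  exact fun m hm k hk => h3 hk m hm

omit [Finite M] [Finite H] in
theorem U0_ne (h : ZMin2 c T A Z) : U0 M A ≠ ⊤ := by
  intro h1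
  apply h.nlow
  have h2 : A ≤ ⊥ := by
    intro a ha
    refine mem_bot.2 (h.ffx a ha fun m => ?_)
    have h3 : m ∈ U0 M A := by rw [h1]; exact mem_top m
    exact h3 a (subset_normalClosure ha)
  exact h2.trans bot_le

/-- **Stage 3** -/
theorem stage3 (ml : MLK.{u, v}) (h : ZMin2 c T A Z) [(U0 M A).Normal] :
    letI := modAct (U0 M A) (U0_inv (M := M) (A := A))
    ZMin3 c T A (Z.map (QuotientGroup.mk' (U0 M A))) := by
  obtain ⟨hker, hex, -⟩ := h.mod ml (U0_inv (M := M) (A := A)) h.U0_ne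
  let _ := modAct (U0 M A) (U0_inv (M := M) (A := A))
  have hsm : ∀ (g : H) (m : M), g • (QuotientGroup.mk m : M ⧸ U0 M A) = QuotientGroup.mk (g • m) := fun _ _ => rfl
  have hmk1 : ∀ a : M, (QuotientGroup.mk a : M ⧸ U0 M A) = 1 ↔ a ∈ U0 M A := fun a => QuotientGroup.eq_one_iff a
  have irr : ∀ W : Subgroup (M ⧸ U0 M A), (∀ h : H, ∀ w ∈ W, h • w ∈ W) → W = ⊥ ∨ W = ⊤ := by
    intro W hW
    by_cases h1 : W = ⊤
    · exact Or.inr h1
    left
    have h2 : W.comap (QuotientGroup.mk' (U0 M A)) ≠ ⊤ := by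
      intro h2
      apply h1
      rw [eq_top_iff]
      intro w _
      obtain ⟨m, rfl⟩ := QuotientGroup.mk_surjective w
      have : m ∈ W.comap (QuotientGroup.mk' (U0 M A)) := by rw [h2]; exact mem_top m
      exact this
    have h3 := h.le_U0 ml (W := W.comap (QuotientGroup.mk' (U0 M A))) (fun g m hm => hW g _ hm) h2
    rw [eq_bot_iff]
    intro w hw
    obtain ⟨m, rfl⟩ := QuotientGroup.mk_surjective w
    exact mem_bot.2 ((hmk1 m).2 (h3 hw))
  have hne : ∀ m ∈ Z, (∃ g : H, g • m ≠ m) → (QuotientGroup.mk m : M ⧸ U0 M A) ≠ 1 := by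
    rintro m hm ⟨g, hg⟩ h1
    rw [hmk1] at h1
    exact hg (h.toZMin.fixed (fun t ht => h.TZ t ht m hm) (fun k hk => h1 k hk) g)
  exact
    { sq := by
        intro m
        obtain ⟨m, rfl⟩ := QuotientGroup.mk_surjective m
        rw [← QuotientGroup.mk_mul, h.sq]
        rfl
      two := h.two
      syl := h.syl
      TZ := by
        rintro t ht _ ⟨z, hz, rfl⟩
        change t • (QuotientGroup.mk z : M ⧸ U0 M A) = QuotientGroup.mk z
        rw [hsm, h.TZ t ht z hz]
      nZ := by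
        rintro g hg _ ⟨z, hz, rfl⟩
        exact ⟨g • z, h.nZ g hg z hz, rfl⟩
      par := by
        intro P hP
        rw [inf_relIndex_left, ← relIndex_comap]
        refine le_trans (relIndex_le_of_le_left ?_ (relIndex_ne _ _)) (h.par' hP)
        intro m hm p hp
        change p • (QuotientGroup.mk m : M ⧸ U0 M A) = QuotientGroup.mk m
        rw [hsm, hm p hp]
      irr := irr
      fix := by
        intro P hP
        obtain ⟨m, hm, h1, h2⟩ := h.fix P hP
        refine ⟨QuotientGroup.mk m, mem_map_of_mem _ hm, hne m hm h2, fun p hp => ?_⟩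
        rw [hsm, h1 p hp]
      ne := by
        obtain ⟨m, hm, h1⟩ := h.good
        exact ⟨QuotientGroup.mk m, mem_map_of_mem _ hm, hne m hm h1⟩
      el := h.el
      AT := h.AT
      low := h.low
      nlow := h.nlow
      ffx := hker
      exact := hex
      KH := h.KH }

end count

end ZMin2

/-! ### Stage 4: the faithful quotient -/

/-- **Stage 4** -/
theorem ZMin3.stage4 [Finite H] [Finite M] (h : ZMin3 c T A Z) [(fxr H (⊤ : Subgroup M)).Normal] :
    letI := quoAct (fxr H (⊤ : Subgroup M)) (triv_fxr (H := H) (M := M))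
    ZMin3 c (T.map (QuotientGroup.mk' (fxr H (⊤ : Subgroup M)))) (A.map (QuotientGroup.mk' (fxr H (⊤ : Subgroup M)))) Z
      ∧ ∀ g : H ⧸ fxr H (⊤ : Subgroup M), (∀ m : M, g • m = m) → g = 1 := by
  let _ := quoAct (fxr H (⊤ : Subgroup M)) (triv_fxr (H := H) (M := M))
  set C := fxr H (⊤ : Subgroup M) with hC
  let π : H →* H ⧸ C := QuotientGroup.mk' C
  have hπ : Function.Surjective π := QuotientGroup.mk'_surjective C
  have he : ∀ (g : H) (m : M), π g • m = g • m := fun _ _ => rfl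
  have faith : ∀ g : H ⧸ C, (∀ m : M, g • m = m) → g = 1 := by
    intro g hg
    obtain ⟨g, rfl⟩ := hπ g
    exact (QuotientGroup.eq_one_iff g).2 fun m _ => hg m
  have hcvm : ∀ B : Subgroup H, cv M (B.map π : Set (H ⧸ C)) = cv M (B : Set H) := by
    intro B
    ext m
    constructor
    · exact fun hm a ha => hm _ ⟨a, ha, rfl⟩
    · rintro hm _ ⟨a, ha, rfl⟩
      exact hm a ha
  have hAC : A ⊓ C = ⊥ := by
    rw [eq_bot_iff]
    rintro a ⟨ha, h1⟩
    exact mem_bot.2 (h.ffx a ha fun m => h1 m (mem_top m))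
  have hsyl : ¬ 2 ∣ (T.map π).index := fun h2 => h.syl (h2.trans (index_map_dvd T hπ))
  have hTZ : ∀ t ∈ T.map π, ∀ z ∈ Z, t • z = z := by
    rintro _ ⟨t, ht, rfl⟩ z hz
    rw [he, h.TZ t ht z hz]
  have irr : ∀ W : Subgroup M, (∀ g : H ⧸ C, ∀ w ∈ W, g • w ∈ W) → W = ⊥ ∨ W = ⊤ :=
    fun W hW => h.irr W fun g w hw => hW (π g) w hw
  have htop : o2 (⊤ : Subgroup (H ⧸ C)) = ⊥ := by
    obtain ⟨x, hx, hx1⟩ := h.ne
    have h1 := o2_top_le (x := x) (h.two.map π) hsyl (fun t ht => hTZ t ht x hx)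
    have h2 : orb (⊤ : Subgroup (H ⧸ C)) x = ⊤ := by
      rcases irr _ (Gen.orb_inv x) with h2 | h2
      · exact absurd (mem_bot.1 (h2 ▸ mem_orb_self (⊤ : Subgroup (H ⧸ C)) x)) hx1
      · exact h2
    rw [h2] at h1
    rw [eq_bot_iff]
    exact fun g hg => mem_bot.2 (faith g fun m => h1 hg m (mem_top m))
  refine ⟨?_, faith⟩
  exact
    { sq := h.sq
      two := h.two.map π
      syl := hsyl
      TZ := hTZ
      nZ := by
        intro g hg z hz
        obtain ⟨t, ⟨t, ht, rfl⟩, n, hn, rfl⟩ := exists_normalizer_map π hπ h.two h.syl hg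
        rw [mul_smul, he, he, h.TZ t ht _ (h.nZ n hn z hz)]
        exact h.nZ n hn z hz
      par := by
        intro P' hP'
        obtain ⟨P, hP, rfl⟩ := exists_minPar_map π hπ hP'
        rw [hcvm]
        exact h.par P hP
      irr := irr
      fix := by
        intro P' hP'
        obtain ⟨P, hP, rfl⟩ := exists_minPar_map π hπ hP'
        obtain ⟨m, hm, hm1, h1⟩ := h.fix P hP
        refine ⟨m, hm, hm1, ?_⟩
        rintro _ ⟨p, hp, rfl⟩
        exact h1 p hp
      ne := h.ne
      el := by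
        rintro _ ⟨a, ha, rfl⟩
        rw [← map_mul, h.el a ha, map_one]
      AT := map_mono h.AT
      low := by
        intro R hR hne
        have h1 : R.comap π ≠ ⊤ := by
          intro h1
          apply hne
          rw [eq_top_iff]
          intro g _
          obtain ⟨g, rfl⟩ := hπ g
          have : g ∈ R.comap π := by rw [h1]; exact mem_top g
          exact this
        have h2 := (map_mono (f := π) (h.low _ (map_le_iff_le_comap.1 hR) h1)).trans (o2_map_le π _)
        rwa [map_comap_eq_self_of_surjective hπ] at h2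
      nlow := by
        intro h1
        rw [htop, le_bot_iff, Subgroup.map_eq_bot_iff] at h1
        rw [QuotientGroup.ker_mk'] at h1
        apply h.nlow
        rw [← inf_eq_left.2 h1, hAC]
        exact bot_le
      KH := sec_KG.quo H h.KH C
      ffx := fun a _ hm => faith a hm
      exact := by
        rw [hcvm, h.exact, ← relIndex_ker, QuotientGroup.ker_mk', ← inf_relIndex_right, inf_comm, hAC,
          relIndex_bot_left] }

/-! ### Stage 5: the end -/

/-- a transvection in `O₂(C_X(x)) ∩ O₂(C_X(y)) ∩ O₂(C_X(x y))` lies in `O₂(X)` -/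
theorem mem_pCore [Finite H] (sq : ∀ m : M, m * m = 1) {x y : M} {t : H}
    (hx : t ∈ o2 (MulAction.stabilizer H x)) (hy : t ∈ o2 (MulAction.stabilizer H y))
    (hxy : t ∈ o2 (MulAction.stabilizer H (x * y))) (htt : t * t = 1) {b : M}
    (htb : ∀ m : M, t • m = m ∨ t • m = m * b) : t ∈ Cfsg.pCore 2 H := by
  have hcomm := comm_of_sq sq
  refine Involutions.BaerSuzuki.mem_pCore_of_conj_pairs t fun g => ?_
  have hcc : g * t * g⁻¹ * (g * t * g⁻¹) = 1 := by
    have : g * t * g⁻¹ * (g * t * g⁻¹) = g * (t * t) * g⁻¹ := by group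
    rw [this, htt, mul_one, mul_inv_cancel]
  have hcen : ∀ m : M, (g * t * g⁻¹) • m = m ∨ (g * t * g⁻¹) • m = m * (g • b) := by
    intro m
    rw [mul_smul, mul_smul]
    rcases htb (g⁻¹ • m) with h | h
    · left; rw [h, smul_inv_smul]
    · right; rw [h, smul_mul', smul_inv_smul]
  have hfix : ∀ c : M, t ∈ o2 (MulAction.stabilizer H c) → (g * t * g⁻¹) • c = c →
      IsPGroup 2 (Subgroup.closure {t, g * t * g⁻¹} : Subgroup H) := by
    intro c htC hc
    exact IId.BSTrick.pair_isPGroup (o2_isPGroup (MulAction.stabilizer H c)) htC (le_normalizer_o2 _ hc) hcc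
  rcases hcen x with h1 | h1
  · exact hfix x hx h1
  rcases hcen y with h2 | h2
  · exact hfix y hy h2
  refine hfix (x * y) hxy ?_
  rw [smul_mul', h1, h2]
  calc x * g • b * (y * g • b) = x * (g • b * y) * g • b := by group
    _ = x * (y * g • b) * g • b := by rw [hcomm (g • b) y]
    _ = x * y * (g • b * g • b) := by group
    _ = x * y := by rw [sq, mul_one]

/-- **Stage 5** -/
theorem ZMin3.sys [Finite H] [Finite M] (ml : MLK.{u, v}) (h : ZMin3 c T A Z)
    (faith : ∀ g : H, (∀ m : M, g • m = m) → g = 1) : ∃ A' ≤ A, ZSys c T A' Z := by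
  have hA1 : A ≠ ⊥ := fun h1 => h.nlow (h1 ▸ bot_le)
  -- `T`-fixed vectors `≠ 1` are moved
  have hmv : ∀ m : M, m ≠ 1 → ∃ g : H, g • m ≠ m := by
    intro m hm
    by_contra hc
    push Not at hc
    rcases h.irr (zpowers m) (by
      rintro g _ ⟨n, rfl⟩
      change g • m ^ n ∈ _
      rw [smul_zpow', hc g]
      exact ⟨n, rfl⟩) with h1 | h1
    · exact hm (zpowers_eq_bot.1 h1)
    · obtain ⟨a, ha⟩ := Subgroup.ne_bot_iff_exists_ne_one.1 hA1
      refine ha (Subtype.ext (h.ffx a a.2 fun w => ?_))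
      obtain ⟨n, rfl⟩ : w ∈ zpowers m := by rw [h1]; exact mem_top w
      change (a : H) • m ^ n = m ^ n
      rw [smul_zpow', hc]
  have hst : ∀ m : M, m ≠ 1 → MulAction.stabilizer H m ≠ ⊤ := by
    intro m hm h1
    obtain ⟨g, hg⟩ := hmv m hm
    exact hg (h1 ▸ mem_top g : g ∈ MulAction.stabilizer H m)
  have hAo : ∀ m ∈ Z, m ≠ 1 → A ≤ o2 (MulAction.stabilizer H m) :=
    fun m hm hm1 => h.low _ (fun t ht => h.TZ t ht m hm) (hst m hm1)
  have hgen : ∀ m : M, m ≠ 1 → orb (⊤ : Subgroup H) m = ⊤ := by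
    intro m hm
    rcases h.irr _ (Gen.orb_inv m) with h2 | h2
    · exact absurd (mem_bot.1 (h2 ▸ mem_orb_self (⊤ : Subgroup H) m)) hm
    · exact h2
  obtain ⟨x₀, hx₀, hx₀1⟩ := h.ne
  have hfxr : fxr H (⊤ : Subgroup M) = ⊥ := by
    rw [eq_bot_iff]
    exact fun g hg => mem_bot.2 (faith g fun m => hg m (mem_top m))
  have htop : o2 (⊤ : Subgroup H) = ⊥ := by
    have h1 := o2_top_le (x := x₀) h.two h.syl (fun t ht => h.TZ t ht x₀ hx₀)
    rwa [hgen x₀ hx₀1, hfxr, le_bot_iff] at h1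
  have hle : ∀ B ≤ A, Nat.card B ≤ (cv M (B : Set H)).index := by
    intro B hB
    have h1 := no ml h.KH h.sq h.two h.syl (fun t ht => h.TZ t ht x₀ hx₀) (hgen x₀ hx₀1) (fun b hb => h.el b (hB hb))
      (hB.trans (hAo x₀ hx₀ hx₀1))
    rwa [hfxr, relIndex_bot_left] at h1
  obtain ⟨B, ⟨hBA, hB1, hBe⟩, hmin⟩ := wellFounded_lt.has_min
    ({B | B ≤ A ∧ B ≠ ⊥ ∧ (cv M (B : Set H)).index = Nat.card B} : Set (Subgroup H)) ⟨A, le_rfl, hA1, h.exact⟩
  -- `T ≠ 1`, `T` is not normal
  have hTn : ¬ (⊤ : Subgroup H) ≤ normalizer (T : Set H) := by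
    intro h1
    apply hA1
    rw [eq_bot_iff, ← htop]
    exact h.AT.trans (le_o2 le_top h.two h1)
  -- some minimal parabolic moves `Z`
  obtain ⟨P, hP, z, hz, p, hp, hpz⟩ : ∃ P : Subgroup H, IsMinPar T P ∧ ∃ z ∈ Z, ∃ p ∈ P, p • z ≠ z := by
    by_contra hc
    push Not at hc
    let St : Subgroup H :=
      { carrier := {g | ∀ z ∈ Z, g • z ∈ Z}
        one_mem' := fun z hz => by rwa [one_smul]
        mul_mem' := fun {a b} ha hb z hz => by rw [mul_smul]; exact ha _ (hb z hz)
        inv_mem' := by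
          intro a ha z hz
          have hinj : Function.Injective (fun m : Z => (⟨a • (m : M), ha m m.2⟩ : Z)) := fun m m' hmm =>
            Subtype.ext (smul_left_cancel a (congrArg Subtype.val hmm))
          obtain ⟨⟨w, hw⟩, hwz⟩ := (Finite.injective_iff_surjective.1 hinj) ⟨z, hz⟩
          replace hwz : a • w = z := congrArg Subtype.val hwz
          have h2 : a⁻¹ • z = w := by
            rw [← hwz]
            exact inv_smul_smul a w
          rw [h2]
          exact hw }
    have h1 : (⊤ : Subgroup H) ≤ St := by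
      refine MinSimple.MinParabolic.le_of_forall (S := T) le_top (fun n hn => h.nZ n hn.2) fun P hP _ p hp z hz => ?_
      rw [hc P hP z hz p hp]
      exact hz
    rcases h.irr Z fun g w hw => h1 (mem_top g) w hw with h2 | h2
    · exact hx₀1 (mem_bot.1 (h2 ▸ hx₀))
    · obtain ⟨a, ha⟩ := Subgroup.ne_bot_iff_exists_ne_one.1 hA1
      exact ha (Subtype.ext (h.ffx a a.2 fun w => h.TZ a (h.AT a.2) w (h2 ▸ mem_top w)))
  obtain ⟨y, hy, hy1, hPy⟩ := h.fix P hP
  have hz1 : z ≠ 1 := by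
    rintro rfl
    exact hpz (smul_one p)
  have hzy : z ≠ y := by
    rintro rfl
    exact hpz (hPy p hp)
  have hzy1 : z * y ≠ 1 := by
    intro h1
    apply hzy
    rw [mul_eq_one_iff_eq_inv] at h1
    rw [h1]
    exact inv_eq_of_mul_eq_one_right (h.sq y)
  have hZ4 : 4 ≤ Nat.card Z := by
    have hZ2 : IsPGroup 2 Z := fun m => ⟨1, by rw [pow_one, pow_two]; exact Subtype.ext (h.sq m)⟩
    obtain ⟨n, hn⟩ := IsPGroup.iff_card.1 hZ2
    have h3 : ({1, z, y} : Set M) ⊆ (Z : Set M) := by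
      rintro m (rfl | rfl | rfl)
      · exact Z.one_mem
      · exact hz
      · exact hy
    have h4 : ({1, z, y} : Set M).ncard = 3 := by
      rw [Set.ncard_eq_three]
      exact ⟨1, z, y, hz1.symm, hy1.symm, hzy, rfl⟩
    have h5 := Set.ncard_le_ncard h3 (Set.toFinite _)
    rw [h4, ← Nat.card_coe_set_eq] at h5
    change 3 ≤ Nat.card Z at h5
    rw [hn] at h5 ⊢
    match n, h5 with
    | 0, h5 => omega
    | 1, h5 => omega
    | n + 2, _ =>
      have h7 : 1 ≤ 2 ^ n := Nat.one_le_two_pow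
      rw [pow_add]
      omega
  have h4 : 4 ≤ Nat.card B := by
    obtain ⟨b, hb⟩ := Subgroup.ne_bot_iff_exists_ne_one.1 hB1
    have hb1 : (b : H) ≠ 1 := fun h1 => hb (Subtype.ext h1)
    have hbA : (b : H) ∈ A := hBA b.2
    have h5 : 2 < (cv M ({(b : H)} : Set H)).index := by
      by_contra hc
      obtain ⟨w, hw⟩ := TC.TT.exists_centre h.sq (not_lt.1 hc) Subgroup.index_ne_zero_of_finite
      have h1 := mem_pCore h.sq (hAo z hz hz1 hbA) (hAo y hy hy1 hbA)
        (hAo (z * y) (Z.mul_mem hz hy) hzy1 hbA) (h.el b hbA) hw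
      have h2 : pCore 2 H ≤ o2 (⊤ : Subgroup H) :=
        le_o2 le_top (Lib.Cores.pCore_isPGroup 2) (le_normalizer_of fun g _ q hq =>
          (Lib.Cores.pCore_normal 2).conj_mem q hq g)
      rw [htop] at h2
      exact hb1 (mem_bot.1 (h2 h1))
    have h6 := index_antitone (cv_anti (V := M) (show ({(b : H)} : Set H) ⊆ (B : Set H) from by
      rintro _ rfl; exact b.2))
    rw [hBe] at h6
    obtain ⟨n, hn⟩ := IsPGroup.iff_card.1 (h.two.to_le (hBA.trans h.AT))
    rw [hn] at h6 ⊢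
    match n, h6 with
    | 0, h6 => omega
    | 1, h6 => omega
    | n + 2, _ =>
      have h7 : 1 ≤ 2 ^ n := Nat.one_le_two_pow
      rw [pow_add]
      omega
  refine ⟨B, hBA, ?_⟩
  exact
    { h.toZTwo with
      el := fun b hb => h.el b (hBA hb)
      A1 := hB1
      exact := hBe
      atom := by
        intro C hC hC1 hCB
        refine lt_of_le_of_ne (hle C (hC.trans hBA)) fun h1 => ?_
        exact hmin C ⟨hC.trans hBA, hC1, h1.symm⟩ (lt_of_le_of_ne hC hCB)
      faith := faith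
      irr := h.irr
      Z4 := hZ4
      fix := h.fix
      AT := hBA.trans h.AT
      four := h4
      low := fun R hR hne => hBA.trans (h.low R hR hne)
      nmax := by
        rintro ⟨N, hN, hN2⟩
        obtain ⟨m, -, hm1, hm⟩ := h.fix (⊤ : Subgroup H) ⟨le_top, hTn, N, lt_top_iff_ne_top.2 hN,
          fun K hK hKt => hN2 K hK hKt.ne⟩
        obtain ⟨g, hg⟩ := hmv m hm1
        exact hg (hm g (mem_top g))
      KH := h.KH }

/-! ### The theorem -/

/-- **`ZPre → False` if the middle is contradictory** -/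
theorem false_of (ml : MLK.{u, v})
    (k : ∀ (H' : Type u) [Group H'] [Finite H'] (M' : Type v) [Group M'] [Finite M'] [MulDistribMulAction H' M']
      (T' A' : Subgroup H') (Z' : Subgroup M'), ¬ ZSys c T' A' Z')
    {H : Type u} [Group H] [Finite H] {M : Type v} [Group M] [Finite M] [MulDistribMulAction H M] {T A : Subgroup H}
    {Z : Subgroup M} (h : ZPre c T A Z) : False := by
  obtain ⟨H, _, _, _, T, A, h0⟩ := h.zin ml
  obtain ⟨R, -, hmin, hat⟩ := h0.exists_min
  have h2 := hmin.stage2 ml hat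
  let _ := subAct (dA M (A.subgroupOf R)) (dA_inv (M := M) (A := A.subgroupOf R))
  have _ := normal_of_sq h2.sq (U0 (dA M (A.subgroupOf R)) (A.subgroupOf R))
  have h3 := h2.stage3 ml
  let _ := modAct (U0 (dA M (A.subgroupOf R)) (A.subgroupOf R))
    (U0_inv (M := dA M (A.subgroupOf R)) (A := A.subgroupOf R))
  have _ : (fxr R (⊤ : Subgroup (dA M (A.subgroupOf R) ⧸ U0 (dA M (A.subgroupOf R)) (A.subgroupOf R)))).Normal :=
    fxr_normal fun _ _ _ => mem_top _
  obtain ⟨h4, faith⟩ := h3.stage4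
  let _ := quoAct (fxr R (⊤ : Subgroup (dA M (A.subgroupOf R) ⧸ U0 (dA M (A.subgroupOf R)) (A.subgroupOf R))))
    triv_fxr
  obtain ⟨A', -, h5⟩ := h4.sys ml faith
  exact k _ _ _ _ _ h5

/-- **`ZPre → ∃ .., ZSys`** -/
theorem exists_sys (ml : MLK.{u, v}) {H : Type u} [Group H] [Finite H] {M : Type v} [Group M] [Finite M]
    [MulDistribMulAction H M] {T A : Subgroup H} {Z : Subgroup M} (h : ZPre c T A Z) :
    ∃ (H' : Type u) (_ : Group H') (_ : Finite H') (M' : Type v) (_ : Group M') (_ : Finite M')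
      (_ : MulDistribMulAction H' M') (T' A' : Subgroup H') (Z' : Subgroup M'), ZSys c T' A' Z' := by
  by_contra hc
  exact false_of ml (fun H' _ _ M' _ _ _ T' A' Z' h' => hc ⟨H', _, inferInstance, M', _, inferInstance, _, T', A',
    Z', h'⟩) h

end Cfsg.Agent.Omega.KL.ZR

end
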