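import Cfsg.Agent.Mrg.Omega.NOThreeL.JQ


/-!
# (NO) for flags, frame-free (helper863; #22781 (1), for helper391 / helper692 #24722 (2a))

`T` a Sylow 2-subgroup of `H` (a K-group) which centralises `Z`, `⟨Z^H⟩` elementary abelian, `D = C_H(Z)`:
* `o2_cent` : `O₂(H)` centralises `⟨Z^H⟩`;
* `flag_inf` : `O₂(D) ∩ C(⟨Z^H⟩) ≤ O₂(H)`;
* **`flag_no`** : an elementary abelian `B ≤ O₂(D)` is no over-offender on `⟨Z^H⟩`.
-/

set_option autoImplicit false

namespace Cfsg.Agent.Omega.KL.FlagNO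

open Subgroup Cfsg Cfsg.Agent.ZN Cfsg.Agent.ZN.ChoiceBase Cfsg.Agent.Omega.MinPar
open Cfsg.Agent.Omega.NOThreeL.ZCut (XZ XZ_le mem_XZ conj_mem_XZ le_normalizer_XZ)
open Cfsg.Agent.Omega.NOThreeL.Sigma (NOv NOv.mul inf_cent_le rne)
open Cfsg.Agent.Omega.NoFF.Basic (V V_le Z_le_V mem_conj comm_symm comm_mono)
open Cfsg.Agent.Omega.NoFF.ThmJFam (Ex)
open Cfsg.Agent.Omega.ML.Final (MLK GDat kgroup_of_surj)
open Cfsg.Agent.MinSimple.VModule (le_normalizer_o2 o2_isPGroup o2_le le_o2 o2_le_of_sylow)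
open scoped Pointwise

universe u

variable {G : Type u} [Group G]

/-! ### `⟨Z^H⟩` -/

theorem conj_mem_V {Z H : Subgroup G} {h z : G} (hh : h ∈ H) (hz : z ∈ Z) : h * z * h⁻¹ ∈ V Z H := by
  refine Z_le_V hh ?_
  rw [mem_conj]
  have e : h⁻¹ * (h * z * h⁻¹) * h = z := by group
  rwa [e]

theorem le_V' (Z H : Subgroup G) : Z ≤ V Z H := fun z hz => by
  have := conj_mem_V (one_mem H) hz
  simpa using this

theorem V_le_elem {Z H K : Subgroup G} (h : ∀ g ∈ H, ∀ z ∈ Z, g * z * g⁻¹ ∈ K) : V Z H ≤ K := by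
  refine V_le fun p hp x hx => ?_
  rw [mem_conj] at hx
  have h1 := h p hp _ hx
  have e : p * (p⁻¹ * x * p) * p⁻¹ = x := by group
  rwa [e] at h1

theorem V_le_of_norm {Z H K : Subgroup G} (hZ : Z ≤ K) (hH : H ≤ normalizer (K : Set G)) : V Z H ≤ K :=
  V_le_elem fun _ hg z hz => (mem_normalizer_iff.1 (hH hg) z).1 (hZ hz)

theorem V_mono_right {Z H H' : Subgroup G} (h : H ≤ H') : V Z H ≤ V Z H' :=
  V_le_elem fun _ hg _ hz => conj_mem_V (h hg) hz

theorem XZ_le_V {Z H : Subgroup G} {z : G} (hz : z ∈ Z) : XZ z H ≤ V Z H :=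
  XZ_le fun _ hp => conj_mem_V hp hz

theorem le_normalizer_V' (Z H : Subgroup G) : H ≤ normalizer (V Z H : Set G) := by
  have key : ∀ r ∈ H, cj r (V Z H) ≤ V Z H := by
    intro r hr
    rw [cj, map_le_iff_le_comap]
    refine V_le_elem fun s hs z hz => ?_
    have h1 := conj_mem_V (mul_mem hr hs) hz
    have e : (r * s) * z * (r * s)⁻¹ = r * (s * z * s⁻¹) * r⁻¹ := by group
    rw [e] at h1
    exact h1
  intro r hr
  rw [mem_normalizer_iff_cj]
  refine le_antisymm (key r hr) ?_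
  have h1 := cj_mono r (key r⁻¹ (inv_mem hr))
  rwa [cj_cj_inv] at h1

/-! ### (NO) -/

variable [Finite G] {H T Z B : Subgroup G}

theorem kgroup_le {Y R : Subgroup G} (hY : IsKGroup Y) (h : R ≤ Y) : IsKGroup R :=
  kgroup_of_surj hY (R.subgroupOf Y) (subgroupOfEquivOfLe h).toMonoidHom (subgroupOfEquivOfLe h).surjective

/-- `O₂(H)` centralises `⟨Z^H⟩` -/
theorem o2_cent (two : IsPGroup 2 T) (syl : ¬ 2 ∣ T.relIndex H) (TZ : T ≤ centralizer (Z : Set G)) :
    o2 H ≤ centralizer (V Z H : Set G) := by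
  have h1 : o2 H ≤ T := o2_le_of_sylow two syl
  refine comm_symm (V_le_elem fun r hr z hz => ?_)
  rw [mem_centralizer_iff]
  intro x hx
  have h2 : r⁻¹ * x * r ∈ o2 H := by
    have := (mem_normalizer_iff.1 (inv_mem (le_normalizer_o2 H hr)) x).1 hx
    rwa [inv_inv] at this
  have h3 : z * (r⁻¹ * x * r) = (r⁻¹ * x * r) * z := mem_centralizer_iff.1 (TZ (h1 h2)) z hz
  calc x * (r * z * r⁻¹) = r * ((r⁻¹ * x * r) * z) * r⁻¹ := by group
    _ = r * (z * (r⁻¹ * x * r)) * r⁻¹ := by rw [h3]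
    _ = r * z * r⁻¹ * x := by group

/-- `O₂(C_H(Z)) ∩ C(⟨Z^R⟩) ≤ O₂(R)` for `C_H(Z) ≤ R ≤ H` -/
theorem flag_inf' {R : Subgroup G} (hD : H ⊓ centralizer (Z : Set G) ≤ R) (hR : R ≤ H)
    (hB : B ≤ o2 (H ⊓ centralizer (Z : Set G))) : B ⊓ centralizer (V Z R : Set G) ≤ o2 R := by
  set O := o2 (H ⊓ centralizer (Z : Set G)) with hO
  set K := R ⊓ centralizer (V Z R : Set G) with hK
  have hKD : K ≤ H ⊓ centralizer (Z : Set G) :=
    le_inf (inf_le_left.trans hR) (inf_le_right.trans (centralizer_le (le_V' Z R)))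
  have hKn : R ≤ normalizer (K : Set G) := by
    intro g hg
    rw [mem_normalizer_iff_cj, hK, cj_inf, cj_centralizer, cj_eq_of_mem_normalizer (le_normalizer hg),
      cj_eq_of_mem_normalizer (le_normalizer_V' Z R hg)]
  have h1 : O ⊓ centralizer (V Z R : Set G) ≤ o2 K := by
    refine le_o2 (le_inf (inf_le_left.trans ((o2_le _).trans hD)) inf_le_right)
      ((o2_isPGroup _).to_le inf_le_left) ?_
    intro g hg
    rw [mem_normalizer_iff_cj, cj_inf, cj_eq_of_mem_normalizer (le_normalizer_o2 _ (hKD hg)), cj_centralizer,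
      cj_eq_of_mem_normalizer (le_normalizer_V' Z R (hg.1))]
  refine ((inf_le_inf_right _ hB).trans h1).trans (le_o2 ((o2_le _).trans inf_le_left) (o2_isPGroup _) ?_)
  intro g hg
  exact Cfsg.Agent.Omega.normalizer_le_normalizer_o2' _ (hKn hg)

/-- `O₂(C_H(Z)) ∩ C(⟨Z^H⟩) ≤ O₂(H)` -/
theorem flag_inf (hB : B ≤ o2 (H ⊓ centralizer (Z : Set G))) : B ⊓ centralizer (V Z H : Set G) ≤ o2 H :=
  flag_inf' inf_le_left le_rfl hB

/-- **(NO)** at `z ∈ Z` -/
theorem no_z (ml : MLK.{u, u}) (two : IsPGroup 2 T) (TH : T ≤ H) (syl : ¬ 2 ∣ T.relIndex H)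
    (TZ : T ≤ centralizer (Z : Set G)) (KH : IsKGroup H) (ex : Ex (V Z H)) {z : G} (hz : z ∈ Z)
    (hB : B ≤ o2 (H ⊓ centralizer ({z} : Set G))) (el : Ex B) : NOv B (XZ z H) := by
  have hUz : XZ z H ≤ V Z H := XZ_le_V hz
  have hcom : ∀ q ∈ H ⊓ centralizer ({z} : Set G), q * z * q⁻¹ * z⁻¹ = 1 := by
    intro q hq
    have h1 : z * q = q * z := mem_centralizer_iff.1 hq.2 z rfl
    rw [← h1]; group
  have hTz : T ≤ centralizer ({z} : Set G) := TZ.trans (centralizer_le (Set.singleton_subset_iff.2 hz))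
  unfold NOv
  rw [← inf_relIndex_right (centralizer (XZ z H : Set G)), ← inf_relIndex_right (centralizer (B : Set G))]
  refine ml.grp (C := H) (W := XZ z H) (Y := ⊥) (T := T)
    (Q := o2 (H ⊓ centralizer ({z} : Set G))) (A := B) (w := z) KH
    { nW := le_normalizer_XZ z H
      nY := by rw [normalizer_eq_top]; exact le_top
      YW := bot_le
      WY := by rw [normalizer_eq_top]; exact le_top
      sq := fun x hx => ?_
      mem := mem_XZ
      gen := fun U h1 _ h3 => XZ_le fun p hp => (mem_normalizer_iff.1 (h3 hp) z).1 h1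
      TC := TH
      two := two
      odd := syl
      fixT := fun t ht => ?_
      QC := (o2_le _).trans inf_le_left
      Q2 := o2_isPGroup _
      fixQ := fun q hq => ?_
      nrmQ := fun g hg h1 q hq => ?_
      AQ := hB
      Asq := fun a ha x _ => ?_ } ?_ ?_
  · rw [mem_bot, ← pow_two]
    exact ex x (hUz hx)
  · rw [mem_bot]
    exact hcom t ⟨TH ht, hTz ht⟩
  · rw [mem_bot]
    exact hcom q (o2_le _ hq)
  · rw [mem_bot] at h1
    have h2 : g ∈ H ⊓ centralizer ({z} : Set G) := by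
      refine mem_inf.2 ⟨hg, ?_⟩
      rw [mem_centralizer_iff]
      rintro _ rfl
      have h3 := mul_inv_eq_one.1 h1
      have h4 := mul_inv_eq_iff_eq_mul.1 h3
      exact h4.symm
    exact (mem_normalizer_iff.1 (le_normalizer_o2 _ h2) q).1 hq
  · rw [mem_bot]
    have h1 : a * a = 1 := by rw [← pow_two]; exact el a ha
    calc a * (a * x * a⁻¹) * a⁻¹ * x⁻¹ = (a * a) * x * (a * a)⁻¹ * x⁻¹ := by group
      _ = 1 := by rw [h1]; group
  · intro a
    rw [mem_inf, mem_centralizer_iff]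
    constructor
    · rintro ⟨h1, h2⟩
      refine ⟨h2, fun x hx => ?_⟩
      rw [mem_bot, mul_inv_eq_one, mul_inv_eq_iff_eq_mul]
      exact (h1 x hx).symm
    · rintro ⟨h1, h2⟩
      refine ⟨fun x hx => ?_, h1⟩
      have h3 := h2 x hx
      rw [mem_bot, mul_inv_eq_one, mul_inv_eq_iff_eq_mul] at h3
      exact h3.symm
  · intro x
    rw [mem_inf, mem_centralizer_iff]
    constructor
    · rintro ⟨h1, h2⟩
      refine ⟨h2, fun a ha => ?_⟩
      rw [mem_bot, mul_inv_eq_one, mul_inv_eq_iff_eq_mul]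
      exact h1 a ha
    · rintro ⟨h1, h2⟩
      refine ⟨fun a ha => ?_, h1⟩
      have h3 := h2 a ha
      rw [mem_bot, mul_inv_eq_one, mul_inv_eq_iff_eq_mul] at h3
      exact h3

/-- **(NO) for flags** -/
theorem flag_no (ml : MLK.{u, u}) (two : IsPGroup 2 T) (TH : T ≤ H) (syl : ¬ 2 ∣ T.relIndex H)
    (TZ : T ≤ centralizer (Z : Set G)) (KH : IsKGroup H) (ex : Ex (V Z H))
    (hB : B ≤ o2 (H ⊓ centralizer (Z : Set G))) (el : Ex B) :
    (centralizer (V Z H : Set G)).relIndex B ≤ (centralizer (B : Set G)).relIndex (V Z H) := by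
  suffices key : ∀ n : ℕ, ∀ R : Subgroup G, Nat.card R = n → H ⊓ centralizer (Z : Set G) ≤ R → R ≤ H →
      NOv B (V Z R) from key _ H rfl inf_le_left le_rfl
  intro n
  induction n using Nat.strong_induction_on with
  | _ n ih =>
    rintro R rfl hD hR
    by_cases hall : ∀ z ∈ Z, R ≤ centralizer ({z} : Set G)
    · have h1 : R ≤ normalizer (Z : Set G) := by
        refine le_trans ?_ (centralizer_le_normalizer _)
        intro g hg
        rw [mem_centralizer_iff]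
        exact fun z hz => mem_centralizer_iff.1 (hall z hz hg) z rfl
      have h2 : B ≤ centralizer (V Z R : Set G) :=
        ((hB.trans (o2_le _)).trans inf_le_right).trans (centralizer_le (V_le_of_norm le_rfl h1))
      unfold NOv
      rw [relIndex_eq_one.2 h2]
      exact Nat.one_le_iff_ne_zero.2 (rne _ _)
    push Not at hall
    obtain ⟨z, hz, hzR⟩ := hall
    have hTR : T ≤ R := (le_inf TH TZ).trans hD
    have hsR : ¬ 2 ∣ T.relIndex R := fun h1 => by
      apply syl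
      rw [← relIndex_mul_relIndex T R H hTR hR]
      exact h1.mul_right _
    have hexR : Ex (V Z R) := fun x hx => ex x (V_mono_right hR hx)
    set R₁ := R ⊓ centralizer ({z} : Set G) with hR₁
    have hD₁ : H ⊓ centralizer (Z : Set G) ≤ R₁ :=
      le_inf hD (inf_le_right.trans (centralizer_le (Set.singleton_subset_iff.2 hz)))
    have hlt : Nat.card R₁ < Nat.card R := by
      refine lt_of_le_of_ne (Subgroup.card_le_of_le inf_le_left) fun he => hzR ?_
      have h1 : R₁ = R := Subgroup.eq_of_le_of_card_ge inf_le_left he.ge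
      rw [← h1]
      exact inf_le_right
    have ih₁ := ih _ hlt R₁ rfl hD₁ (inf_le_left.trans hR)
    have hA₁o : B ⊓ centralizer (V Z R₁ : Set G) ≤ o2 R₁ := flag_inf' hD₁ (inf_le_left.trans hR) hB
    have hz' : NOv (B ⊓ centralizer (V Z R₁ : Set G)) (XZ z R) :=
      no_z ml two hTR hsR TZ (kgroup_le KH hR) hexR hz hA₁o (el.mono inf_le_left)
    exact NOv.mul (V_mono_right inf_le_left) (XZ_le_V hz)
      (((inf_le_inf_right _ hA₁o).trans inf_cent_le).trans (o2_cent two hsR TZ)) ih₁ hz'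

/-- `O₂(X) ∩ X' ≤ O₂(X')` for `X' ≤ X` -/
theorem o2_inf_sub {X X' : Subgroup G} (h : X' ≤ X) : o2 X ⊓ X' ≤ o2 X' := by
  refine le_o2 inf_le_right ((o2_isPGroup _).to_le inf_le_left) ?_
  intro g hg
  rw [mem_normalizer_iff_cj, cj_inf, cj_eq_of_mem_normalizer (le_normalizer_o2 _ (h hg)),
    cj_eq_of_mem_normalizer (le_normalizer hg)]

/-- **(NO) for flags**, the form with `C_H(Z) ≤ X`, `B ≤ O₂(X)` -/
theorem flag_no_of (ml : MLK.{u, u}) (two : IsPGroup 2 T) (TH : T ≤ H) (syl : ¬ 2 ∣ T.relIndex H)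
    (TZ : T ≤ centralizer (Z : Set G)) (KH : IsKGroup H) (ex : Ex (V Z H)) {X : Subgroup G}
    (hX : H ⊓ centralizer (Z : Set G) ≤ X) (hB : B ≤ o2 X) (hBH : B ≤ H) (hBZ : B ≤ centralizer (Z : Set G))
    (el : Ex B) :
    (centralizer (V Z H : Set G)).relIndex B ≤ (centralizer (B : Set G)).relIndex (V Z H) ∧
      B ⊓ centralizer (V Z H : Set G) ≤ o2 H := by
  have h1 : B ≤ o2 (H ⊓ centralizer (Z : Set G)) := (le_inf hB (le_inf hBH hBZ)).trans (o2_inf_sub hX)
  exact ⟨flag_no ml two TH syl TZ KH ex h1 el, flag_inf h1⟩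

end Cfsg.Agent.Omega.KL.FlagNO
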