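import Cfsg.Agent.Mrg.Omega.KL.Gen
import Cfsg.Agent.Mrg.Omega.KL.Def
import Cfsg.Agent.Mrg.Omega.KL.Mor
import Cfsg.Agent.MinSimple.MinParabolic
import Cfsg.Agent.StdEven.Syl

section


/-!
# THEOREM KL for `M = ⟨x^H⟩⟨y^H⟩` (helper561)

The reduction of THEOREM KL (`KL/Gen.lean`, helper909) does not use `M = ⟨x^H⟩` after the first step: in a minimal `R`
with `T ≤ R`, `A ≰ O₂(R)`, the vector `y` is replaced by `y y₀ ∈ [M, ⟨A^R⟩] ≤ ⟨x^R⟩`.

* `noSys_of` : `NoInp → no Sys`;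
* `InpT` : `Def.Inp` with `gen : ⟨x^H⟩⟨y^H⟩ = M`; `InpT.exists_pre`, `InpT.false`;
* `no_two` : **(NO) on `M = ⟨x^H⟩⟨y^H⟩`** for `B ≤ O₂(C_H(x)) ∩ O₂(C_H(y))` elementary abelian;
* `PreT` : `Quo.Pre` with `gen : ⟨x^C⟩⟨y^C⟩ = M`; `PreT.inp`, **`PreT.false`**.
-/

set_option autoImplicit false

namespace Cfsg.Agent.Omega.KL.QuoT

open Subgroup Cfsg Cfsg.Agent.ZN Cfsg.Agent.ClassTwoFusion.Quad Cfsg.Agent.Omega.ML.MinFrame
open Cfsg.Agent.Omega.ML.Final Cfsg.Agent.Omega.KL.Def Cfsg.Agent.Omega.KL.GenTool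
open Cfsg.Agent.MinSimple.MinParabolic (IsMinPar)
open Cfsg.Agent.MinSimple.VModule (o2_isPGroup o2_le le_o2 le_normalizer_o2 o2_le_of_sylow)
open Cfsg.Agent.Omega.NOThree.NoOver (relIndex_ne)
open Cfsg.Agent.Omega.ML.CD (card_eq_relIndex_mul)
open Cfsg.Agent.Omega.KL.Gen (Pre o2_top_le o2_inf_self cv_map orb_inv U0 U0_inv normal_of_sq)
open Cfsg.Agent.Omega.KL.Quo (NoInp exists_minPar norm_lift)

universe u v

/-- a vector of `M` fixed by `H`, `M` irreducible of order `≥ 4` -/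
theorem stab_ne_top {H : Type u} [Group H] {M : Type v} [Group M] [MulDistribMulAction H M] {V : Subgroup M} {x : M}
    (sq : ∀ m : M, m * m = 1) (cV : Nat.card V = 4)
    (irr : ∀ W : Subgroup M, (∀ h : H, ∀ w ∈ W, h • w ∈ W) → W = ⊥ ∨ W = ⊤) (x1 : x ≠ 1) :
    MulAction.stabilizer H x ≠ ⊤ := by
  intro h1
  have hfix : ∀ g : H, g • x = x := fun g => (h1 ▸ mem_top g : g ∈ MulAction.stabilizer H x)
  rcases irr (zpowers x) (fun g w hw => by
    obtain ⟨n, rfl⟩ := hw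
    change g • x ^ n ∈ _
    rw [smul_zpow', hfix]
    exact ⟨n, rfl⟩) with h2 | h2
  · exact x1 (zpowers_eq_bot.1 h2)
  · have h3 : V ≤ zpowers x := by rw [h2]; exact le_top
    have h4 : Nat.card (zpowers x) ≤ 2 := by
      rw [Nat.card_zpowers]
      exact orderOf_le_of_pow_eq_one (by norm_num) (by rw [pow_two]; exact sq x)
    have hfin : Finite (zpowers x) := by
      have h5 : ((zpowers x : Subgroup M) : Set M).Finite := by
        rw [finite_zpowers, isOfFinOrder_iff_pow_eq_one]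
        exact ⟨2, by norm_num, by rw [pow_two]; exact sq x⟩
      exact h5.to_subtype
    have h5 : Nat.card V ≤ Nat.card (zpowers x) := Nat.card_le_card_of_injective _ (inclusion_injective h3)
    omega

/-- `NoInp` excludes the middle -/
theorem noSys_of (hKL : NoInp.{u, v}) (H : Type u) [Group H] [Finite H] (M : Type v) [Group M] [Finite M]
    [MulDistribMulAction H M] (T A : Subgroup H) (V : Subgroup M) (x y : M) : ¬ Sys T A V x y := by
  intro h
  refine hKL H M T A V x y { h with Ax := ?_, Ay := ?_ }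
  · exact h.low _ (fun _ ht => h.tx ht) (stab_ne_top h.sq h.cV h.irr h.x1)
  · exact h.low _ (fun _ ht => h.ty ht) (stab_ne_top h.sq h.cV h.irr h.y1)

/-- `Def.Inp` with `M = ⟨x^H⟩⟨y^H⟩` -/
structure InpT {H : Type u} [Group H] {M : Type v} [Group M] [MulDistribMulAction H M] (T A : Subgroup H)
    (V : Subgroup M) (x y : M) : Prop extends Atom M A where
  sq : ∀ m : M, m * m = 1
  faith : ∀ h : H, (∀ m : M, h • m = m) → h = 1
  gen : orb (⊤ : Subgroup H) x ⊔ orb (⊤ : Subgroup H) y = ⊤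
  two : IsPGroup 2 T
  syl : ¬ 2 ∣ T.index
  nx : ∀ g ∈ normalizer (T : Set H), g • x = x
  ny : ∀ g ∈ normalizer (T : Set H), g • y = y
  cV : Nat.card V = 4
  xV : x ∈ V
  uni : ∀ P : Subgroup H, IsMinPar T P → (∃ p ∈ P, p • x ≠ x) →
    (∀ p ∈ P, ∀ w ∈ V, p • w ∈ V) ∧ ∀ p ∈ P, p • y = y
  Ax : A ≤ o2 (MulAction.stabilizer H x)
  Ay : A ≤ o2 (MulAction.stabilizer H y)
  KH : IsKGroup H

section

variable {H : Type u} [Group H] {M : Type v} [Group M] [MulDistribMulAction H M] {T A : Subgroup H}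
  {V : Subgroup M} {x y : M}

theorem InpT.tx (h : InpT T A V x y) {t : H} (ht : t ∈ T) : t • x = x := h.nx t (le_normalizer ht)

theorem InpT.ty (h : InpT T A V x y) {t : H} (ht : t ∈ T) : t • y = y := h.ny t (le_normalizer ht)

/-- an element which fixes the conjugates of `x` and of `y` is trivial -/
theorem fxr_inf_bot [Finite H] (faith : ∀ h : H, (∀ m : M, h • m = m) → h = 1)
    (gen : orb (⊤ : Subgroup H) x ⊔ orb (⊤ : Subgroup H) y = ⊤) {g : H} (h1 : g ∈ fxr H (orb (⊤ : Subgroup H) x))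
    (h2 : g ∈ fxr H (orb (⊤ : Subgroup H) y)) : g = 1 := by
  refine faith g fun m => ?_
  have h3 : orb (⊤ : Subgroup H) x ⊔ orb (⊤ : Subgroup H) y ≤ cv M ({g} : Set H) := by
    refine sup_le (fun m hm => ?_) fun m hm => ?_
    · exact mem_cv_singleton.2 (h1 m hm)
    · exact mem_cv_singleton.2 (h2 m hm)
  rw [gen] at h3
  exact mem_cv_singleton.1 (h3 (mem_top m))

/-- **(NO) for `M = ⟨x^H⟩⟨y^H⟩`.** -/
theorem no_two [Finite H] [Finite M] (ml : MLK.{u, v}) (KH : IsKGroup H) (sq : ∀ m : M, m * m = 1) {T B : Subgroup H}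
    {x y : M} (faith : ∀ h : H, (∀ m : M, h • m = m) → h = 1)
    (gen : orb (⊤ : Subgroup H) x ⊔ orb (⊤ : Subgroup H) y = ⊤)
    (two : IsPGroup 2 T) (syl : ¬ 2 ∣ T.index) (fx : ∀ t ∈ T, t • x = x) (fy : ∀ t ∈ T, t • y = y)
    (el : ∀ b ∈ B, b * b = 1) (hx : B ≤ o2 (MulAction.stabilizer H x)) (hy : B ≤ o2 (MulAction.stabilizer H y)) :
    Nat.card B ≤ (cv M (B : Set H)).index := by
  set U := orb (⊤ : Subgroup H) x with hU
  set U' := orb (⊤ : Subgroup H) y with hU'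
  set B0 : Subgroup H := fxr H U ⊓ B with hB0
  have key1 : (fxr H U).relIndex B ≤ (cv M (B : Set H)).relIndex U := no_orb ml KH sq two syl fx el hx
  have key2 : (fxr H U').relIndex B0 ≤ (cv M (B0 : Set H)).relIndex U' :=
    no_orb ml KH sq two syl fy (fun b hb => el b hb.2) (inf_le_right.trans hy)
  have h1 : (fxr H U').relIndex B0 = Nat.card B0 := by
    have h2 : (fxr H U' ⊓ B0 : Subgroup H) = ⊥ := by
      rw [eq_bot_iff]
      rintro g ⟨hg', hg, -⟩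
      exact mem_bot.2 (fxr_inf_bot faith gen hg hg')
    rw [← inf_relIndex_right, h2, relIndex_bot_left]
  have h2 : Nat.card B = (fxr H U).relIndex B * Nat.card B0 := by
    rw [← inf_relIndex_right, ← hB0]
    exact card_eq_relIndex_mul inf_le_right
  have h3 : cv M (B : Set H) ≤ cv M (B0 : Set H) := cv_anti inf_le_right
  have h4 : (cv M (B : Set H)).relIndex (cv M (B0 : Set H)) * (cv M (B0 : Set H)).index = (cv M (B : Set H)).index :=
    relIndex_mul_index h3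
  have h5 : (cv M (B : Set H)).relIndex U ≤ (cv M (B : Set H)).relIndex (cv M (B0 : Set H)) :=
    relIndex_le_of_le_right (cv_inf_eq_iff.2 inf_le_left) (relIndex_ne _ _)
  have h6 : (cv M (B0 : Set H)).relIndex U' ≤ (cv M (B0 : Set H)).index := by
    rw [← relIndex_top_right]
    exact relIndex_le_of_le_right le_top (relIndex_ne _ _)
  rw [h2, ← h4]
  refine Nat.mul_le_mul (key1.trans h5) ?_
  rw [← h1]
  exact key2.trans h6

/-- Stage 1 of THEOREM KL. -/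
theorem InpT.exists_pre [Finite H] [Finite M] (h : InpT T A V x y) : ∃ R : Subgroup H, T ≤ R ∧
    Pre (H := R) (T.subgroupOf R) (A.subgroupOf R) V x y ∧ Atom M (A.subgroupOf R) := by
  have hTx : ∀ t ∈ T, t • x = x := fun t ht => h.tx ht
  have hTy : ∀ t ∈ T, t • y = y := fun t ht => h.ty ht
  have hAT : A ≤ T := by
    refine h.Ax.trans (o2_le_of_sylow h.two fun h2 => h.syl (h2.trans (relIndex_dvd_index_of_le ?_)))
    exact fun t ht => h.tx ht
  have hne : ({R | T ≤ R ∧ ¬ A ≤ o2 R} : Set (Subgroup H)).Nonempty := by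
    refine ⟨⊤, le_top, fun h1 => h.A1 ?_⟩
    rw [eq_bot_iff]
    intro a ha
    exact mem_bot.2 (fxr_inf_bot h.faith h.gen (o2_top_le h.two h.syl hTx (h1 ha))
      (o2_top_le h.two h.syl hTy (h1 ha)))
  obtain ⟨R, ⟨hTR, hR⟩, hmin⟩ := wellFounded_lt.has_min _ hne
  have hAR : A ≤ R := hAT.trans hTR
  have eA : (A.subgroupOf R).map R.subtype = A := by rw [subgroupOf_map_subtype, inf_eq_left.2 hAR]
  have hmv : ∀ {m : M}, A ≤ o2 (MulAction.stabilizer H m) → ∃ g : R, g • m ≠ m := by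
    intro m hm
    by_contra hc
    push Not at hc
    have h1 : R ≤ MulAction.stabilizer H m := fun g hg => hc ⟨g, hg⟩
    exact hR ((le_inf hm hAR).trans (o2_inf_self h1))
  refine ⟨R, hTR, ?_, ?_⟩
  · refine
      { sq := h.sq
        two := h.two.comap_of_injective _ R.subtype_injective
        syl := fun h2 => h.syl (h2.trans (relIndex_dvd_index_of_le hTR))
        nx := fun g hg => h.nx _ ?_
        ny := fun g hg => h.ny _ ?_
        cV := h.cV
        xV := h.xV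
        uni := ?_
        mx := hmv h.Ax
        my := hmv h.Ay
        el := fun a ha => Subtype.ext (h.el _ ha)
        AT := fun a ha => hAT ha
        low := ?_
        nlow := ?_
        KH := sec_KG.sub H h.KH R }
    · have h1 : (normalizer (T.subgroupOf R : Set R)).map R.subtype ≤ normalizer (T : Set H) := by
        refine le_normalizer_of ?_
        rintro _ ⟨n, hn, rfl⟩ t ht
        exact (mem_normalizer_iff.1 hn ⟨t, hTR ht⟩).1 ht
      exact h1 ⟨g, hg, rfl⟩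
    · have h1 : (normalizer (T.subgroupOf R : Set R)).map R.subtype ≤ normalizer (T : Set H) := by
        refine le_normalizer_of ?_
        rintro _ ⟨n, hn, rfl⟩ t ht
        exact (mem_normalizer_iff.1 hn ⟨t, hTR ht⟩).1 ht
      exact h1 ⟨g, hg, rfl⟩
    · intro P hP hm
      obtain ⟨p, hp, hpx⟩ := hm
      obtain ⟨h1, h2⟩ := h.uni (P.map R.subtype) (minPar_map_subtype hTR hP) ⟨p, ⟨p, hp, rfl⟩, hpx⟩
      exact ⟨fun q hq w hw => h1 q ⟨q, hq, rfl⟩ w hw, fun q hq => h2 q ⟨q, hq, rfl⟩⟩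
    · intro S hTS hS
      have h1 : S.map R.subtype < R := by
        refine lt_of_le_of_ne (map_subtype_le S) fun h2 => hS ?_
        rw [eq_top_iff]
        intro r _
        have h3 : (r : H) ∈ S.map R.subtype := by rw [h2]; exact r.2
        obtain ⟨s, hs, hsr⟩ := h3
        rwa [← (Subtype.ext hsr : s = r)]
      have h2 : T ≤ S.map R.subtype := fun t ht => ⟨⟨t, hTR ht⟩, hTS ht, rfl⟩
      have h3 : A ≤ o2 (S.map R.subtype) := by
        by_contra h4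
        exact hmin _ ⟨h2, h4⟩ h1
      exact le_trans (fun a ha => h3 ha) (o2_subgroupOf_le S)
    · intro h1
      apply hR
      have h2 := (map_mono (f := R.subtype) h1).trans (o2_map_le R.subtype ⊤)
      rwa [eA, ← MonoidHom.range_eq_map, range_subtype] at h2
  · refine ⟨fun a ha => Subtype.ext (h.el _ ha), fun h1 => h.A1 ?_, ?_, fun C hC hC1 hCA => ?_⟩
    · rw [← eA, h1, Subgroup.map_bot]
    · rw [← cv_map, eA, h.exact]
      exact (Nat.card_congr (subgroupOfEquivOfLe hAR).toEquiv).symm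
    · have h1 := h.atom (C.map R.subtype) (by rw [← eA]; exact map_mono hC)
        (fun h2 => hC1 ((map_eq_bot_iff_of_injective _ R.subtype_injective).1 h2))
        (fun h2 => hCA (map_subtype_inj.1 (h2.trans eA.symm)))
      rwa [cv_map, card_map_of_injective R.subtype_injective] at h1

/-- **THEOREM KL kills `InpT`** -/
theorem InpT.false_of [Finite H] [Finite M] (ml : MLK.{u, v})
    (k : ∀ (H' : Type u) [Group H'] [Finite H'] (M' : Type v) [Group M'] [Finite M'] [MulDistribMulAction H' M']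
      (T' A' : Subgroup H') (V' : Subgroup M') (x' y' : M'), ¬ Sys T' A' V' x' y') (h : InpT T A V x y) : False := by
  obtain ⟨R, -, hpre, hat⟩ := h.exists_pre
  obtain ⟨y', h2⟩ := hpre.stage2 ml hat
  let _ := subAct (orb (⊤ : Subgroup R) x) (orb_inv x)
  have _ := normal_of_sq h2.sq (U0 (orb (⊤ : Subgroup R) x) (A.subgroupOf R))
  obtain ⟨h3, irr⟩ := h2.stage3 ml
  let _ := modAct (U0 (orb (⊤ : Subgroup R) x) (A.subgroupOf R))
    (U0_inv (M := orb (⊤ : Subgroup R) x) (A := A.subgroupOf R))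
  have _ : (fxr R (⊤ : Subgroup (orb (⊤ : Subgroup R) x ⧸ U0 (orb (⊤ : Subgroup R) x) (A.subgroupOf R)))).Normal :=
    fxr_normal fun _ _ _ => mem_top _
  obtain ⟨h4, faith⟩ := h3.stage4
  let _ := quoAct (fxr R (⊤ : Subgroup (orb (⊤ : Subgroup R) x ⧸ U0 (orb (⊤ : Subgroup R) x) (A.subgroupOf R))))
    Gen.triv_fxr
  obtain ⟨A', -, h5⟩ := h4.sys ml faith fun W hW => irr W fun g w hw => hW (QuotientGroup.mk g) w hw
  exact k _ _ _ _ _ _ _ h5

end

/-! ### The input for an action which need not be faithful -/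

/-- `Quo.Pre` with `M = ⟨x^C⟩⟨y^C⟩`; `A` is exact -/
structure PreT {C : Type u} [Group C] {M : Type v} [Group M] [MulDistribMulAction C M] (T A : Subgroup C)
    (V : Subgroup M) (x y : M) : Prop where
  sq : ∀ m : M, m * m = 1
  gen : orb (⊤ : Subgroup C) x ⊔ orb (⊤ : Subgroup C) y = ⊤
  two : IsPGroup 2 T
  syl : ¬ 2 ∣ T.index
  nx : ∀ g ∈ normalizer (T : Set C), g • x = x
  ny : ∀ g ∈ normalizer (T : Set C), g • y = y
  cV : Nat.card V = 4
  xV : x ∈ V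
  uni : ∀ P : Subgroup C, IsMinPar T P → (∃ p ∈ P, p • x ≠ x) →
    (∀ p ∈ P, ∀ w ∈ V, p • w ∈ V) ∧ ∀ p ∈ P, p • y = y
  el : ∀ a ∈ A, a * a = 1
  Ax : A ≤ o2 (MulAction.stabilizer C x)
  Ay : A ≤ o2 (MulAction.stabilizer C y)
  mv : ∃ a ∈ A, ∃ m : M, a • m ≠ m
  le : (cv M (A : Set C)).index ≤ (fxr C (⊤ : Subgroup M)).relIndex A
  KC : IsKGroup C

section pre

variable {C : Type u} [Group C] [Finite C] {M : Type v} [Group M] [Finite M] [MulDistribMulAction C M]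
  {T A : Subgroup C} {V : Subgroup M} {x y : M}

theorem PreT.inp (hML : MLK.{u, v}) (h : PreT T A V x y) :
    ∃ (H : Type u) (_ : Group H) (_ : Finite H) (_ : MulDistribMulAction H M) (T' A' : Subgroup H),
      InpT T' A' V x y := by
  have htriv : ∀ k ∈ fxr C (⊤ : Subgroup M), ∀ m : M, k • m = m := fun k hk m => hk m (mem_top m)
  have hN : (fxr C (⊤ : Subgroup M)).Normal := fxr_normal fun _ _ _ => mem_top _
  set N := fxr C (⊤ : Subgroup M) with hNdef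
  let _ : MulDistribMulAction (C ⧸ N) M := quoAct N htriv
  let π : C →* C ⧸ N := QuotientGroup.mk' N
  have hπ : Function.Surjective π := QuotientGroup.mk'_surjective N
  have he : ∀ (g : C) (v : M), π g • v = g • v := fun _ _ => rfl
  have hker : ∀ k : C, (∀ v : M, k • v = v) → π k = 1 := fun k hk =>
    (QuotientGroup.eq_one_iff k).2 fun v _ => hk v
  have hker2 : ∀ k : C, π k = 1 → ∀ v : M, k • v = v := fun k hk v =>
    (QuotientGroup.eq_one_iff k).1 hk v (mem_top v)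
  have hst : ∀ z : M, (MulAction.stabilizer C z).map π = MulAction.stabilizer (C ⧸ N) z := by
    intro z
    ext g
    constructor
    · rintro ⟨c, hc, rfl⟩
      exact hc
    · intro hg
      obtain ⟨c, rfl⟩ := hπ g
      exact ⟨c, hg, rfl⟩
  have ho2 : ∀ z : M, A ≤ o2 (MulAction.stabilizer C z) → A.map π ≤ o2 (MulAction.stabilizer (C ⧸ N) z) := by
    intro z hz
    refine (map_mono hz).trans (le_o2 ?_ ((o2_isPGroup _).map π) ?_)
    · rw [← hst]
      exact map_mono (o2_le _)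
    · rw [← hst]
      exact (map_mono (le_normalizer_o2 _)).trans (le_normalizer_map π)
  have hx := ho2 x h.Ax
  have hy := ho2 y h.Ay
  have horb : ∀ z : M, orb (⊤ : Subgroup C) z ≤ orb (⊤ : Subgroup (C ⧸ N)) z := fun z =>
    orb_le fun g _ => smul_mem_orb_self (g := π g) (mem_top _)
  have hgen : orb (⊤ : Subgroup (C ⧸ N)) x ⊔ orb (⊤ : Subgroup (C ⧸ N)) y = ⊤ := by
    rw [eq_top_iff, ← h.gen]
    exact sup_le_sup (horb x) (horb y)
  have hfaith : ∀ g : C ⧸ N, (∀ m : M, g • m = m) → g = 1 := by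
    intro g hg
    obtain ⟨c, rfl⟩ := hπ g
    exact hker c hg
  have hsyl : ¬ 2 ∣ (T.map π).index := fun h2 => h.syl (h2.trans (index_map_dvd T hπ))
  have hKH : IsKGroup (C ⧸ N) := sec_KG.quo C h.KC N
  have htx : ∀ t ∈ T, t • x = x := fun t ht => h.nx t (le_normalizer ht)
  have hty : ∀ t ∈ T, t • y = y := fun t ht => h.ny t (le_normalizer ht)
  have hel : ∀ a ∈ A.map π, a * a = 1 := by
    rintro _ ⟨a, ha, rfl⟩
    rw [← map_mul, h.el a ha, map_one]
  -- (NO)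
  have hno : ∀ B : Subgroup (C ⧸ N), B ≤ A.map π → Nat.card B ≤ (cv M (B : Set (C ⧸ N))).index := by
    intro B hB
    refine no_two hML hKH h.sq (T := T.map π) hfaith hgen (h.two.map π) hsyl ?_ ?_ (fun b hb => hel b (hB hb))
      (hB.trans hx) (hB.trans hy)
    · rintro _ ⟨t, ht, rfl⟩
      rw [he, htx t ht]
    · rintro _ ⟨t, ht, rfl⟩
      rw [he, hty t ht]
  -- `A` is exact
  have hcv : cv M (A.map π : Set (C ⧸ N)) = cv M (A : Set C) := by
    ext v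
    constructor
    · exact fun hv a ha => hv _ ⟨a, ha, rfl⟩
    · rintro hv _ ⟨a, ha, rfl⟩
      exact hv a ha
  have hcard : Nat.card (A.map π) = N.relIndex A := by
    rw [← relIndex_bot_left, ← relIndex_comap, MonoidHom.comap_bot, QuotientGroup.ker_mk']
  have hex : (cv M (A.map π : Set (C ⧸ N))).index = Nat.card (A.map π) := by
    refine le_antisymm ?_ (hno _ le_rfl)
    rw [hcv, hcard]
    exact h.le
  have hA1 : A.map π ≠ ⊥ := by
    intro h1
    obtain ⟨a, ha, m, ham⟩ := h.mv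
    apply ham
    refine hker2 a ?_ m
    rw [← mem_bot, ← h1]
    exact ⟨a, ha, rfl⟩
  -- an atom
  obtain ⟨B, ⟨hBA, hB1, hBe⟩, hmin⟩ : ∃ B : Subgroup (C ⧸ N), (B ≤ A.map π ∧ B ≠ ⊥ ∧
      (cv M (B : Set (C ⧸ N))).index = Nat.card B) ∧ ∀ B' : Subgroup (C ⧸ N), (B' ≤ A.map π ∧ B' ≠ ⊥ ∧
      (cv M (B' : Set (C ⧸ N))).index = Nat.card B') → B' ≤ B → B' = B := by
    obtain ⟨B, hB⟩ := (Set.toFinite {B : Subgroup (C ⧸ N) | B ≤ A.map π ∧ B ≠ ⊥ ∧
      (cv M (B : Set (C ⧸ N))).index = Nat.card B}).exists_minimal ⟨A.map π, le_rfl, hA1, hex⟩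
    exact ⟨B, hB.prop, fun B' hB' hle => le_antisymm hle (hB.le_of_le hB' hle)⟩
  refine ⟨C ⧸ N, inferInstance, inferInstance, inferInstance, T.map π, B, ?_⟩
  refine
    { el := fun a ha => hel a (hBA ha)
      A1 := hB1
      exact := hBe
      atom := ?_
      sq := h.sq
      faith := hfaith
      gen := hgen
      two := h.two.map π
      syl := hsyl
      nx := ?_
      ny := ?_
      cV := h.cV
      xV := h.xV
      uni := ?_
      Ax := hBA.trans hx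
      Ay := hBA.trans hy
      KH := hKH }
  · intro B' hB' hB1' hne
    refine lt_of_le_of_ne (hno B' (hB'.trans hBA)) fun h1 => hne ?_
    exact hmin B' ⟨hB'.trans hBA, hB1', h1.symm⟩ hB'
  · intro g hg
    obtain ⟨t, ht, n, hn, rfl⟩ := norm_lift π hπ h.two h.syl hg
    rw [he, mul_smul, h.nx n hn, h.nx t (le_normalizer ht)]
  · intro g hg
    obtain ⟨t, ht, n, hn, rfl⟩ := norm_lift π hπ h.two h.syl hg
    rw [he, mul_smul, h.ny n hn, h.ny t (le_normalizer ht)]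
  · intro P hP hmv
    obtain ⟨R, hR, rfl⟩ := exists_minPar π hπ hP
    obtain ⟨h1, h2⟩ := h.uni R hR (by
      obtain ⟨_, ⟨r, hr, rfl⟩, hrx⟩ := hmv
      exact ⟨r, hr, hrx⟩)
    refine ⟨?_, ?_⟩
    · rintro _ ⟨r, hr, rfl⟩ w hw
      exact h1 r hr w hw
    · rintro _ ⟨r, hr, rfl⟩
      exact h2 r hr

/-- **THEOREM KL kills `PreT`**, given that there is no `Sys` -/
theorem PreT.false_of (hML : MLK.{u, v})
    (k : ∀ (H' : Type u) [Group H'] [Finite H'] (M' : Type v) [Group M'] [Finite M'] [MulDistribMulAction H' M']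
      (T' A' : Subgroup H') (V' : Subgroup M') (x' y' : M'), ¬ Sys T' A' V' x' y') (h : PreT T A V x y) : False := by
  obtain ⟨H, _, _, _, T', A', hI⟩ := h.inp hML
  exact hI.false_of hML k

/-- **THEOREM KL kills `PreT`** -/
theorem PreT.false (hML : MLK.{u, v}) (hKL : NoInp.{u, v}) (h : PreT T A V x y) : False :=
  h.false_of hML (noSys_of hKL)

end pre

end Cfsg.Agent.Omega.KL.QuoT

end

section


/-!
# THEOREM KL: the plug at group level, `M` generated by two orbits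

`GInT T C N Z W Sy A x p` : `C` acts on `M := N / Z` (`N` elementary abelian, `Z ≤ N` centralised by `C`),
`M = ⟨x̄ ^ C⟩ ⟨p̄ ^ C⟩`, `T` a Sylow 2-subgroup of `C`, `x̄`, `p̄` `N_C(T)`-fixed vectors with stabilisers
`C_C(x)`, `Sy`; every `T`-minimal `R ≤ C` which moves `x` normalises `W` (`x ∈ W`, `|W : Z| = 4`) and fixes `p̄`;
`A ≤ O₂(C_C(x)) ∩ O₂(Sy)` elementary abelian, exact on `N`, `C_A(⟨x^C⟩) ≤ C(N)`.

* **`GInT.pre`** : `QuoT.PreT` for `C` acting on `N / Z`; **`GInT.false`** : contradiction from THEOREM KL.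

(CARD #20012, bb #23086, #23133: `C = Y_j`, `T = B`, `N = W_ij N_j Z_J`, `A = F`.)
-/

set_option autoImplicit false

namespace Cfsg.Agent.Omega.KL.PlugGT

open Subgroup Cfsg Cfsg.Agent.ZN
open Cfsg.Agent.ClassTwoFusion.Quad Cfsg.Agent.Omega.ML.MinFrame
open Cfsg.Agent.MinSimple.MinParabolic (IsMinPar)
open Cfsg.Agent.MinSimple.VModule (o2_isPGroup o2_le le_o2 le_normalizer_o2 o2_le_of_sylow)
open Cfsg.Agent.Omega.KL.PlugG (comm_of_sq minPar_map sub_o2)

universe u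

variable {G : Type u} [Group G]

/-- **The input of THEOREM KL at group level** -/
structure GInT (T C N Z W Sy A : Subgroup G) (x p : G) : Prop where
  TC : T ≤ C
  two : IsPGroup 2 T
  syl : ¬ 2 ∣ T.relIndex C
  sq : ∀ n ∈ N, n * n = 1
  CN : C ≤ normalizer (N : Set G)
  ZN : Z ≤ N
  CZ : ∀ c ∈ C, ∀ z ∈ Z, c * z = z * c
  xN : x ∈ N
  pN : p ∈ N
  gen : ∀ U : Subgroup G, x ∈ U → p ∈ U → Z ≤ U → C ≤ normalizer (U : Set G) → N ≤ U
  cA : ∀ a ∈ A, (∀ c ∈ C, a * (c * x * c⁻¹) = c * x * c⁻¹ * a) → a ∈ centralizer (N : Set G)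
  stx : ∀ c ∈ C, c * x * c⁻¹ * x⁻¹ ∈ Z → c * x = x * c
  sty : ∀ c ∈ C, (c ∈ Sy ↔ c * p * c⁻¹ * p⁻¹ ∈ Z)
  SyC : Sy ≤ C
  x1 : x ∉ Z
  p1 : p ∉ Z
  xp : x * p ∉ Z
  ZW : Z ≤ W
  WN : W ≤ N
  xW : x ∈ W
  cW : Z.relIndex W = 4
  nx : ∀ g ∈ C, g ∈ normalizer (T : Set G) → g * x = x * g
  ny : C ⊓ normalizer (T : Set G) ≤ Sy
  uni : ∀ R : Subgroup G, IsMinPar T R → R ≤ C → (∃ r ∈ R, r * x ≠ x * r) → R ≤ normalizer (W : Set G) ⊓ Sy
  el : ∀ a ∈ A, a * a = 1
  Ax : A ≤ o2 (C ⊓ centralizer ({x} : Set G))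
  Ay : A ≤ o2 Sy
  mv : ¬ A ≤ centralizer (N : Set G)
  ex : (centralizer (A : Set G)).relIndex N ≤ (centralizer (N : Set G)).relIndex A
  KC : IsKGroup C

namespace GInT

variable [Finite G] {T C N Z W Sy A : Subgroup G} {x p : G} (h : GInT T C N Z W Sy A x p)
include h

/-- **the input of THEOREM KL** -/
theorem pre : ∃ (M : Type u) (_ : Group M) (_ : Finite M) (_ : MulDistribMulAction C M) (W' : Subgroup M) (x' y' : M),
    QuoT.PreT (T.subgroupOf C) (A.subgroupOf C) W' x' y' := by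
  have hCZc : ∀ c ∈ C, ∀ z ∈ Z, c * z * c⁻¹ = z := by
    intro c hc z hz
    rw [h.CZ c hc z hz, mul_inv_cancel_right]
  have hCZ : C ≤ normalizer (Z : Set G) := by
    intro c hc
    rw [mem_normalizer_iff]
    intro z
    refine ⟨fun hz => by rw [hCZc c hc z hz]; exact hz, fun hz => ?_⟩
    have h1 := hCZc c⁻¹ (inv_mem hc) _ hz
    have e : c⁻¹ * (c * z * c⁻¹) * c⁻¹⁻¹ = z := by group
    rw [e] at h1
    rw [h1]
    exact hz
  have hnor : (Z.subgroupOf N).Normal := by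
    refine normal_subgroupOf_of_le_normalizer fun n hn => ?_
    rw [mem_normalizer_iff]
    intro z
    have hc : ∀ a ∈ N, ∀ b ∈ N, a * b = b * a := fun a ha b hb =>
      comm_of_sq h.sq ha hb
    constructor
    · intro hz
      rwa [hc n hn z (h.ZN hz), mul_inv_cancel_right]
    · intro hz
      have h1 := hc n hn _ (h.ZN hz)
      have e : n * z * n⁻¹ = z := by
        have e1 : n * (n * z * n⁻¹) = n * z := by rw [h1]; group
        exact mul_left_cancel e1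
      rwa [e] at hz
  let _ := ML.Final.conjAct h.CN hCZ
  let mk : N →* N ⧸ Z.subgroupOf N := QuotientGroup.mk' (Z.subgroupOf N)
  have hmk : Function.Surjective mk := QuotientGroup.mk'_surjective _
  have hmem : ∀ (g : C) (n : N), (g : G) * n * (g : G)⁻¹ ∈ N := fun g n =>
    (mem_normalizer_iff.1 (h.CN g.2) n).1 n.2
  have hsm : ∀ (g : C) (n : N), g • mk n = mk ⟨(g : G) * n * (g : G)⁻¹, hmem g n⟩ := fun _ _ => rfl
  have hone : ∀ a b : N, mk a = mk b ↔ (a : G) * (b : G)⁻¹ ∈ Z := by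
    intro a b
    rw [← mul_inv_eq_one, ← map_inv, ← map_mul, ← MonoidHom.mem_ker, QuotientGroup.ker_mk']
    exact Iff.rfl
  have hfix : ∀ (g : C) (n : N), g • mk n = mk n ↔ (g : G) * n * (g : G)⁻¹ * (n : G)⁻¹ ∈ Z := by
    intro g n
    rw [hsm, hone]
  set x' : N ⧸ Z.subgroupOf N := mk ⟨x, h.xN⟩ with hx
  set y' : N ⧸ Z.subgroupOf N := mk ⟨p, h.pN⟩ with hy
  set W' : Subgroup (N ⧸ Z.subgroupOf N) := (W.subgroupOf N).map mk with hW
  have hcom : ∀ {a b : G}, a * b = b * a → a * b * a⁻¹ * b⁻¹ ∈ Z := by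
    intro a b e
    rw [e, mul_inv_cancel_right, mul_inv_cancel]
    exact one_mem _
  have hsub : ∀ {X : Subgroup G}, T ≤ X → X ≤ C → ¬ 2 ∣ T.relIndex X := fun {X} h1 h2 h3 =>
    h.syl (h3.trans (Dvd.intro _ (relIndex_mul_relIndex T X C h1 h2)))
  have hTx : T ≤ C ⊓ centralizer ({x} : Set G) := le_inf h.TC fun t ht =>
    mem_centralizer_singleton_iff.2 (h.nx t (h.TC ht) (Subgroup.le_normalizer ht))
  have hAT : A ≤ T := h.Ax.trans (o2_le_of_sylow h.two (hsub hTx inf_le_left))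
  have hAC : A ≤ C := hAT.trans h.TC
  -- the kernel
  have hker : ∀ c : C, (c : G) ∈ centralizer (N : Set G) → ∀ m : N ⧸ Z.subgroupOf N, c • m = m := by
    intro c hc m
    obtain ⟨n, rfl⟩ := hmk m
    rw [hfix]
    exact hcom (mem_centralizer_iff.1 hc n n.2).symm
  have hkA : ∀ (a : G) (haC : a ∈ C), a ∈ A → (∀ m : N ⧸ Z.subgroupOf N, (⟨a, haC⟩ : C) • m = m) →
      a ∈ centralizer (N : Set G) := by
    intro a haC ha hm
    refine h.cA a ha fun c hc => ?_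
    -- `a` is trivial on `N / Z`, so is `c⁻¹ a c`
    have h1 : (c⁻¹ * a * c) * x * (c⁻¹ * a * c)⁻¹ * x⁻¹ ∈ Z := by
      have h2 := (hfix ⟨a, haC⟩ ⟨c * x * c⁻¹, (mem_normalizer_iff.1 (h.CN hc) x).1 h.xN⟩).1 (hm _)
      change a * (c * x * c⁻¹) * a⁻¹ * (c * x * c⁻¹)⁻¹ ∈ Z at h2
      have h3 := (mem_normalizer_iff.1 (hCZ (inv_mem hc)) _).1 h2
      have e : c⁻¹ * (a * (c * x * c⁻¹) * a⁻¹ * (c * x * c⁻¹)⁻¹) * c⁻¹⁻¹ =
          (c⁻¹ * a * c) * x * (c⁻¹ * a * c)⁻¹ * x⁻¹ := by group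
      rwa [e] at h3
    have h2 := h.stx _ (mul_mem (mul_mem (inv_mem hc) haC) hc) h1
    calc a * (c * x * c⁻¹) = c * ((c⁻¹ * a * c) * x) * c⁻¹ := by group
      _ = c * (x * (c⁻¹ * a * c)) * c⁻¹ := by rw [h2]
      _ = c * x * c⁻¹ * a := by group
  -- the stabilisers
  have hsx : ∀ c : C, c ∈ MulAction.stabilizer C x' ↔ (c : G) ∈ C ⊓ centralizer ({x} : Set G) := by
    intro c
    rw [MulAction.mem_stabilizer_iff, hfix, mem_inf, mem_centralizer_singleton_iff]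
    exact ⟨fun h1 => ⟨c.2, h.stx c c.2 h1⟩, fun h1 => hcom h1.2⟩
  have hsy : ∀ c : C, c ∈ MulAction.stabilizer C y' ↔ (c : G) ∈ Sy := by
    intro c
    rw [MulAction.mem_stabilizer_iff, hfix]
    exact (h.sty c c.2).symm
  -- `N_C(T)`
  have hnT : ∀ g ∈ normalizer (T.subgroupOf C : Set C), (g : G) ∈ C ⊓ normalizer (T : Set G) := by
    intro g hg
    refine mem_inf.2 ⟨g.2, ?_⟩
    rw [mem_normalizer_iff]
    intro t
    constructor
    · intro ht
      exact (mem_normalizer_iff.1 hg ⟨t, h.TC ht⟩).1 ht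
    · intro ht
      have h1 : (g : G)⁻¹ * ((g : G) * t * (g : G)⁻¹) * (g : G)⁻¹⁻¹ ∈ T :=
        (mem_normalizer_iff.1 (inv_mem hg) ⟨(g : G) * t * (g : G)⁻¹, h.TC ht⟩).1 ht
      have e : (g : G)⁻¹ * ((g : G) * t * (g : G)⁻¹) * (g : G)⁻¹⁻¹ = t := by group
      rwa [e] at h1
  -- the index of the fixed space
  have hcvle : (centralizer (A : Set G)).subgroupOf N ≤ (cv (N ⧸ Z.subgroupOf N) (A.subgroupOf C : Set C)).comap mk := by
    intro n hn a ha
    refine (hfix a n).2 ?_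
    exact hcom (mem_centralizer_iff.1 (mem_subgroupOf.1 hn) a (mem_subgroupOf.1 ha))
  have hfxr : (fxr C (⊤ : Subgroup (N ⧸ Z.subgroupOf N))).relIndex (A.subgroupOf C) =
      ((centralizer (N : Set G)).subgroupOf C).relIndex (A.subgroupOf C) := by
    rw [← inf_relIndex_right, ← inf_relIndex_right ((centralizer (N : Set G)).subgroupOf C)]
    congr 1
    ext c
    rw [mem_inf, mem_inf]
    constructor
    · rintro ⟨h1, h2⟩
      exact ⟨mem_subgroupOf.2 (hkA c c.2 (mem_subgroupOf.1 h2) fun m => h1 m (mem_top m)), h2⟩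
    · rintro ⟨h1, h2⟩
      exact ⟨fun m _ => hker c (mem_subgroupOf.1 h1) m, h2⟩
  have hle : (cv (N ⧸ Z.subgroupOf N) (A.subgroupOf C : Set C)).index ≤
      (fxr C (⊤ : Subgroup (N ⧸ Z.subgroupOf N))).relIndex (A.subgroupOf C) := by
    rw [hfxr, relIndex_subgroupOf hAC, ← index_comap_of_surjective _ hmk]
    exact (index_antitone hcvle).trans h.ex
  have huni : ∀ R : Subgroup C, IsMinPar (T.subgroupOf C) R → (∃ r ∈ R, r • x' ≠ x') →
      (∀ r ∈ R, ∀ w ∈ W', r • w ∈ W') ∧ ∀ r ∈ R, r • y' = y' := by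
    intro R hR hmv
    have hR' := minPar_map h.TC hR
    have hRC : R.map C.subtype ≤ C := map_subtype_le R
    obtain ⟨r, hr, hrx⟩ := hmv
    have hRm : ∃ r ∈ R.map C.subtype, r * x ≠ x * r :=
      ⟨r, mem_map_of_mem C.subtype hr, fun e => hrx ((hfix r _).2 (hcom e))⟩
    have h1 := h.uni _ hR' hRC hRm
    refine ⟨?_, ?_⟩
    · rintro r hr _ ⟨w, hw, rfl⟩
      rw [hsm]
      refine ⟨_, ?_, rfl⟩
      exact mem_subgroupOf.2 ((mem_normalizer_iff.1 (h1 (mem_map_of_mem C.subtype hr)).1 _).1 (mem_subgroupOf.1 hw))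
    · intro r hr
      exact MulAction.mem_stabilizer_iff.1 ((hsy r).2 (h1 (mem_map_of_mem C.subtype hr)).2)
  refine ⟨N ⧸ Z.subgroupOf N, inferInstance, inferInstance, inferInstance, W', x', y', ?_⟩
  refine QuoT.PreT.mk ?_ ?_ ?_ ?_ ?_ ?_ ?_ ?_ huni ?_ ?_ ?_ ?_ hle h.KC
  · intro m
    obtain ⟨n, rfl⟩ := hmk m
    rw [← map_mul, ← map_one mk, hone]
    have h1 : (n : G) * n = 1 := h.sq n n.2
    simp [h1]
  · -- generation
    set U : Subgroup G := ((orb (⊤ : Subgroup C) x' ⊔ orb (⊤ : Subgroup C) y').comap mk).map N.subtype with hUd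
    have hUmem : ∀ a : N, (a : G) ∈ U ↔ mk a ∈ orb (⊤ : Subgroup C) x' ⊔ orb (⊤ : Subgroup C) y' := by
      intro a
      constructor
      · rintro ⟨b, hb, hba⟩
        rw [← (Subtype.ext hba : b = a)]
        exact hb
      · exact fun ha => ⟨a, ha, rfl⟩
    have hinv : ∀ (g : C) (m : N ⧸ Z.subgroupOf N), m ∈ orb (⊤ : Subgroup C) x' ⊔ orb (⊤ : Subgroup C) y' →
        g • m ∈ orb (⊤ : Subgroup C) x' ⊔ orb (⊤ : Subgroup C) y' := by
      intro g m hm
      have h1 : orb (⊤ : Subgroup C) x' ⊔ orb (⊤ : Subgroup C) y' ≤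
          (orb (⊤ : Subgroup C) x' ⊔ orb (⊤ : Subgroup C) y').comap (MulDistribMulAction.toMonoidHom _ g) := by
        refine sup_le (fun m hm => ?_) fun m hm => ?_
        · exact mem_comap.2 (mem_sup_left (smul_mem_orb (mem_top _) hm))
        · exact mem_comap.2 (mem_sup_right (smul_mem_orb (mem_top _) hm))
      exact h1 hm
    have h1 : N ≤ U := by
      refine h.gen U ((hUmem ⟨x, h.xN⟩).2 (mem_sup_left (mem_orb_self _ x')))
        ((hUmem ⟨p, h.pN⟩).2 (mem_sup_right (mem_orb_self _ y'))) ?_ ?_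
      · intro z hz
        refine (hUmem ⟨z, h.ZN hz⟩).2 ?_
        have e : mk ⟨z, h.ZN hz⟩ = 1 := by
          rw [← map_one mk, hone]
          simpa using hz
        rw [e]
        exact one_mem _
      · have key : ∀ g ∈ C, ∀ a ∈ U, g * a * g⁻¹ ∈ U := by
          rintro g hg a ⟨b, hb, rfl⟩
          have h2 := hinv (⟨g, hg⟩ : C) _ hb
          rw [hsm ⟨g, hg⟩ b] at h2
          exact (hUmem ⟨_, hmem ⟨g, hg⟩ b⟩).2 h2
        intro g hg
        rw [mem_normalizer_iff]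
        intro a
        refine ⟨key g hg a, fun ha => ?_⟩
        have h2 := key g⁻¹ (inv_mem hg) _ ha
        have e : g⁻¹ * (g * a * g⁻¹) * g⁻¹⁻¹ = a := by group
        rwa [e] at h2
    rw [eq_top_iff]
    intro m _
    obtain ⟨n, rfl⟩ := hmk m
    exact (hUmem n).1 (h1 n.2)
  · exact h.two.comap_of_injective C.subtype C.subtype_injective
  · exact h.syl
  · intro g hg
    have h1 := hnT g hg
    exact MulAction.mem_stabilizer_iff.1 ((hsx g).2 (mem_inf.2 ⟨h1.1, mem_centralizer_singleton_iff.2 (h.nx g h1.1 h1.2)⟩))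
  · intro g hg
    exact MulAction.mem_stabilizer_iff.1 ((hsy g).2 (h.ny (hnT g hg)))
  · -- `|W| = 4`
    have h1 : mk.ker = Z.subgroupOf N := QuotientGroup.ker_mk' _
    rw [hW, ← relIndex_ker, h1, relIndex_subgroupOf h.WN, h.cW]
  · exact ⟨⟨x, h.xN⟩, mem_subgroupOf.2 h.xW, rfl⟩
  · intro a ha
    exact Subtype.ext (h.el a (mem_subgroupOf.1 ha))
  · exact sub_o2 hsx h.Ax
  · exact sub_o2 hsy h.Ay
  · by_contra hcon
    push Not at hcon
    apply h.mv
    intro a ha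
    exact hkA a (hAC ha) ha fun m => hcon ⟨a, hAC ha⟩ (mem_subgroupOf.2 ha) m

/-- **THEOREM KL: contradiction** -/
theorem false (hML : ML.Final.MLK.{u, u}) (hKL : Quo.NoInp.{u, u}) : False := by
  obtain ⟨M, _, _, _, W', x', y', h'⟩ := h.pre
  exact h'.false hML hKL

end GInT

end Cfsg.Agent.Omega.KL.PlugGT

end

section


/-!
# CARD #18791 [A], THEOREM KL (helper969, #21261 (3)): the commutator lemma (PG) for LEMMA COMP

`S ⊴ G`, `S ≤ Y`, `|Y : S|` odd, `T` a 2-group normalising `Y`, all `T`-invariant `Z < Y` over `S` lie in one `Y₀ < Y`: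
`[Y, Y] ≤ Y₀`.
-/

set_option autoImplicit false
set_option linter.unusedSectionVars false
set_option linter.style.haveILetI false

namespace Cfsg.Agent.Omega.KL

open Subgroup Cfsg

theorem map_le_card {G : Type*} [Group G] {Y Z : Subgroup G} {q : ℕ} (D : Sylow q Y)
    (h : (D : Subgroup Y).map Y.subtype ≤ Z) : Nat.card (D : Subgroup Y) ∣ Nat.card Z := by
  have h1 : Nat.card ((D : Subgroup Y).map Y.subtype) = Nat.card (D : Subgroup Y) :=
    (Nat.card_congr ((D : Subgroup Y).equivMapOfInjective Y.subtype Y.subtype_injective).toEquiv).symm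
  rw [← h1]
  exact card_dvd_of_le h

/-- (PG) for `S = 1` -/
theorem exists_pgroup {G : Type*} [Group G] [Finite G] {Y T Y0 : Subgroup G} (hodd : ¬ 2 ∣ Nat.card Y)
    (hT : IsPGroup 2 T) (hinv : ∀ t ∈ T, ∀ y ∈ Y, t * y * t⁻¹ ∈ Y)
    (hY0 : ∀ Z ≤ Y, (∀ t ∈ T, ∀ z ∈ Z, t * z * t⁻¹ ∈ Z) → Z ≠ Y → Z ≤ Y0) (hne : ¬ Y ≤ Y0) :
    ∃ q : ℕ, q.Prime ∧ IsPGroup q Y := by
  haveI : Fact (Nat.Prime 2) := ⟨Nat.prime_two⟩
  by_contra hcon
  push Not at hcon
  apply hne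
  have key : ∀ (q : ℕ) [Fact q.Prime], ∀ D : Sylow q Y, Nat.card (D : Subgroup Y) ∣ Nat.card (Y0 ⊓ Y : Subgroup G) := by
    intro q hq D
    obtain ⟨Z, ⟨D', hD'⟩, hZ⟩ := Lib.PGroupCoprimeAction.exists_invariant_sylow hT hodd hinv q
    have h1 : Z ≤ Y := by
      rw [← hD']
      rintro _ ⟨y, -, rfl⟩
      exact y.2
    have h2 : Z ≠ Y := by
      intro h2
      apply hcon q hq.out
      have h3 : IsPGroup q Z := by rw [← hD']; exact D'.isPGroup'.map _
      rwa [h2] at h3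
    have h3 : Z ≤ Y0 ⊓ Y := le_inf (hY0 Z h1 hZ h2) h1
    have h4 := map_le_card D' (Z := Y0 ⊓ Y) (by rw [hD']; exact h3)
    have h5 : Nat.card (D : Subgroup Y) = Nat.card (D' : Subgroup Y) := D.card_eq_multiplicity.trans
      D'.card_eq_multiplicity.symm
    rwa [h5]
  have hcard : Nat.card Y ∣ Nat.card (Y0 ⊓ Y : Subgroup G) := by
    rw [Nat.dvd_iff_prime_pow_dvd_dvd]
    intro q k hq hk
    haveI : Fact q.Prime := ⟨hq⟩
    obtain ⟨D⟩ : Nonempty (Sylow q Y) := inferInstance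
    refine dvd_trans ?_ (key q D)
    rw [D.card_eq_multiplicity]
    exact pow_dvd_pow q ((hq.pow_dvd_iff_le_factorization Nat.card_pos.ne').1 hk)
  have h1 : Y0 ⊓ Y = Y := by
    apply Subgroup.eq_of_le_of_card_ge inf_le_right
    exact Nat.le_of_dvd Nat.card_pos hcard
  rw [← h1]
  exact inf_le_left

/-- (PG) for `S = 1` -/
theorem comm_le_aux {G : Type*} [Group G] [Finite G] {Y T Y0 : Subgroup G} (hodd : ¬ 2 ∣ Nat.card Y)
    (hT : IsPGroup 2 T) (hinv : ∀ t ∈ T, ∀ y ∈ Y, t * y * t⁻¹ ∈ Y)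
    (hY0 : ∀ Z ≤ Y, (∀ t ∈ T, ∀ z ∈ Z, t * z * t⁻¹ ∈ Z) → Z ≠ Y → Z ≤ Y0) (hne : ¬ Y ≤ Y0) :
    ⁅Y, Y⁆ ≤ Y0 := by
  obtain ⟨q, hq, hp⟩ := exists_pgroup hodd hT hinv hY0 hne
  haveI : Fact q.Prime := ⟨hq⟩
  apply hY0
  · rw [commutator_le]
    intro a ha b hb
    exact mul_mem (mul_mem (mul_mem ha hb) (inv_mem ha)) (inv_mem hb)
  · intro t ht z hz
    have h1 : Y.map (MulAut.conj t).toMonoidHom ≤ Y := by
      rintro _ ⟨y, hy, rfl⟩
      exact hinv t ht y hy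
    have h2 : (⁅Y, Y⁆).map (MulAut.conj t).toMonoidHom ≤ ⁅Y, Y⁆ := by
      rw [map_commutator]
      exact commutator_mono h1 h1
    exact h2 ⟨z, hz, rfl⟩
  · intro h1
    have hnt : Nontrivial Y := by
      by_contra h2
      rw [not_nontrivial_iff_subsingleton] at h2
      apply hne
      intro y hy
      have h3 : (⟨y, hy⟩ : Y) = 1 := Subsingleton.elim _ _
      have h4 : y = 1 := congrArg Subtype.val h3
      rw [h4]
      exact one_mem _
    haveI : Group.IsNilpotent Y := hp.isNilpotent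
    have h2 := Group.IsSolvable.commutator_lt_top_of_nontrivial Y
    apply h2.ne
    rw [eq_top_iff]
    intro y _
    have h3 : (y : G) ∈ ⁅Y, Y⁆ := by rw [h1]; exact y.2
    have h4 : (_root_.commutator Y).map Y.subtype = ⁅Y, Y⁆ := map_subtype_commutator Y
    rw [← h4] at h3
    obtain ⟨y', hy', h5⟩ := h3
    have h6 : y' = y := Subtype.ext h5
    rw [← h6]
    exact hy'

/-- **(PG)** -/
theorem comm_le {G : Type*} [Group G] [Finite G] {S Y T Y0 : Subgroup G} [hS : S.Normal] (hSY : S ≤ Y)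
    (hodd : ¬ 2 ∣ S.relIndex Y) (hT : IsPGroup 2 T) (hinv : ∀ t ∈ T, ∀ y ∈ Y, t * y * t⁻¹ ∈ Y)
    (hY0 : ∀ Z ≤ Y, S ≤ Z → (∀ t ∈ T, ∀ z ∈ Z, t * z * t⁻¹ ∈ Z) → Z ≠ Y → Z ≤ Y0) (hne : ¬ Y ≤ Y0)
    (hS0 : S ≤ Y0) : ⁅Y, Y⁆ ≤ Y0 := by
  have hker : ∀ {Z : Subgroup G}, S ≤ Z → (Z.map (QuotientGroup.mk' S)).comap (QuotientGroup.mk' S) = Z := by
    intro Z hZ
    rw [comap_map_eq, QuotientGroup.ker_mk']
    exact sup_eq_left.2 hZ
  have h1 : ⁅Y.map (QuotientGroup.mk' S), Y.map (QuotientGroup.mk' S)⁆ ≤ Y0.map (QuotientGroup.mk' S) := by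
    apply comm_le_aux (T := T.map (QuotientGroup.mk' S))
    · have h2 : Nat.card (Y.map (QuotientGroup.mk' S)) = S.relIndex Y := by
        have h3 := Subgroup.relIndex_map_map (QuotientGroup.mk' S) S Y
        rw [QuotientGroup.map_mk'_self, relIndex_bot_left, QuotientGroup.ker_mk', sup_idem,
          sup_eq_left.2 hSY] at h3
        exact h3
      rw [h2]
      exact hodd
    · exact hT.map _
    · rintro _ ⟨t, ht, rfl⟩ _ ⟨y, hy, rfl⟩
      exact ⟨t * y * t⁻¹, hinv t ht y hy, by simp⟩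
    · intro Z hZ hZi hne'
      have h2 : Z.comap (QuotientGroup.mk' S) ≤ Y0 := by
        apply hY0
        · rw [← hker hSY]
          exact comap_mono hZ
        · intro s hs
          rw [mem_comap]
          have h3 : (QuotientGroup.mk' S) s = 1 := (QuotientGroup.eq_one_iff s).2 hs
          rw [h3]
          exact one_mem _
        · intro t ht z hz
          rw [mem_comap] at hz ⊢
          rw [map_mul, map_mul, map_inv]
          exact hZi _ ⟨t, ht, rfl⟩ _ hz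
        · intro h3
          apply hne'
          rw [← h3, map_comap_eq_self_of_surjective (QuotientGroup.mk'_surjective _)]
      rw [← map_comap_eq_self_of_surjective (QuotientGroup.mk'_surjective S) Z]
      exact map_mono h2
    · intro h2
      apply hne
      rw [← hker hSY, ← hker hS0]
      exact comap_mono h2
  rw [← map_commutator] at h1
  have h2 := comap_mono (f := QuotientGroup.mk' S) h1
  rw [hker hS0] at h2
  exact (le_comap_map _ _).trans h2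

end Cfsg.Agent.Omega.KL

end

section


/-!
# CARD #18791 [A], THEOREM KL, LEMMA COMP (helper969, #21261 (3); helper185, streamlined)

`X` acts on the set `Ω`, `T` Sylow, `x ∈ V ⊆ Ω`, `|V| = 3`; every minimal parabolic `P` over `T` fixes `x` or has orbit `V`
on `x`; `N_X(T)` fixes `x`; `Ls` is an `X`-invariant set of perfect subgroups with trivial centre which commute pairwise, `T` is
transitive on it, `⟨Ls⟩ T = X`. **Then `X` fixes `x` or `|Ls| = 1`.**
-/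

set_option autoImplicit false
set_option linter.unusedSectionVars false
set_option linter.style.haveILetI false

namespace Cfsg.Agent.Omega.KL

open Subgroup Cfsg Cfsg.Agent.StdEven.Syl Cfsg.Agent.MinSimple.MinParabolic

variable {X : Type*} [Group X] {Ω : Type*} [MulAction X Ω]

/-- `g H g⁻¹` -/
def cg (g : X) (H : Subgroup X) : Subgroup X := H.map (MulAut.conj g).toMonoidHom

theorem mem_cg {g a : X} {H : Subgroup X} : a ∈ cg g H ↔ g⁻¹ * a * g ∈ H := by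
  constructor
  · rintro ⟨y, hy, rfl⟩
    have : g⁻¹ * (g * y * g⁻¹) * g = y := by group
    show g⁻¹ * (g * y * g⁻¹) * g ∈ H
    rw [this]; exact hy
  · intro h
    refine ⟨_, h, ?_⟩
    show g * (g⁻¹ * a * g) * g⁻¹ = a
    group

theorem conj_mem_cg {g a : X} {H : Subgroup X} (h : a ∈ H) : g * a * g⁻¹ ∈ cg g H := ⟨a, h, rfl⟩

theorem cg_mul (g k : X) (H : Subgroup X) : cg (g * k) H = cg g (cg k H) := by
  ext a
  rw [mem_cg, mem_cg, mem_cg]
  have : (g * k)⁻¹ * a * (g * k) = k⁻¹ * (g⁻¹ * a * g) * k := by group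
  rw [this]

theorem cg_inv {g : X} {H K : Subgroup X} (h : cg g H = K) : cg g⁻¹ K = H := by
  rw [← h, ← cg_mul, inv_mul_cancel]
  ext a
  rw [mem_cg]
  simp

structure CH (T : Subgroup X) (x : Ω) (V : Set Ω) (Ls : Set (Subgroup X)) : Prop where
  syl : IsSyl T ⊤
  card : V.ncard = 3
  mem : x ∈ V
  U : ∀ P, IsMinPar T P → (∀ g ∈ P, g • x = x) ∨
    ((∀ g ∈ P, ∀ v ∈ V, g • v ∈ V) ∧ ∀ v ∈ V, ∃ g ∈ P, g • x = v)
  nor : ∀ g ∈ normalizer (T : Set X), g • x = x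
  com : ∀ L ∈ Ls, ∀ L' ∈ Ls, L ≠ L' → ∀ a ∈ L, ∀ b ∈ L', a * b = b * a
  cen : ∀ L ∈ Ls, ∀ a ∈ L, (∀ b ∈ L, a * b = b * a) → a = 1
  perf : ∀ L ∈ Ls, L ≤ ⁅L, L⁆
  conj : ∀ L ∈ Ls, ∀ g : X, cg g L ∈ Ls
  trans : ∀ L ∈ Ls, ∀ L' ∈ Ls, ∃ t ∈ T, cg t L = L'
  gen : sSup Ls ⊔ T = ⊤

/-- the others -/
def CC (Ls : Set (Subgroup X)) (L : Subgroup X) : Subgroup X := sSup (Ls \ {L})

/-- products of two subgroups, one normalises the other -/
theorem exists_mul {A B : Subgroup X} (h : ∀ a ∈ A, ∀ b ∈ B, a * b * a⁻¹ ∈ B) {g : X} (hg : g ∈ A ⊔ B) :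
    ∃ a ∈ A, ∃ b ∈ B, a * b = g := by
  let D : Subgroup X :=
    { carrier := {g | ∃ a ∈ A, ∃ b ∈ B, a * b = g}
      mul_mem' := by
        rintro _ _ ⟨a, ha, b, hb, rfl⟩ ⟨c, hc, d, hd, rfl⟩
        refine ⟨a * c, mul_mem ha hc, c⁻¹ * b * c * d, mul_mem ?_ hd, by group⟩
        have := h c⁻¹ (inv_mem hc) b hb
        rwa [inv_inv] at this
      one_mem' := ⟨1, one_mem _, 1, one_mem _, by group⟩
      inv_mem' := by
        rintro _ ⟨a, ha, b, hb, rfl⟩
        exact ⟨a⁻¹, inv_mem ha, a * b⁻¹ * a⁻¹, h a ha _ (inv_mem hb), by group⟩ }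
  have h1 : A ⊔ B ≤ D := sup_le (fun a ha => ⟨a, ha, 1, one_mem _, by group⟩)
    (fun b hb => ⟨1, one_mem _, b, hb, by group⟩)
  exact h1 hg

namespace CH

variable {T : Subgroup X} {x : Ω} {V : Set Ω} {Ls : Set (Subgroup X)} {L L' Y Z Y0 P A : Subgroup X} {a b c g s t y z : X}
  {v w : Ω}

section NoFin

variable (h : CH T x V Ls)

include h

theorem fixT (ht : t ∈ T) : t • x = x := h.nor t (le_normalizer ht)

theorem CC_comm (hL : L ∈ Ls) (ha : a ∈ L) (hc : c ∈ CC Ls L) : a * c = c * a := by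
  have h1 : CC Ls L ≤ centralizer {a} := sSup_le fun M hM b hb => by
    rw [mem_centralizer_singleton_iff]
    exact (h.com L hL M hM.1 (fun e => hM.2 e.symm) a ha b hb).symm
  exact (mem_centralizer_singleton_iff.1 (h1 hc)).symm

theorem inf_CC (hL : L ∈ Ls) (ha : a ∈ L) (hc : a ∈ CC Ls L) : a = 1 :=
  h.cen L hL a ha fun b hb => (h.CC_comm hL hb hc).symm

omit h in
theorem CC_le : CC Ls L ≤ sSup Ls := sSup_le_sSup Set.sdiff_subset

omit h in
theorem le_CC (hL' : L' ∈ Ls) (hne : L' ≠ L) : L' ≤ CC Ls L := le_sSup ⟨hL', hne⟩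

theorem uniq (hL : L ∈ Ls) (ha : a ∈ L) (hc : c ∈ CC Ls L) (hb : b ∈ L) (hg : g ∈ CC Ls L) (he : a * c = b * g) :
    a = b ∧ c = g := by
  have h1 : b⁻¹ * a = g * c⁻¹ := by
    calc b⁻¹ * a = b⁻¹ * (a * c) * c⁻¹ := by group
      _ = g * c⁻¹ := by rw [he]; group
  have h2 := h.inf_CC hL (mul_mem (inv_mem hb) ha) (by rw [h1]; exact mul_mem hg (inv_mem hc))
  have h3 : a = b := (inv_mul_eq_one.1 h2).symm
  refine ⟨h3, ?_⟩
  rw [h3] at he
  exact mul_left_cancel he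

/-- elements of `Y × C` -/
theorem mem_YC (hL : L ∈ Ls) (hY : Y ≤ L) : g ∈ Y ⊔ CC Ls L ↔ ∃ y ∈ Y, ∃ c ∈ CC Ls L, y * c = g := by
  constructor
  · intro hg
    exact exists_mul (fun a ha b hb => by rw [h.CC_comm hL (hY ha) hb]; simpa using hb) hg
  · rintro ⟨y, hy, c, hc, rfl⟩
    exact mul_mem ((le_sup_left : Y ≤ Y ⊔ CC Ls L) hy) ((le_sup_right : CC Ls L ≤ Y ⊔ CC Ls L) hc)

omit h in
theorem E_le (L : Subgroup X) : sSup Ls ≤ L ⊔ CC Ls L := sSup_le fun M hM => by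
  by_cases h1 : M = L
  · rw [h1]; exact le_sup_left
  · exact (le_CC hM h1).trans le_sup_right

theorem mem_E (hL : L ∈ Ls) (hg : g ∈ sSup Ls) : ∃ a ∈ L, ∃ c ∈ CC Ls L, a * c = g :=
  (h.mem_YC hL le_rfl).1 (E_le L hg)

theorem YC_le_E (hL : L ∈ Ls) (hY : Y ≤ L) : Y ⊔ CC Ls L ≤ sSup Ls := sup_le (hY.trans (le_sSup hL)) CC_le

/-- `Y C ∩ L = Y` -/
theorem mem_of_YC (hL : L ∈ Ls) (hY : Y ≤ L) (hg : g ∈ Y ⊔ CC Ls L) (ha : a ∈ L) (hc : c ∈ CC Ls L)
    (he : a * c = g) : a ∈ Y := by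
  obtain ⟨y, hy, d, hd, h1⟩ := (h.mem_YC hL hY).1 hg
  have h2 := (h.uniq hL ha hc (hY hy) hd (he.trans h1.symm)).1
  rw [h2]; exact hy

theorem E_conj (hg : g ∈ sSup Ls) (k : X) : k * g * k⁻¹ ∈ sSup Ls := by
  have h1 : sSup Ls ≤ cg k⁻¹ (sSup Ls) := sSup_le fun M hM b hb => by
    rw [mem_cg, inv_inv]
    exact (le_sSup (h.conj M hM k) : cg k M ≤ sSup Ls) (conj_mem_cg hb)
  have h2 := h1 hg
  rwa [mem_cg, inv_inv] at h2

theorem CC_conj (hc : c ∈ CC Ls L) (k : X) : k * c * k⁻¹ ∈ CC Ls (cg k L) := by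
  have h1 : CC Ls L ≤ cg k⁻¹ (CC Ls (cg k L)) := sSup_le fun M hM b hb => by
    rw [mem_cg, inv_inv]
    refine (le_CC (h.conj M hM.1 k) ?_ : cg k M ≤ CC Ls (cg k L)) (conj_mem_cg hb)
    intro h3
    apply hM.2
    have h4 := cg_inv h3
    rw [← cg_mul, inv_mul_cancel] at h4
    rw [Set.mem_singleton_iff, ← h4]
    ext a
    rw [mem_cg]
    simp
  have h2 := h1 hc
  rwa [mem_cg, inv_inv] at h2

/-- `E` normalises `L` -/
theorem E_norm (hL : L ∈ Ls) (hg : g ∈ sSup Ls) (ha : a ∈ L) : g * a * g⁻¹ ∈ L := by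
  obtain ⟨b, hb, c, hc, rfl⟩ := h.mem_E hL hg
  have h1 : b * c * a * (b * c)⁻¹ = b * a * b⁻¹ := by
    calc b * c * a * (b * c)⁻¹ = b * (c * a) * c⁻¹ * b⁻¹ := by group
      _ = b * a * b⁻¹ := by rw [← h.CC_comm hL ha hc]; group
  rw [h1]
  exact mul_mem (mul_mem hb ha) (inv_mem hb)

/-- components of an element -/
theorem dec_aux {H : Subgroup X} (Fs : Set (Subgroup X)) (hfin : Fs.Finite) :
    Fs ⊆ Ls → ∀ g, g ∈ sSup Fs → (∀ L ∈ Fs, ∃ a ∈ L, a ∈ H ∧ a⁻¹ * g ∈ CC Ls L) → g ∈ H := by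
  induction Fs, hfin using Set.Finite.induction_on with
  | empty =>
    intro _ g hg _
    rw [sSup_empty, mem_bot] at hg
    rw [hg]; exact one_mem _
  | @insert L Fs hLF _ ih =>
    intro hsub g hg hcomp
    have hL := hsub (Set.mem_insert L Fs)
    have hsub' : Fs ⊆ Ls := (Set.subset_insert L Fs).trans hsub
    have hle : sSup Fs ≤ CC Ls L := sSup_le fun M hM => le_CC (hsub' hM) (fun e => hLF (e ▸ hM))
    rw [sSup_insert] at hg
    obtain ⟨b, hb, g', hg', h1⟩ := exists_mul (fun a ha b hb => by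
      rw [h.CC_comm hL ha (hle hb)]; simpa using hb) hg
    obtain ⟨a, ha, haH, h2⟩ := hcomp L (Set.mem_insert L Fs)
    have h3 : b * g' = a * (a⁻¹ * g) := by rw [h1]; group
    obtain ⟨h4, h5⟩ := h.uniq hL hb (hle hg') ha h2 h3
    have h6 : g' ∈ H := by
      apply ih hsub' g' hg'
      intro M hM
      obtain ⟨m, hm, hmH, h7⟩ := hcomp M (Set.mem_insert_of_mem L hM)
      refine ⟨m, hm, hmH, ?_⟩
      have hne : L ≠ M := fun e => hLF (e ▸ hM)
      have h8 : a ∈ CC Ls M := (le_CC hL hne : L ≤ CC Ls M) ha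
      have h9 : m⁻¹ * g' = a⁻¹ * (m⁻¹ * g) := by
        have h10 := h.CC_comm (hsub' hM) (inv_mem hm) (inv_mem h8)
        calc m⁻¹ * g' = m⁻¹ * a⁻¹ * g := by rw [h5]; group
          _ = a⁻¹ * (m⁻¹ * g) := by rw [h10]; group
      rw [h9]
      exact mul_mem (inv_mem h8) h7
    rw [← h1, h4]
    exact mul_mem haH h6

/-- **decomposition** : an element of `E` all components of which are in `H` is in `H` -/
theorem dec [Finite X] {H : Subgroup X} (hg : g ∈ sSup Ls)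
    (hcomp : ∀ L ∈ Ls, ∀ a ∈ L, ∀ c ∈ CC Ls L, a * c = g → a ∈ H) : g ∈ H := by
  apply h.dec_aux Ls (Set.toFinite _) le_rfl g hg
  intro L hL
  obtain ⟨a, ha, c, hc, h1⟩ := h.mem_E hL hg
  exact ⟨a, ha, hcomp L hL a ha c hc h1, by rw [← h1]; simpa using hc⟩

/-- `pr P` : the projection of `P ∩ E` to `L` -/
def pr (hL : L ∈ Ls) (P : Subgroup X) : Subgroup X where
  carrier := {a | a ∈ L ∧ ∃ c ∈ CC Ls L, a * c ∈ P}
  mul_mem' := by
    rintro a b ⟨ha, c, hc, h1⟩ ⟨hb, d, hd, h2⟩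
    refine ⟨mul_mem ha hb, c * d, mul_mem hc hd, ?_⟩
    have h3 : a * b * (c * d) = (a * c) * (b * d) := by
      calc a * b * (c * d) = a * (b * c) * d := by group
        _ = (a * c) * (b * d) := by rw [h.CC_comm hL hb hc]; group
    rw [h3]
    exact mul_mem h1 h2
  one_mem' := ⟨one_mem _, 1, one_mem _, by rw [one_mul]; exact one_mem _⟩
  inv_mem' := by
    rintro a ⟨ha, c, hc, h1⟩
    refine ⟨inv_mem ha, c⁻¹, inv_mem hc, ?_⟩
    have h3 : a⁻¹ * c⁻¹ = (a * c)⁻¹ := by rw [h.CC_comm hL ha hc]; group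
    rw [h3]
    exact inv_mem h1

theorem mem_pr (hL : L ∈ Ls) : a ∈ h.pr hL P ↔ a ∈ L ∧ ∃ c ∈ CC Ls L, a * c ∈ P := Iff.rfl

theorem pr_le (hL : L ∈ Ls) : h.pr hL P ≤ L := fun _ ha => ha.1

theorem inf_le_pr (hL : L ∈ Ls) : P ⊓ L ≤ h.pr hL P := fun a ha => ⟨ha.2, 1, one_mem _, by rw [mul_one]; exact ha.1⟩

theorem mem_pr_of (hL : L ∈ Ls) (hg : g ∈ P) (ha : a ∈ L) (hc : c ∈ CC Ls L) (he : a * c = g) : a ∈ h.pr hL P :=
  ⟨ha, c, hc, by rw [he]; exact hg⟩

end NoFin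

end CH

end Cfsg.Agent.Omega.KL

end

section


/-!
# CARD #18791 [A], THEOREM KL, LEMMA COMP : the Sylow facts, `Y*`, the movers (helper185)
-/

set_option autoImplicit false
set_option linter.unusedSectionVars false
set_option linter.unusedVariables false
set_option linter.style.haveILetI false

namespace Cfsg.Agent.Omega.KL

open Subgroup Cfsg Cfsg.Agent.StdEven.Syl Cfsg.Agent.MinSimple.MinParabolic

open scoped Pointwise

variable {X : Type*} [Group X] {Ω : Type*} [MulAction X Ω]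

/-- a point of a 3-set -/
theorem third {V : Set Ω} (hV : V.ncard = 3) {a b c d : Ω} (ha : a ∈ V) (hb : b ∈ V) (hc : c ∈ V) (hd : d ∈ V)
    (hab : a ≠ b) (hac : a ≠ c) (hbc : b ≠ c) : d = a ∨ d = b ∨ d = c := by
  have hfin : V.Finite := Set.finite_of_ncard_ne_zero (by rw [hV]; norm_num)
  have h1 : ({a, b, c} : Set Ω) ⊆ V := by
    intro z hz
    simp only [Set.mem_insert_iff, Set.mem_singleton_iff] at hz
    rcases hz with rfl | rfl | rfl <;> assumption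
  have h2 : ({a, b, c} : Set Ω).ncard = 3 := Set.ncard_eq_three.2 ⟨a, b, c, hab, hac, hbc, rfl⟩
  have h3 : ({a, b, c} : Set Ω) = V := Set.eq_of_subset_of_ncard_le h1 (by rw [hV, h2]) hfin
  rw [← h3] at hd
  simpa using hd

/-- `A T` for `T`-invariant `A` -/
theorem exists_mul_T {A T : Subgroup X} (hA : ∀ t ∈ T, ∀ a ∈ A, t * a * t⁻¹ ∈ A) {g : X} (hg : g ∈ A ⊔ T) :
    ∃ a ∈ A, ∃ t ∈ T, a * t = g := by
  rw [sup_comm] at hg
  obtain ⟨t, ht, a, ha, h1⟩ := exists_mul hA hg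
  exact ⟨t * a * t⁻¹, hA t ht a ha, t, ht, by rw [← h1]; group⟩

namespace CH

variable {T : Subgroup X} {x : Ω} {V : Set Ω} {Ls : Set (Subgroup X)} {L L' Y Z Y0 P A : Subgroup X} {a b c g s t y z : X}
  {v w : Ω}

/-- `Y*` -/
def st (T : Subgroup X) (Ls : Set (Subgroup X)) (L Y : Subgroup X) : Subgroup X where
  carrier := {g | ∀ t ∈ T, t⁻¹ * g * t ∈ Y ⊔ CC Ls L}
  mul_mem' := by
    intro a b ha hb t ht
    have : t⁻¹ * (a * b) * t = (t⁻¹ * a * t) * (t⁻¹ * b * t) := by group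
    rw [this]
    exact mul_mem (ha t ht) (hb t ht)
  one_mem' := by
    intro t ht
    have : t⁻¹ * 1 * t = 1 := by group
    rw [this]
    exact one_mem _
  inv_mem' := by
    intro a ha t ht
    have : t⁻¹ * a⁻¹ * t = (t⁻¹ * a * t)⁻¹ := by group
    rw [this]
    exact inv_mem (ha t ht)

theorem mem_st : g ∈ st T Ls L Y ↔ ∀ t ∈ T, t⁻¹ * g * t ∈ Y ⊔ CC Ls L := Iff.rfl

theorem st_conj (ht : t ∈ T) (hg : g ∈ st T Ls L Y) : t * g * t⁻¹ ∈ st T Ls L Y := by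
  intro s hs
  have h1 := hg (t⁻¹ * s) (mul_mem (inv_mem ht) hs)
  have h2 : (t⁻¹ * s)⁻¹ * g * (t⁻¹ * s) = s⁻¹ * (t * g * t⁻¹) * s := by group
  rwa [h2] at h1

theorem st_le : st T Ls L Y ≤ Y ⊔ CC Ls L := by
  intro g hg
  have h1 := hg 1 (one_mem _)
  simpa using h1

theorem st_mono (h : Y ≤ Z) : st T Ls L Y ≤ st T Ls L Z := fun g hg t ht =>
  (sup_le_sup_right h (CC Ls L) : Y ⊔ CC Ls L ≤ Z ⊔ CC Ls L) (hg t ht)

/-- `Y` is invariant under `N_T(L)` -/
def Inv (T L Y : Subgroup X) : Prop := ∀ t ∈ T, cg t L = L → ∀ y ∈ Y, t * y * t⁻¹ ∈ Y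

section NoFin

variable (h : CH T x V Ls)

include h

theorem st_le_E (hL : L ∈ Ls) (hY : Y ≤ L) : st T Ls L Y ≤ sSup Ls := st_le.trans (h.YC_le_E hL hY)

theorem st_inf (hL : L ∈ Ls) (hY : Y ≤ L) (hg : g ∈ st T Ls L Y) (hgL : g ∈ L) : g ∈ Y :=
  h.mem_of_YC hL hY (st_le hg) hgL (one_mem (CC Ls L)) (mul_one g)

theorem st_comp (hL : L ∈ Ls) (hY : Y ≤ L) (hg : g ∈ st T Ls L Y) (ha : a ∈ L) (hc : c ∈ CC Ls L) (he : a * c = g) :
    a ∈ Y := h.mem_of_YC hL hY (st_le hg) ha hc he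

/-- `Y ≤ Y*` -/
theorem le_st (hL : L ∈ Ls) (hY : Y ≤ L) (hi : Inv T L Y) : Y ≤ st T Ls L Y := by
  intro y hy t ht
  by_cases h1 : cg t⁻¹ L = L
  · have h2 := hi t⁻¹ (inv_mem ht) h1 y hy
    rw [inv_inv] at h2
    exact (le_sup_left : Y ≤ Y ⊔ CC Ls L) h2
  · have h2 : t⁻¹ * y * t⁻¹⁻¹ ∈ cg t⁻¹ L := conj_mem_cg (hY hy)
    rw [inv_inv] at h2
    exact (le_sup_right : CC Ls L ≤ Y ⊔ CC Ls L) (le_CC (h.conj L hL t⁻¹) h1 h2)

/-- `[Y*, Y*] ≤ Y₀*` -/
theorem st_comm (hL : L ∈ Ls) (hY : Y ≤ L) (hYY : ∀ a ∈ Y, ∀ b ∈ Y, a * b * a⁻¹ * b⁻¹ ∈ Y0)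
    (ha : a ∈ st T Ls L Y) (hb : b ∈ st T Ls L Y) : a * b * a⁻¹ * b⁻¹ ∈ st T Ls L Y0 := by
  intro t ht
  obtain ⟨y, hy, c, hc, h1⟩ := (h.mem_YC hL hY).1 (ha t ht)
  obtain ⟨z, hz, d, hd, h2⟩ := (h.mem_YC hL hY).1 (hb t ht)
  have h3 : t⁻¹ * (a * b * a⁻¹ * b⁻¹) * t = (y * z * y⁻¹ * z⁻¹) * (c * d * c⁻¹ * d⁻¹) := by
    have e1 : y * c = c * y := h.CC_comm hL (hY hy) hc
    have e2 : z * c = c * z := h.CC_comm hL (hY hz) hc
    have e3 : y⁻¹ * d = d * y⁻¹ := h.CC_comm hL (inv_mem (hY hy)) hd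
    have e4 : z⁻¹ * (c * d * c⁻¹ * d⁻¹) = (c * d * c⁻¹ * d⁻¹) * z⁻¹ :=
      h.CC_comm hL (inv_mem (hY hz)) (mul_mem (mul_mem (mul_mem hc hd) (inv_mem hc)) (inv_mem hd))
    have e5 : y⁻¹ * (c * d * c⁻¹) = (c * d * c⁻¹) * y⁻¹ :=
      h.CC_comm hL (inv_mem (hY hy)) (mul_mem (mul_mem hc hd) (inv_mem hc))
    calc t⁻¹ * (a * b * a⁻¹ * b⁻¹) * t
        = (t⁻¹ * a * t) * (t⁻¹ * b * t) * (t⁻¹ * a * t)⁻¹ * (t⁻¹ * b * t)⁻¹ := by group
      _ = (y * c) * (z * d) * (y * c)⁻¹ * (z * d)⁻¹ := by rw [h1, h2]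
      _ = y * (c * z) * d * c⁻¹ * y⁻¹ * d⁻¹ * z⁻¹ := by group
      _ = y * z * ((c * d * c⁻¹) * y⁻¹) * d⁻¹ * z⁻¹ := by rw [← e2]; group
      _ = y * z * y⁻¹ * ((c * d * c⁻¹ * d⁻¹) * z⁻¹) := by rw [← e5]; group
      _ = (y * z * y⁻¹ * z⁻¹) * (c * d * c⁻¹ * d⁻¹) := by rw [← e4]; group
  rw [h3]
  exact mul_mem ((le_sup_left : Y0 ≤ Y0 ⊔ CC Ls L) (hYY y hy z hz))
    ((le_sup_right : CC Ls L ≤ Y0 ⊔ CC Ls L) (mul_mem (mul_mem (mul_mem hc hd) (inv_mem hc)) (inv_mem hd)))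

/-- `Y₀` fixes `x` : `Y₀*` fixes `x` -/
theorem st_fix [Finite X] (hL : L ∈ Ls) (hY : Y ≤ L) (hfix : ∀ y ∈ Y, y • x = x) (hg : g ∈ st T Ls L Y) : g • x = x := by
  have h1 : g ∈ MulAction.stabilizer X x := by
    apply h.dec (h.st_le_E hL hY hg)
    intro M hM a ha c hc h2
    obtain ⟨t, ht, h3⟩ := h.trans L hL M hM
    have h4 : cg t⁻¹ M = L := cg_inv h3
    have h5 : t⁻¹ * a * t⁻¹⁻¹ ∈ L := by rw [← h4]; exact conj_mem_cg ha
    have h6 : t⁻¹ * c * t⁻¹⁻¹ ∈ CC Ls L := by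
      have := h.CC_conj hc t⁻¹
      rwa [h4] at this
    rw [inv_inv] at h5 h6
    have h7 : t⁻¹ * a * t ∈ Y := h.mem_of_YC hL hY (hg t ht) h5 h6 (by rw [← h2]; group)
    have h8 := hfix _ h7
    rw [MulAction.mem_stabilizer_iff]
    calc a • x = t • (t⁻¹ * a * t) • t⁻¹ • x := by rw [← mul_smul, ← mul_smul]; congr 1; group
      _ = x := by rw [h.fixT (inv_mem ht), h8, h.fixT ht]
  exact h1

omit h in
theorem mem_stV [hfin : Fact (V.ncard = 3)] : g ∈ MulAction.stabilizer X V ↔ ∀ v ∈ V, g • v ∈ V := by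
  have h1 : V.Finite := Set.finite_of_ncard_ne_zero (by rw [hfin.out]; norm_num)
  rw [MulAction.mem_stabilizer_set_iff_smul_set_subset h1]
  constructor
  · intro h2 v hv
    exact h2 ⟨v, hv, rfl⟩
  · rintro h2 _ ⟨v, hv, rfl⟩
    exact h2 v hv

omit h in
theorem stV_mem (hg : g ∈ MulAction.stabilizer X V) (hv : v ∈ V) : g • v ∈ V := by
  rw [MulAction.mem_stabilizer_iff] at hg
  have h1 : g • v ∈ g • V := Set.smul_mem_smul_set hv
  rwa [hg] at h1

theorem mem_stV' : g ∈ MulAction.stabilizer X V ↔ ∀ v ∈ V, g • v ∈ V :=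
  haveI : Fact (V.ncard = 3) := ⟨h.card⟩
  mem_stV

/-- a mover preserves `V` -/
theorem mover_le (hP : IsMinPar T P) (hm : ∃ g ∈ P, g • x ≠ x) : P ≤ MulAction.stabilizer X V := by
  rcases h.U P hP with h1 | ⟨h1, -⟩
  · obtain ⟨g, hg, h2⟩ := hm
    exact absurd (h1 g hg) h2
  · intro g hg
    exact h.mem_stV'.2 fun v hv => h1 g hg v hv

theorem mover_trans (hP : IsMinPar T P) (hm : ∃ g ∈ P, g • x ≠ x) (hv : v ∈ V) : ∃ g ∈ P, g • x = v := by
  rcases h.U P hP with h1 | ⟨-, h1⟩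
  · obtain ⟨g, hg, h2⟩ := hm
    exact absurd (h1 g hg) h2
  · exact h1 v hv

theorem T_norm (hg : g ∈ A) (ht : t ∈ T) (hTA : T ≤ A) : t * g * t⁻¹ ∈ A :=
  mul_mem (mul_mem (hTA ht) hg) (inv_mem (hTA ht))

/-- a mover in `A T` -/
theorem exists_mover [Finite X] (hA : ∀ t ∈ T, ∀ a ∈ A, t * a * t⁻¹ ∈ A) (hm : ∃ a ∈ A, a • x ≠ x) :
    ∃ P, IsMinPar T P ∧ P ≤ A ⊔ T ∧ ∃ g ∈ P, g • x ≠ x := by
  by_contra hcon
  push Not at hcon
  have h1 : A ⊔ T ≤ MulAction.stabilizer X x := by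
    apply le_of_forall (S := T) le_sup_right
    · intro g hg
      exact h.nor g hg.2
    · intro P hP hPA g hg
      exact hcon P hP hPA g hg
  obtain ⟨a, ha, h2⟩ := hm
  exact h2 (h1 ((le_sup_left : A ≤ A ⊔ T) ha))

/-- the orbit of `x` under `P ∩ A` is `V` -/
theorem mover_elt (hA : ∀ t ∈ T, ∀ a ∈ A, t * a * t⁻¹ ∈ A) (hP : IsMinPar T P) (hPA : P ≤ A ⊔ T)
    (hm : ∃ g ∈ P, g • x ≠ x) (hv : v ∈ V) : ∃ a ∈ A, a ∈ P ∧ a • x = v := by
  obtain ⟨g, hg, h1⟩ := h.mover_trans hP hm hv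
  obtain ⟨a, ha, t, ht, h2⟩ := exists_mul_T hA (hPA hg)
  have h3 : a = g * t⁻¹ := by rw [← h2]; group
  refine ⟨a, ha, ?_, ?_⟩
  · rw [h3]; exact mul_mem hg (inv_mem (hP.le ht))
  · rw [h3, mul_smul, h.fixT (inv_mem ht), h1]

theorem exists_elt [Finite X] (hA : ∀ t ∈ T, ∀ a ∈ A, t * a * t⁻¹ ∈ A) (hm : ∃ a ∈ A, a • x ≠ x) (hv : v ∈ V) :
    ∃ a ∈ A, a • x = v := by
  obtain ⟨P, hP, hPA, hm'⟩ := h.exists_mover hA hm
  obtain ⟨a, ha, -, h1⟩ := h.mover_elt hA hP hPA hm' hv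
  exact ⟨a, ha, h1⟩

theorem gen' (g : X) : ∃ e ∈ sSup Ls, ∃ t ∈ T, e * t = g :=
  exists_mul_T (fun t _ a ha => h.E_conj ha t) (by rw [h.gen]; exact mem_top g)

/-- `T` preserves `V` -/
theorem T_le_stV [Finite X] (hx : ∃ g : X, g • x ≠ x) : T ≤ MulAction.stabilizer X V := by
  obtain ⟨g, hg⟩ := hx
  obtain ⟨P, hP, -, hm⟩ := h.exists_mover (A := ⊤) (fun _ _ _ _ => mem_top _) ⟨g, mem_top g, hg⟩
  exact hP.le.trans (h.mover_le hP hm)

/-- **(G)** -/
theorem le_stV [Finite X] (hx : ∃ g : X, g • x ≠ x) (hA : ∀ t ∈ T, ∀ a ∈ A, t * a * t⁻¹ ∈ A)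
    (hW : ∀ W ≤ A, (∀ w ∈ W, w • x = x) → W ≤ MulAction.stabilizer X V) : A ≤ MulAction.stabilizer X V := by
  have hR : ∀ R : Subgroup X, T ≤ R → R ≤ A ⊔ T → (∀ g ∈ R, g • x = x) → R ≤ MulAction.stabilizer X V := by
    intro R hTR hRA hfix g hg
    obtain ⟨a, ha, t, ht, h2⟩ := exists_mul_T hA (hRA hg)
    have h3 : a ∈ R := by
      have : a = g * t⁻¹ := by rw [← h2]; group
      rw [this]; exact mul_mem hg (inv_mem (hTR ht))
    rw [← h2]
    exact mul_mem (hW (R ⊓ A) inf_le_right (fun w hw => hfix w hw.1) ⟨h3, ha⟩) (h.T_le_stV hx ht)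
  refine le_trans le_sup_left (le_of_forall (S := T) (X := A ⊔ T) le_sup_right ?_ ?_)
  · exact hR _ (le_inf le_sup_right le_normalizer) inf_le_left fun g hg => h.nor g hg.2
  · intro P hP hPA
    by_cases hm : ∃ g ∈ P, g • x ≠ x
    · exact h.mover_le hP hm
    · push Not at hm
      exact hR P hP.le hPA hm

end NoFin

section Fin

variable [Finite X] (h : CH T x V Ls)

include h

theorem sylE : IsSyl (T ⊓ sSup Ls) (sSup Ls) :=
  h.syl.inf_normal le_top fun g _ => mem_normalizer_of_conj_le fun a ha => h.E_conj ha g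

theorem sylL (hL : L ∈ Ls) : IsSyl (T ⊓ L) L := by
  have h1 := h.sylE.inf_normal (le_sSup hL) fun g hg => mem_normalizer_of_conj_le fun a ha => h.E_norm hL hg ha
  have h2 : T ⊓ sSup Ls ⊓ L = T ⊓ L := by
    rw [inf_assoc, inf_eq_right.2 (le_sSup hL)]
  rwa [h2] at h1

theorem prT (hL : L ∈ Ls) : h.pr hL T = T ⊓ L := by
  apply (h.sylL hL).max
  · rw [IsPGroup]
    rintro ⟨a, ha, c, hc, hac⟩
    obtain ⟨k, hk⟩ := h.syl.two ⟨a * c, hac⟩
    refine ⟨k, Subtype.ext ?_⟩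
    have h1 : (a * c) ^ 2 ^ k = 1 := congrArg Subtype.val hk
    have h2 : Commute a c := h.CC_comm hL ha hc
    rw [h2.mul_pow] at h1
    show a ^ 2 ^ k = 1
    apply h.inf_CC hL (pow_mem ha _)
    have h3 : a ^ 2 ^ k = (c ^ 2 ^ k)⁻¹ := eq_inv_of_mul_eq_one_left h1
    rw [h3]
    exact inv_mem (pow_mem hc _)
  · exact h.pr_le hL
  · exact h.inf_le_pr hL

theorem TE_comp (hL : L ∈ Ls) (hg : g ∈ T) (ha : a ∈ L) (hc : c ∈ CC Ls L) (he : a * c = g) : a ∈ T ⊓ L := by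
  rw [← h.prT hL]
  exact h.mem_pr_of hL hg ha hc he

/-- `T ∩ E ≤ Y*` -/
theorem TE_le_st (hL : L ∈ Ls) (hY : T ⊓ L ≤ Y) : T ⊓ sSup Ls ≤ st T Ls L Y := by
  rintro g ⟨hg, hgE⟩ t ht
  have h1 : t⁻¹ * g * t ∈ sSup Ls := by
    have := h.E_conj hgE t⁻¹
    rwa [inv_inv] at this
  obtain ⟨a, ha, c, hc, h2⟩ := h.mem_E hL h1
  rw [← h2]
  exact mul_mem ((le_sup_left : Y ≤ Y ⊔ CC Ls L) (hY (h.TE_comp hL (mul_mem (mul_mem (inv_mem ht) hg) ht) ha hc h2)))
    ((le_sup_right : CC Ls L ≤ Y ⊔ CC Ls L) hc)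

end Fin

end CH

end Cfsg.Agent.Omega.KL

end

section


/-!
# CARD #18791 [A], THEOREM KL (helper969, #21261 (3)), LEMMA COMP (helper185)

`CH.main` : `X` acts on the set `Ω`, `T` Sylow, `x ∈ V ⊆ Ω`, `|V| = 3`; every minimal parabolic `P` over `T` fixes `x` or has
orbit `V` on `x`; `N_X(T)` fixes `x`; `Ls` is an `X`-invariant set of perfect subgroups with trivial centre which commute
pairwise, `T` is transitive on it, `⟨Ls⟩ T = X`. **Then `X` fixes `x` or `|Ls| ≤ 1`.**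
-/

set_option autoImplicit false
set_option linter.unusedSectionVars false
set_option linter.unusedVariables false
set_option linter.style.haveILetI false

namespace Cfsg.Agent.Omega.KL

open Subgroup Cfsg Cfsg.Agent.StdEven.Syl Cfsg.Agent.MinSimple.MinParabolic

open scoped Pointwise

variable {X : Type*} [Group X] {Ω : Type*} [MulAction X Ω]

namespace CH

variable {T : Subgroup X} {x : Ω} {V : Set Ω} {Ls : Set (Subgroup X)} {L L' Y Z Y0 P A : Subgroup X} {a b c g s t y z : X}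
  {v w : Ω}

variable [Finite X] (h : CH T x V Ls)

include h

/-- (3.1) (a) : `T ∩ L` fixes `V` pointwise -/
theorem TL_fix (hL : L ∈ Ls) (hL' : L' ∈ Ls) (hne : L' ≠ L) (hx : ∃ g : X, g • x ≠ x) (hs : s ∈ T ⊓ L) (hv : v ∈ V) :
    s • v = v := by
  by_contra hsv
  obtain ⟨t, ht, h1⟩ := h.trans L hL L' hL'
  have hTV := h.T_le_stV hx
  have hsV := hTV hs.1
  have htV := hTV ht
  have hvx : v ≠ x := fun e => hsv (by rw [e]; exact h.fixT hs.1)
  have hwV : s • v ∈ V := stV_mem hsV hv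
  have hwx : s • v ≠ x := fun e => hvx (by
    have : v = s⁻¹ • s • v := (inv_smul_smul s v).symm
    rw [this, e]; exact h.fixT (inv_mem hs.1))
  -- the third point
  have h3 : ∀ u ∈ V, u ≠ x → u = v ∨ u = s • v := by
    intro u hu hux
    rcases third h.card h.mem hv hwV hu hvx.symm hwx.symm (Ne.symm hsv) with h4 | h4
    · exact absurd h4 hux
    · exact h4
  have hssv : s • s • v = v := by
    rcases h3 (s • s • v) (stV_mem hsV hwV) (fun e => hwx (by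
      have : s • v = s⁻¹ • s • s • v := (inv_smul_smul s _).symm
      rw [this, e]; exact h.fixT (inv_mem hs.1))) with h4 | h4
    · exact h4
    · exact absurd (smul_left_cancel s h4) hsv
  have htx : ∀ u ∈ V, u ≠ x → t • u ≠ x := fun u _ hux e => hux (by
    have : u = t⁻¹ • t • u := (inv_smul_smul t u).symm
    rw [this, e]; exact h.fixT (inv_mem ht))
  -- s' = t s t⁻¹ moves v to s v
  have hs' : (t * s * t⁻¹) • v = s • v := by
    have h5 : t • v = v ∨ t • v = s • v := h3 _ (stV_mem htV hv) (htx v hv hvx)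
    have h6 : t • s • v = v ∨ t • s • v = s • v := h3 _ (stV_mem htV hwV) (htx _ hwV hwx)
    rcases h5 with h5 | h5
    · have h7 : t⁻¹ • v = v := by rw [inv_smul_eq_iff]; exact h5.symm
      rw [mul_smul, mul_smul, h7]
      rcases h6 with h6 | h6
      · exact absurd (smul_left_cancel t (h6.trans h5.symm)) hsv
      · exact h6
    · have h6' : t • s • v = v := by
        rcases h6 with h6 | h6
        · exact h6
        · exact absurd (smul_left_cancel t (h6.trans h5.symm)) hsv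
      have h7 : t⁻¹ • v = s • v := by rw [inv_smul_eq_iff]; exact h6'.symm
      rw [mul_smul, mul_smul, h7, hssv, h5]
  -- e ∈ P ∩ E, e x = v
  obtain ⟨P, hP, hPE, hm⟩ := h.exists_mover (A := sSup Ls) (fun t _ a ha => h.E_conj ha t) (by
    by_contra hcon
    push Not at hcon
    obtain ⟨g, hg⟩ := hx
    obtain ⟨e, he, t, ht, h8⟩ := h.gen' g
    apply hg
    rw [← h8, mul_smul, h.fixT ht, hcon e he])
  obtain ⟨e, he, heP, hev⟩ := h.mover_elt (fun t _ a ha => h.E_conj ha t) hP hPE hm hv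
  have heV := h.mover_le hP hm heP
  -- k = e s e⁻¹ ∈ L fixes v
  have hkL : e * s * e⁻¹ ∈ L := h.E_norm hL he hs.2
  have hkv : (e * s * e⁻¹) • v = v := by
    have : e⁻¹ • v = x := by rw [inv_smul_eq_iff]; exact hev.symm
    rw [mul_smul, mul_smul, this, h.fixT hs.1, hev]
  have hs'L : t * s * t⁻¹ ∈ L' := by rw [← h1]; exact conj_mem_cg hs.2
  have hcomm := h.com L hL L' hL' (Ne.symm hne) _ hkL _ hs'L
  have hkw : (e * s * e⁻¹) • s • v = s • v := by
    rw [← hs', ← mul_smul, hcomm, mul_smul, hkv]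
  have hkV : e * s * e⁻¹ ∈ MulAction.stabilizer X V := mul_mem (mul_mem heV hsV) (inv_mem heV)
  have hkx : (e * s * e⁻¹) • x = x := by
    rcases third h.card h.mem hv hwV (stV_mem hkV h.mem) hvx.symm hwx.symm (Ne.symm hsv) with h4 | h4 | h4
    · exact h4
    · exact absurd (smul_left_cancel (e * s * e⁻¹) (h4.trans hkv.symm)) hvx.symm
    · exact absurd (smul_left_cancel (e * s * e⁻¹) (h4.trans hkw.symm)) hwx.symm
  have hk : ∀ u ∈ V, (e * s * e⁻¹) • u = u := by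
    intro u hu
    rcases third h.card h.mem hv hwV hu hvx.symm hwx.symm (Ne.symm hsv) with h4 | h4 | h4
    · rw [h4]; exact hkx
    · rw [h4]; exact hkv
    · rw [h4]; exact hkw
  apply hsv
  have h9 := hk (e • v) (stV_mem heV hv)
  rw [mul_smul, mul_smul, inv_smul_smul] at h9
  exact smul_left_cancel e h9

/-- (3.1) (b) : the elements of `E` in a mover normalise `T ∩ L` -/
theorem mover_norm (hL : L ∈ Ls) (hL' : L' ∈ Ls) (hne : L' ≠ L) (hP : IsMinPar T P) (hm : ∃ g ∈ P, g • x ≠ x)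
    (hg : g ∈ P) (hgE : g ∈ sSup Ls) (hs : s ∈ T ⊓ L) : g * s * g⁻¹ ∈ T ⊓ L := by
  haveI : Fact (Nat.Prime 2) := ⟨Nat.prime_two⟩
  have hx : ∃ g : X, g • x ≠ x := by
    obtain ⟨g, -, h1⟩ := hm
    exact ⟨g, h1⟩
  have hPV := h.mover_le hP hm
  -- the pointwise stabiliser of `V` in `P`
  let N : Subgroup X :=
    { carrier := {g | g ∈ P ∧ ∀ v ∈ V, g • v = v}
      mul_mem' := fun {a b} ha hb => ⟨mul_mem ha.1 hb.1, fun v hv => by rw [mul_smul, hb.2 v hv, ha.2 v hv]⟩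
      one_mem' := ⟨one_mem _, fun v _ => one_smul _ v⟩
      inv_mem' := fun {a} ha => ⟨inv_mem ha.1, fun v hv => by rw [inv_smul_eq_iff]; exact (ha.2 v hv).symm⟩ }
  have hN : ∀ n, n ∈ N ↔ n ∈ P ∧ ∀ v ∈ V, n • v = v := fun n => Iff.rfl
  have hNP : N ≤ P := fun n hn => hn.1
  have hPN : P ≤ normalizer (N : Set X) := by
    intro p hp
    apply mem_normalizer_of_conj_le
    intro n hn
    refine ⟨mul_mem (mul_mem hp hn.1) (inv_mem hp), fun v hv => ?_⟩
    rw [mul_smul, mul_smul, hn.2 _ (stV_mem (inv_mem (hPV hp)) hv), smul_inv_smul]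
  have hodd : ¬ 2 ∣ T.relIndex P := by
    have h1 := (h.syl.mono hP.le le_top).odd_relIndex
    rw [← Nat.not_even_iff_odd, even_iff_two_dvd] at h1
    exact h1
  rcases hP.sup_eq_or_inf_le (p := 2) h.syl.two hodd hNP hPN with h1 | h1
  · exfalso
    obtain ⟨g, hg, h2⟩ := hm
    have h3 : P ≤ MulAction.stabilizer X x := by
      rw [← h1]
      exact sup_le (fun n hn => hn.2 x h.mem) (fun t ht => h.fixT ht)
    exact h2 (h3 hg)
  · have h2 : s ∈ (pCore 2 P).map P.subtype := h1 ⟨hs.1, hP.le hs.1, fun v hv => h.TL_fix hL hL' hne hx hs hv⟩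
    obtain ⟨s', hs', h3⟩ := h2
    have h4 : (⟨g, hg⟩ : P) * s' * (⟨g, hg⟩ : P)⁻¹ ∈ pCore 2 P := (inferInstance : (pCore 2 P).Normal).conj_mem s' hs' _
    have h5 : g * s * g⁻¹ ∈ (pCore 2 P).map P.subtype := ⟨_, h4, by rw [← h3]; rfl⟩
    have h6 : (pCore 2 P).map P.subtype ≤ T := by
      rintro _ ⟨q, hq, rfl⟩
      have h7 := Lib.Cores.pCore_le_sylow (h.syl.mono hP.le le_top).toSylow hq
      rw [IsSyl.coe_toSylow] at h7
      exact h7
    exact ⟨h6 h5, h.E_norm hL hgE hs.2⟩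

/-- `S₁ = T ∩ L` and the subgroups `Y` of `L` over `S₁` -/
theorem inv_TL : Inv T L (T ⊓ L) := by
  intro t ht h1 y hy
  refine ⟨T.mul_mem (T.mul_mem ht hy.1) (T.inv_mem ht), ?_⟩
  have h2 : t * y * t⁻¹ ∈ cg t L := conj_mem_cg hy.2
  rwa [h1] at h2

/-- (3.2) -/
theorem norm_of_max (hL : L ∈ Ls) (hL' : L' ∈ Ls) (hne : L' ≠ L) (hY : Y ≤ L) (hi : Inv T L Y) (hSY : T ⊓ L ≤ Y)
    (hm : ∃ y ∈ Y, y • x ≠ x) (hY0 : Y0 ≤ L) (hnot : ¬ Y ≤ Y0)
    (hmax : ∀ Z ≤ Y, T ⊓ L ≤ Z → Inv T L Z → Z ≠ Y → Z ≤ Y0) : ∀ y ∈ Y, ∀ s ∈ T ⊓ L, y * s * y⁻¹ ∈ T ⊓ L := by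
  have hSne : T ⊓ L ≠ Y := by
    intro h1
    obtain ⟨y, hy, h2⟩ := hm
    rw [← h1] at hy
    exact h2 (h.fixT hy.1)
  have hS0 : T ⊓ L ≤ Y0 := hmax _ hSY le_rfl h.inv_TL hSne
  -- the members
  have hprle : ∀ P : Subgroup X, P ≤ st T Ls L Y ⊔ T → h.pr hL P ≤ Y := by
    intro P hP a ha
    obtain ⟨haL, c, hc, hac⟩ := ha
    obtain ⟨g, hg, t, ht, h1⟩ := exists_mul_T (fun t ht a ha => st_conj ht ha) (hP hac)
    have h2 : t ∈ sSup Ls := by
      have h3 : t = g⁻¹ * (a * c) := by rw [← h1]; group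
      rw [h3]
      exact mul_mem (inv_mem (h.st_le_E hL hY hg)) (mul_mem (le_sSup hL haL) (CC_le hc))
    have h4 : a * c ∈ st T Ls L Y := by
      rw [← h1]
      exact mul_mem hg (h.TE_le_st hL hSY ⟨ht, h2⟩)
    exact h.st_comp hL hY h4 haL hc rfl
  have hprinv : ∀ P : Subgroup X, T ≤ P ∨ (∀ t ∈ T, ∀ g ∈ P, t * g * t⁻¹ ∈ P) → Inv T L (h.pr hL P) := by
    rintro P hP t ht h1 a ⟨haL, c, hc, hac⟩
    have h2 : t * a * t⁻¹ ∈ cg t L := conj_mem_cg haL
    have h3 := h.CC_conj hc t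
    rw [h1] at h2 h3
    refine ⟨h2, _, h3, ?_⟩
    have h4 : t * a * t⁻¹ * (t * c * t⁻¹) = t * (a * c) * t⁻¹ := by group
    rw [h4]
    rcases hP with hP | hP
    · exact h.T_norm hac ht hP
    · exact hP t ht _ hac
  have hprS : ∀ P : Subgroup X, T ≤ P → T ⊓ L ≤ h.pr hL P := fun P hP => (inf_le_inf_right L hP).trans (h.inf_le_pr hL)
  -- small projections
  have hsmall : ∀ P : Subgroup X, T ≤ P → P ≤ st T Ls L Y ⊔ T → h.pr hL P ≤ Y0 → P ≤ st T Ls L Y0 ⊔ T := by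
    intro P hTP hP h0 g hg
    obtain ⟨e, he, t, ht, h1⟩ := h.gen' g
    have h2 : e ∈ P := by
      have : e = g * t⁻¹ := by rw [← h1]; group
      rw [this]; exact mul_mem hg (inv_mem (hTP ht))
    have h3 : e ∈ st T Ls L Y0 := by
      intro r hr
      have h4 : r⁻¹ * e * r ∈ sSup Ls := by
        have := h.E_conj he r⁻¹
        rwa [inv_inv] at this
      have h5 : r⁻¹ * e * r ∈ P := mul_mem (mul_mem (inv_mem (hTP hr)) h2) (hTP hr)
      obtain ⟨a, ha, c, hc, h6⟩ := h.mem_E hL h4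
      rw [← h6]
      exact mul_mem ((le_sup_left : Y0 ≤ Y0 ⊔ CC Ls L) (h0 (h.mem_pr_of hL h5 ha hc h6)))
        ((le_sup_right : CC Ls L ≤ Y0 ⊔ CC Ls L) hc)
    rw [← h1]
    exact mul_mem ((le_sup_left : st T Ls L Y0 ≤ st T Ls L Y0 ⊔ T) h3)
      ((le_sup_right : T ≤ st T Ls L Y0 ⊔ T) ht)
  -- a member with projection `Y`
  have hex : ∃ P : Subgroup X, T ≤ P ∧ P ≤ st T Ls L Y ⊔ T ∧ h.pr hL P = Y ∧
      ((∀ g ∈ P, g ∈ normalizer (T : Set X)) ∨ IsMinPar T P) := by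
    by_contra hcon
    push Not at hcon
    have h1 : st T Ls L Y ⊔ T ≤ st T Ls L Y0 ⊔ T := by
      have hall : ∀ P : Subgroup X, T ≤ P → P ≤ st T Ls L Y ⊔ T →
          ((∀ g ∈ P, g ∈ normalizer (T : Set X)) ∨ IsMinPar T P) → P ≤ st T Ls L Y0 ⊔ T := by
        intro P hTP hP hor
        apply hsmall P hTP hP
        apply hmax _ (hprle P hP) (hprS P hTP) (hprinv P (Or.inl hTP))
        intro h2
        have h3 := hcon P hTP hP h2
        rcases hor with h4 | h4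
        · obtain ⟨g, hg, hg'⟩ := h3.1
          exact hg' (h4 g hg)
        · exact h3.2 h4
      apply le_of_forall (S := T) le_sup_right
      · exact hall _ (le_inf le_sup_right le_normalizer) inf_le_left (Or.inl fun g hg => hg.2)
      · intro P hP hPle
        exact hall P hP.le hPle (Or.inr hP)
    apply hnot
    intro y hy
    have h2 := h1 ((le_sup_left : st T Ls L Y ≤ st T Ls L Y ⊔ T) (h.le_st hL hY hi hy))
    obtain ⟨g, hg, t, ht, h3⟩ := exists_mul_T (fun t ht a ha => st_conj ht ha) h2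
    have h4 : t ∈ sSup Ls := by
      have h5 : t = g⁻¹ * y := by rw [← h3]; group
      rw [h5]
      exact mul_mem (inv_mem (h.st_le_E hL hY0 hg)) (le_sSup hL (hY hy))
    have h6 : y ∈ st T Ls L Y0 := by
      rw [← h3]
      exact mul_mem hg (h.TE_le_st hL hS0 ⟨ht, h4⟩)
    exact h.st_inf hL hY0 h6 (hY hy)
  obtain ⟨P, hTP, hPle, hpr, hor⟩ := hex
  have hconj : ∀ y c s : X, c ∈ CC Ls L → s ∈ L → y * s * y⁻¹ = (y * c) * s * (y * c)⁻¹ := by
    intro y c s hc hs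
    have h2 := h.CC_comm hL hs hc
    calc y * s * y⁻¹ = y * (s * c) * c⁻¹ * y⁻¹ := by group
      _ = (y * c) * s * (y * c)⁻¹ := by rw [h2]; group
  rcases hor with hN | hmin
  · intro y hy s hs
    rw [← hpr] at hy
    obtain ⟨hyL, c, hc, hyc⟩ := hy
    refine ⟨?_, L.mul_mem (L.mul_mem hyL hs.2) (L.inv_mem hyL)⟩
    rw [hconj y c s hc hs.2]
    exact conj_mem_of_mem_normalizer (hN _ hyc) hs.1
  by_cases hmov : ∃ g ∈ P, g • x ≠ x
  · intro y hy s hs
    rw [← hpr] at hy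
    obtain ⟨hyL, c, hc, hyc⟩ := hy
    rw [hconj y c s hc hs.2]
    exact h.mover_norm hL hL' hne hmin hmov hyc (mul_mem (le_sSup hL hyL) (CC_le hc)) hs
  push Not at hmov
  -- `P` fixes `x`
  have h00 : P ⊓ L ≤ Y0 := by
    apply hmax
    · rw [← hpr]; exact h.inf_le_pr hL
    · exact inf_le_inf_right L hTP
    · intro t ht h1 y hy
      refine ⟨h.T_norm hy.1 ht hTP, ?_⟩
      have h2 : t * y * t⁻¹ ∈ cg t L := conj_mem_cg hy.2
      rwa [h1] at h2
    · intro h1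
      obtain ⟨y, hy, h2⟩ := hm
      rw [← h1] at hy
      exact h2 (hmov y hy.1)
  have h00n : ∀ y ∈ Y, y ∈ normalizer ((P ⊓ L : Subgroup X) : Set X) := by
    intro y hy
    rw [← hpr] at hy
    obtain ⟨hyL, c, hc, hyc⟩ := hy
    apply mem_normalizer_of_conj_le
    intro a ha
    refine ⟨?_, L.mul_mem (L.mul_mem hyL ha.2) (L.inv_mem hyL)⟩
    rw [hconj y c a hc ha.2]
    exact P.mul_mem (P.mul_mem hyc ha.1) (P.inv_mem hyc)
  have hsyl00 : IsSyl (T ⊓ L) (P ⊓ L) := (h.sylL hL).mono (inf_le_inf_right L hTP) inf_le_right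
  -- `N_Y(S₁)`
  by_cases hNY : Y ≤ normalizer ((T ⊓ L : Subgroup X) : Set X)
  · intro y hy s hs
    exact conj_mem_of_mem_normalizer (hNY hy) hs
  · exfalso
    have h5 : Y ⊓ normalizer ((T ⊓ L : Subgroup X) : Set X) ≤ Y0 := by
      apply hmax _ inf_le_left (le_inf hSY le_normalizer)
      · intro t ht h1 y hy
        refine ⟨hi t ht h1 y hy.1, ?_⟩
        have h6 : t ∈ normalizer ((T ⊓ L : Subgroup X) : Set X) :=
          mem_normalizer_of_conj_le fun s hs => h.inv_TL t ht h1 s hs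
        exact Subgroup.mul_mem _ (Subgroup.mul_mem _ h6 hy.2) (Subgroup.inv_mem _ h6)
      · intro h1
        exact hNY (inf_eq_left.1 h1)
    apply hnot
    intro y hy
    obtain ⟨n, hn, h6⟩ := hsyl00.frattini (h00n y hy)
    have h7 : n ∈ Y := by
      have : P ⊓ L ≤ Y := by rw [← hpr]; exact h.inf_le_pr hL
      exact this hn
    have h8 : y = n⁻¹ * (n * y) := by group
    rw [h8]
    exact mul_mem (inv_mem (h00 hn)) (h5 ⟨mul_mem h7 hy, h6⟩)

/-- (PG) : `[Y, Y] ≤ Y₀` -/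
theorem comm_of_max (hL : L ∈ Ls) (hL' : L' ∈ Ls) (hne : L' ≠ L) (hY : Y ≤ L) (hi : Inv T L Y) (hSY : T ⊓ L ≤ Y)
    (hm : ∃ y ∈ Y, y • x ≠ x) (hY0 : Y0 ≤ L) (hnot : ¬ Y ≤ Y0)
    (hmax : ∀ Z ≤ Y, T ⊓ L ≤ Z → Inv T L Z → Z ≠ Y → Z ≤ Y0) : ∀ a ∈ Y, ∀ b ∈ Y, a * b * a⁻¹ * b⁻¹ ∈ Y0 := by
  have hnorm := h.norm_of_max hL hL' hne hY hi hSY hm hY0 hnot hmax
  have hSne : T ⊓ L ≠ Y := by
    intro h1
    obtain ⟨y, hy, h2⟩ := hm
    rw [← h1] at hy
    exact h2 (h.fixT hy.1)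
  have hS0 : T ⊓ L ≤ Y0 := hmax _ hSY le_rfl h.inv_TL hSne
  let N : Subgroup X := normalizer ((T ⊓ L : Subgroup X) : Set X)
  have hSN : T ⊓ L ≤ N := le_normalizer
  have hYN : Y ≤ N := fun y hy => mem_normalizer_of_conj_le fun s hs => hnorm y hy s hs
  let T1 : Subgroup X :=
    { carrier := {t | t ∈ T ∧ cg t L = L}
      mul_mem' := fun {a b} ha hb => ⟨mul_mem ha.1 hb.1, by rw [cg_mul, hb.2, ha.2]⟩
      one_mem' := ⟨one_mem _, by ext a; rw [mem_cg]; simp⟩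
      inv_mem' := fun {a} ha => ⟨inv_mem ha.1, cg_inv ha.2⟩ }
  haveI hn : ((T ⊓ L).subgroupOf N).Normal := Subgroup.normal_in_normalizer
  have hT1 : ∀ t, t ∈ T1 → t ∈ T ∧ cg t L = L := fun t ht => ht
  have key := comm_le (S := (T ⊓ L).subgroupOf N) (Y := Y.subgroupOf N) (T := T1.subgroupOf N) (Y0 := Y0.subgroupOf N)
    (fun s hs => hSY hs) (by
      rw [relIndex_subgroupOf hYN]
      have h1 := ((h.sylL hL).mono hSY hY).odd_relIndex
      rw [← Nat.not_even_iff_odd, even_iff_two_dvd] at h1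
      exact h1) (by
      rw [IsPGroup]
      rintro ⟨⟨t, htN⟩, ht⟩
      obtain ⟨k, hk⟩ := h.syl.two ⟨t, (hT1 t ht).1⟩
      refine ⟨k, ?_⟩
      have h1 : t ^ 2 ^ k = 1 := congrArg Subtype.val hk
      apply Subtype.ext
      apply Subtype.ext
      exact h1) (by
      intro t ht y hy
      exact hi t.1 (hT1 _ ht).1 (hT1 _ ht).2 y.1 hy) (by
      intro Z hZ hSZ hZi hne'
      have h1 : Z.map N.subtype ≤ Y0 := by
        apply hmax
        · rintro _ ⟨z, hz, rfl⟩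
          exact hZ hz
        · intro s hs
          exact ⟨⟨s, hSN hs⟩, hSZ hs, rfl⟩
        · rintro t ht h1 _ ⟨z, hz, rfl⟩
          have h6 : t ∈ N := mem_normalizer_of_conj_le fun s hs => h.inv_TL t ht h1 s hs
          exact ⟨_, hZi ⟨t, h6⟩ ⟨ht, h1⟩ z hz, rfl⟩
        · intro h1
          apply hne'
          rw [← h1]
          ext z
          rw [mem_subgroupOf]
          constructor
          · intro hz; exact ⟨z, hz, rfl⟩
          · rintro ⟨z', hz', h2⟩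
            have : z' = z := Subtype.ext h2
            rwa [← this]
      intro z hz
      exact h1 ⟨z, hz, rfl⟩) (by
      intro h1
      apply hnot
      intro y hy
      exact h1 (show (⟨y, hYN hy⟩ : N) ∈ Y.subgroupOf N from hy)) (fun s hs => hS0 hs)
  intro a ha b hb
  have h1 : (⟨a, hYN ha⟩ : N) * ⟨b, hYN hb⟩ * (⟨a, hYN ha⟩ : N)⁻¹ * (⟨b, hYN hb⟩ : N)⁻¹ ∈ Y0.subgroupOf N :=
    key (commutator_mem_commutator (show (⟨a, hYN ha⟩ : N) ∈ Y.subgroupOf N from ha)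
      (show (⟨b, hYN hb⟩ : N) ∈ Y.subgroupOf N from hb))
  exact h1

/-- (3.3') -/
theorem le_of_fix (hL : L ∈ Ls) (hx : ∃ g : X, g • x ≠ x) (hY : Y ≤ L) (hi : Inv T L Y)
    (hm : ∃ y ∈ Y, y • x ≠ x) (hY0 : Y0 ≤ L) (hYY : ∀ a ∈ Y, ∀ b ∈ Y, a * b * a⁻¹ * b⁻¹ ∈ Y0)
    (hfix : ∀ y ∈ Y0, y • x = x) : Y ≤ MulAction.stabilizer X V := by
  refine (h.le_st hL hY hi).trans (h.le_stV hx (fun t ht a ha => st_conj ht ha) ?_)
  intro W hW hWx w hw
  rw [h.mem_stV']
  intro v hv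
  obtain ⟨k, hk, h1⟩ := h.exists_elt (A := st T Ls L Y) (fun t ht a ha => st_conj ht ha) (by
    obtain ⟨y, hy, h2⟩ := hm
    exact ⟨y, h.le_st hL hY hi hy, h2⟩) hv
  have h3 : w * k = k * w * (w⁻¹ * k⁻¹ * w * k) := by group
  have h4 : w⁻¹ * k⁻¹ * w * k ∈ st T Ls L Y0 := by
    have := h.st_comm hL hY hYY (inv_mem (hW hw)) (inv_mem hk)
    rwa [inv_inv, inv_inv] at this
  have h5 : (w⁻¹ * k⁻¹ * w * k) • x = x := h.st_fix hL hY0 hfix h4
  have h6 : w • v = v := by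
    rw [← h1, ← mul_smul, h3, mul_smul, h5, mul_smul, hWx w hw]
  rw [h6]
  exact hv

/-- an orbit of odd size in `V` -/
theorem orbit_eq (hL : L ∈ Ls) (hY : Y ≤ L) (hSY : T ⊓ L ≤ Y) (hYV : Y ≤ MulAction.stabilizer X V)
    (hm : ∃ y ∈ Y, y • x ≠ x) (hv : v ∈ V) : ∃ y ∈ Y, y • x = v := by
  have hfin : V.Finite := Set.finite_of_ncard_ne_zero (by rw [h.card]; norm_num)
  have hO : (MulAction.orbit Y x) ⊆ V := by
    rintro _ ⟨⟨y, hy⟩, rfl⟩
    exact stV_mem (hYV hy) h.mem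
  have h1 : (MulAction.stabilizer Y x).index = (MulAction.orbit Y x).ncard := MulAction.index_stabilizer Y x
  have h2 : Odd ((T ⊓ L).relIndex Y) := ((h.sylL hL).mono hSY hY).odd_relIndex
  have h3 : (MulAction.stabilizer Y x).index ∣ (T ⊓ L).relIndex Y := by
    apply index_dvd_of_le
    intro s hs
    exact h.fixT hs.1
  have h4 : Odd (MulAction.orbit Y x).ncard := by
    rw [← h1]
    exact Odd.of_dvd_nat h2 h3
  have h5 : (MulAction.orbit Y x).ncard ≤ 3 := by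
    rw [← h.card]
    exact Set.ncard_le_ncard hO hfin
  have h6 : (MulAction.orbit Y x).ncard ≠ 1 := by
    intro h7
    obtain ⟨u, hu⟩ := Set.ncard_eq_one.1 h7
    obtain ⟨y, hy, h8⟩ := hm
    have h9 : x ∈ MulAction.orbit Y x := MulAction.mem_orbit_self x
    have h10 : y • x ∈ MulAction.orbit Y x := ⟨⟨y, hy⟩, rfl⟩
    rw [hu, Set.mem_singleton_iff] at h9 h10
    exact h8 (h10.trans h9.symm)
  have h7 : (MulAction.orbit Y x).ncard = 3 := by
    obtain ⟨k, hk⟩ := h4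
    omega
  have h8 : MulAction.orbit Y x = V := Set.eq_of_subset_of_ncard_le hO (by rw [h7, h.card]) hfin
  rw [← h8] at hv
  obtain ⟨⟨y, hy⟩, h9⟩ := hv
  exact ⟨y, hy, h9⟩

theorem L_moves (hL : L ∈ Ls) (hx : ∃ g : X, g • x ≠ x) : ∃ a ∈ L, a • x ≠ x := by
  by_contra hcon
  push Not at hcon
  obtain ⟨g, hg⟩ := hx
  obtain ⟨e, he, t, ht, h1⟩ := h.gen' g
  apply hg
  have h2 : sSup Ls ≤ MulAction.stabilizer X x := by
    apply sSup_le
    intro M hM a ha
    obtain ⟨t, ht, h3⟩ := h.trans L hL M hM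
    rw [← h3, mem_cg] at ha
    rw [MulAction.mem_stabilizer_iff]
    calc a • x = t • (t⁻¹ * a * t) • t⁻¹ • x := by rw [← mul_smul, ← mul_smul]; congr 1; group
      _ = x := by rw [h.fixT (inv_mem ht), hcon _ ha, h.fixT ht]
  rw [← h1, mul_smul, h.fixT ht]
  exact h2 he

/-- a minimal `N_T(L)`-invariant subgroup of `L` over `S₁` with a monotone property -/
theorem exists_min (Pr : Subgroup X → Prop) (hL : Pr L) :
    ∃ Y ≤ L, T ⊓ L ≤ Y ∧ Inv T L Y ∧ Pr Y ∧ ∀ Z ≤ Y, T ⊓ L ≤ Z → Inv T L Z → Z ≠ Y → ¬ Pr Z := by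
  have hLi : Inv T L L := by
    intro t ht h1 y hy
    have h2 : t * y * t⁻¹ ∈ cg t L := conj_mem_cg hy
    rwa [h1] at h2
  obtain ⟨Y, ⟨h1, h2, h3, h4⟩, h5⟩ := Set.Finite.exists_minimal (s := {Y : Subgroup X | Y ≤ L ∧ T ⊓ L ≤ Y ∧ Inv T L Y ∧ Pr Y})
    (Set.toFinite _) ⟨L, le_rfl, inf_le_right, hLi, hL⟩
  refine ⟨Y, h1, h2, h3, h4, fun Z hZ hSZ hZi hne hPr => ?_⟩
  exact hne (le_antisymm hZ (h5 ⟨hZ.trans h1, hSZ, hZi, hPr⟩ hZ))

/-- every `L` is transitive on `V` -/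
theorem L_trans (hL : L ∈ Ls) (hL' : L' ∈ Ls) (hne : L' ≠ L) (hx : ∃ g : X, g • x ≠ x) (hv : v ∈ V) :
    ∃ y ∈ L, y • x = v := by
  obtain ⟨Y, hY, hSY, hi, hm, hmin⟩ := h.exists_min (L := L) (fun Y => ∃ y ∈ Y, y • x ≠ x) (h.L_moves hL hx)
  have hY0 : Y ⊓ MulAction.stabilizer X x ≤ L := inf_le_left.trans hY
  have hnot : ¬ Y ≤ Y ⊓ MulAction.stabilizer X x := by
    intro h1
    obtain ⟨y, hy, h2⟩ := hm
    exact h2 (h1 hy).2
  have hmax : ∀ Z ≤ Y, T ⊓ L ≤ Z → Inv T L Z → Z ≠ Y → Z ≤ Y ⊓ MulAction.stabilizer X x := by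
    intro Z hZ hSZ hZi hne' z hz
    have h1 := hmin Z hZ hSZ hZi hne'
    push Not at h1
    exact ⟨hZ hz, h1 z hz⟩
  have hYY := h.comm_of_max hL hL' hne hY hi hSY hm hY0 hnot hmax
  have hYV := h.le_of_fix hL hx hY hi hm hY0 hYY (fun y hy => hy.2)
  obtain ⟨y, hy, h1⟩ := h.orbit_eq hL hY hSY hYV hm hv
  exact ⟨y, hY hy, h1⟩

/-- (3.4) -/
theorem fix_ptw (hL : L ∈ Ls) (hL' : L' ∈ Ls) (hne : L' ≠ L) (hx : ∃ g : X, g • x ≠ x) (ha : a ∈ L) (hax : a • x = x)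
    (hv : v ∈ V) : a • v = v := by
  obtain ⟨y, hy, h1⟩ := h.L_trans hL' hL (Ne.symm hne) hx hv
  have h2 := h.com L hL L' hL' (Ne.symm hne) a ha y hy
  rw [← h1, ← mul_smul, h2, mul_smul, hax]

/-- (3.5') -/
theorem le_of_mov (hL : L ∈ Ls) (hx : ∃ g : X, g • x ≠ x) (hY : Y ≤ L) (hi : Inv T L Y)
    (hY0 : Y0 ≤ L) (hSY0 : T ⊓ L ≤ Y0) (hm : ∃ y ∈ Y0, y • x ≠ x) (hY0V : Y0 ≤ MulAction.stabilizer X V)
    (hn : ∀ y ∈ Y, ∀ z ∈ Y0, y * z * y⁻¹ ∈ Y0) : Y ≤ MulAction.stabilizer X V := by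
  refine (h.le_st hL hY hi).trans (h.le_stV hx (fun t ht a ha => st_conj ht ha) ?_)
  intro W hW hWx w hw
  rw [h.mem_stV']
  intro v hv
  obtain ⟨k, hk, h1⟩ := h.orbit_eq hL hY0 hSY0 hY0V hm hv
  obtain ⟨y, hy, c, hc, h2⟩ := (h.mem_YC hL hY).1 (st_le (hW hw))
  have h3 : w * k = (y * k * y⁻¹) * w := by
    have h4 := h.CC_comm hL (hY0 hk) hc
    rw [← h2]
    calc y * c * k = y * (k * c) := by rw [h4]; group
      _ = y * k * y⁻¹ * (y * c) := by group
  have h5 : w • v = (y * k * y⁻¹) • x := by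
    rw [← h1, ← mul_smul, h3, mul_smul, hWx w hw]
  rw [h5]
  exact stV_mem (hY0V (hn y hy k hk)) h.mem

/-- every `L` preserves `V` -/
theorem L_le_stV (hL : L ∈ Ls) (hL' : L' ∈ Ls) (hne : L' ≠ L) (hx : ∃ g : X, g • x ≠ x) :
    L ≤ MulAction.stabilizer X V := by
  by_contra hcon
  obtain ⟨Y, hY, hSY, hi, hnV, hmin⟩ := h.exists_min (L := L) (fun Y => ¬ Y ≤ MulAction.stabilizer X V) hcon
  apply hnV
  have hm : ∃ y ∈ Y, y • x ≠ x := by
    by_contra hcon'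
    push Not at hcon'
    apply hnV
    intro y hy
    rw [h.mem_stV']
    intro v hv
    rw [h.fix_ptw hL hL' hne hx (hY hy) (hcon' y hy) hv]
    exact hv
  have hY0 : Y ⊓ MulAction.stabilizer X V ≤ L := inf_le_left.trans hY
  have hnot : ¬ Y ≤ Y ⊓ MulAction.stabilizer X V := fun h1 => hnV (h1.trans inf_le_right)
  have hmax : ∀ Z ≤ Y, T ⊓ L ≤ Z → Inv T L Z → Z ≠ Y → Z ≤ Y ⊓ MulAction.stabilizer X V := by
    intro Z hZ hSZ hZi hne'
    exact le_inf hZ (not_not.1 (hmin Z hZ hSZ hZi hne'))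
  have hYY := h.comm_of_max hL hL' hne hY hi hSY hm hY0 hnot hmax
  by_cases h1 : ∃ y ∈ Y ⊓ MulAction.stabilizer X V, y • x ≠ x
  · refine h.le_of_mov hL hx hY hi hY0 (le_inf hSY fun s hs => h.T_le_stV hx hs.1) h1 inf_le_right ?_
    intro y hy z hz
    have h2 : y * z * y⁻¹ = (y * z * y⁻¹ * z⁻¹) * z := by group
    rw [h2]
    exact mul_mem (hYY y hy z hz.1) hz
  · push Not at h1
    exact h.le_of_fix hL hx hY hi hm hY0 hYY h1

/-- **LEMMA COMP** -/
theorem main (hx : ∃ g : X, g • x ≠ x) (hL : L ∈ Ls) (hL' : L' ∈ Ls) : L' = L := by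
  by_contra hne
  obtain ⟨a, ha, hax⟩ := h.L_moves hL hx
  apply hax
  have hLV := h.L_le_stV hL hL' hne hx
  have hLV' := h.L_le_stV hL' hL (Ne.symm hne) hx
  -- a power basis of `V`
  obtain ⟨e, he, hex⟩ := h.L_moves hL' hx
  have hfp : ∀ {u : Ω}, u ∈ V → ∀ f ∈ L', f • u = u → f • x = x := by
    intro u hu f hf hfu
    obtain ⟨b, hb, h1⟩ := h.L_trans hL hL' hne hx hu
    have h2 := h.com L hL L' hL' (Ne.symm hne) b hb f hf
    rw [← h1, ← mul_smul, ← h2, mul_smul] at hfu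
    exact smul_left_cancel b hfu
  have heV : e • x ∈ V := stV_mem (hLV' he) h.mem
  have heeV : e • e • x ∈ V := stV_mem (hLV' he) heV
  have h2 : e • e • x ≠ e • x := fun h3 => hex (smul_left_cancel e h3)
  have h3 : e • e • x ≠ x := by
    intro h4
    -- the third point is fixed by `e`
    have h5 : ∃ w ∈ V, w ≠ x ∧ w ≠ e • x := by
      by_contra hcon
      push Not at hcon
      have h6 : V ⊆ {x, e • x} := by
        intro w hw
        by_cases h7 : w = x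
        · exact Or.inl h7
        · exact Or.inr (hcon w hw h7)
      have h7 := Set.ncard_le_ncard h6 (Set.toFinite _)
      have h8 := Set.ncard_insert_le x {e • x}
      rw [Set.ncard_singleton] at h8
      rw [h.card] at h7
      omega
    obtain ⟨w, hw, hwx, hwe⟩ := h5
    rcases third h.card h.mem heV hw (stV_mem (hLV' he) hw) (Ne.symm hex) (Ne.symm hwx) (Ne.symm hwe) with h6 | h6 | h6
    · exact hwe (smul_left_cancel e (h6.trans h4.symm))
    · exact hwx (smul_left_cancel e h6)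
    · exact hex (hfp hw e he h6)
  have hpow : ∀ u ∈ V, ∃ i : ℕ, e ^ i • x = u := by
    intro u hu
    rcases third h.card h.mem heV heeV hu (Ne.symm hex) (Ne.symm h3) (Ne.symm h2) with h4 | h4 | h4
    · exact ⟨0, by rw [pow_zero, one_smul, h4]⟩
    · exact ⟨1, by rw [pow_one, h4]⟩
    · exact ⟨2, by rw [pow_two, mul_smul, h4]⟩
  -- `L` is commutative on `x`
  have hcom : ∀ a ∈ L, ∀ b ∈ L, (a * b) • x = (b * a) • x := by
    have key : ∀ a ∈ L, ∀ b ∈ L, ∀ i j : ℕ, e ^ i • x = a • x → e ^ j • x = b • x → (a * b) • x = (e ^ (i + j)) • x := by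
      intro a ha b hb i j hi hj
      have h4 := h.com L hL L' hL' (Ne.symm hne) a ha (e ^ j) (pow_mem he j)
      rw [mul_smul, ← hj, ← mul_smul, h4, mul_smul, ← hi, ← mul_smul, ← pow_add, add_comm]
    intro a ha b hb
    obtain ⟨i, hi⟩ := hpow _ (stV_mem (hLV ha) h.mem)
    obtain ⟨j, hj⟩ := hpow _ (stV_mem (hLV hb) h.mem)
    rw [key a ha b hb i j hi hj, key b hb a ha j i hj hi, add_comm]
  have h4 : ⁅L, L⁆ ≤ MulAction.stabilizer X x := by
    rw [commutator_le]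
    intro a ha b hb
    rw [MulAction.mem_stabilizer_iff, commutatorElement_def]
    have h5 := hcom a⁻¹ (inv_mem ha) b⁻¹ (inv_mem hb)
    rw [mul_assoc, mul_smul, h5, ← mul_smul]
    have h6 : a * b * (b⁻¹ * a⁻¹) = 1 := by group
    rw [h6, one_smul]
  exact h4 (h.perf L hL ha)

end CH

end Cfsg.Agent.Omega.KL

end

section


/-!
# THEOREM KL, (3): `Sys → ∃ K, KK K` (LEMMA COMP in `Sys`; helper185)
-/

set_option autoImplicit false
set_option linter.unusedSectionVars false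
set_option linter.style.haveILetI false

namespace Cfsg.Agent.Omega.KL.OneK

open Subgroup Cfsg Cfsg.Agent.Lib.MinNormalNonabelian Cfsg.Agent.Omega.KL.Def Cfsg.Agent.StdEven.Syl
open Cfsg.Agent.MinSimple.MinParabolic (IsMinPar)

universe u v

section gen

variable {H : Type u} [Group H] {M : Type v} [MulAction H M]

/-- an orbit of odd length in a set of 3 points -/
theorem orbit_three [Finite H] {T P : Subgroup H} {x : M} {W : Set M} (hodd : ¬ 2 ∣ T.relIndex P)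
    (hTx : ∀ t ∈ T, t • x = x) (hW : W.ncard = 3) (hPW : ∀ p ∈ P, ∀ w ∈ W, p • w ∈ W) (hx : x ∈ W)
    (hm : ∃ p ∈ P, p • x ≠ x) {v : M} (hv : v ∈ W) : ∃ p ∈ P, p • x = v := by
  have hfin : W.Finite := Set.finite_of_ncard_ne_zero (by rw [hW]; norm_num)
  have hO : (MulAction.orbit P x) ⊆ W := by
    rintro _ ⟨⟨p, hp⟩, rfl⟩
    exact hPW p hp x hx
  have h1 : (MulAction.stabilizer P x).index = (MulAction.orbit P x).ncard := MulAction.index_stabilizer P x
  have h3 : (MulAction.stabilizer P x).index ∣ T.relIndex P := by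
    apply index_dvd_of_le
    intro s hs
    exact hTx _ hs
  have h4 : ¬ 2 ∣ (MulAction.orbit P x).ncard := by
    rw [← h1]
    exact fun h => hodd (h.trans h3)
  have h5 : (MulAction.orbit P x).ncard ≤ 3 := by
    rw [← hW]
    exact Set.ncard_le_ncard hO hfin
  have h6 : (MulAction.orbit P x).ncard ≠ 1 := by
    intro h7
    obtain ⟨u, hu⟩ := Set.ncard_eq_one.1 h7
    obtain ⟨p, hp, h8⟩ := hm
    have h9 : x ∈ MulAction.orbit P x := MulAction.mem_orbit_self x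
    have h10 : p • x ∈ MulAction.orbit P x := ⟨⟨p, hp⟩, rfl⟩
    rw [hu, Set.mem_singleton_iff] at h9 h10
    exact h8 (h10.trans h9.symm)
  have h7 : (MulAction.orbit P x).ncard = 3 := by
    omega
  have h8 : MulAction.orbit P x = W := Set.eq_of_subset_of_ncard_le hO (by rw [h7, hW]) hfin
  rw [← h8] at hv
  obtain ⟨⟨p, hp⟩, h9⟩ := hv
  exact ⟨p, hp, h9⟩

/-- a 2-subgroup of odd index is a Sylow subgroup -/
theorem isSyl_top {G : Type*} [Group G] [Finite G] {T : Subgroup G} (h : IsPGroup 2 T) (hi : ¬ 2 ∣ T.index) :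
    IsSyl T ⊤ where
  le := le_top
  two := h
  max := by
    intro Q hQ _ hTQ
    refine le_antisymm ?_ hTQ
    rw [← relIndex_eq_one]
    haveI : Fact (Nat.Prime 2) := ⟨Nat.prime_two⟩
    obtain ⟨k, hk⟩ := (IsPGroup.iff_card.1 hQ)
    have h1 : T.relIndex Q ∣ 2 ^ k := by rw [← hk]; exact relIndex_dvd_card T Q
    obtain ⟨j, -, hj⟩ := (Nat.dvd_prime_pow Nat.prime_two).1 h1
    rw [hj]
    by_contra hne
    have hj0 : j ≠ 0 := by rintro rfl; exact hne rfl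
    apply hi
    have h2 : 2 ∣ T.relIndex Q := by rw [hj]; exact dvd_pow_self 2 hj0
    exact h2.trans (relIndex_dvd_index_of_le hTQ)

/-- a simple group with trivial centre is perfect -/
theorem perfect {G : Type*} [Group G] {L : Subgroup G} (hs : IsSimpleGroup L)
    (hc : ∀ z ∈ L, (∀ t ∈ L, Commute z t) → z = 1) : L ≤ ⁅L, L⁆ := by
  rw [← map_subtype_commutator L]
  rcases (inferInstance : (_root_.commutator L).Normal).eq_bot_or_eq_top with h | h
  · exfalso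
    obtain ⟨z, hz⟩ := exists_ne (1 : L)
    apply hz
    apply Subtype.ext
    apply hc z.1 z.2
    intro t ht
    have h1 := commutator_mem_commutator (H₁ := (⊤ : Subgroup L)) (H₂ := ⊤) (mem_top z) (mem_top (⟨t, ht⟩ : L))
    rw [← commutator_def, h, mem_bot, commutatorElement_eq_one_iff_mul_comm] at h1
    exact congrArg Subtype.val h1
  · rw [h]
    intro l hl
    exact ⟨⟨l, hl⟩, mem_top _, rfl⟩

end gen

variable {H : Type u} [Group H] [Finite H] {M : Type v} [Group M] [MulDistribMulAction H M]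
  {T A : Subgroup H} {V : Subgroup M} {x y : M}

theorem ncard_Vs (hc : Nat.card V = 4) : ((V : Set M) \ {1}).ncard = 3 := by
  haveI : Finite V := Nat.finite_of_card_ne_zero (by rw [hc]; norm_num)
  have h1 : (V : Set M).ncard = 4 := by rw [← hc]; rfl
  rw [Set.ncard_sdiff_singleton_of_mem (one_mem V), h1]

/-- the frame of COMP -/
theorem ch_of_two (h : Two T V x y) {E : Subgroup H} (hE : E.Normal) (hET : E ⊔ T = ⊤) (hsup : sSup (minSet E) = E)
    (hsimple : ∀ L ∈ minSet E, IsSimpleGroup L) (hcen : ∀ L ∈ minSet E, ∀ z ∈ L, (∀ t ∈ L, Commute z t) → z = 1)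
    (htr : ∀ S ∈ minSet E, ∀ L ∈ minSet E, ∃ t ∈ T, L = S.map (MulAut.conj t).toMonoidHom) :
    CH T x ((V : Set M) \ {1}) (minSet E) where
  syl := isSyl_top h.two h.syl
  card := ncard_Vs h.cV
  mem := ⟨h.xV, h.x1⟩
  U := by
    intro P hP
    by_cases hm : ∃ p ∈ P, p • x ≠ x
    · right
      obtain ⟨h1, -⟩ := h.uni P hP hm
      have h2 : ∀ p ∈ P, ∀ w ∈ (V : Set M) \ {1}, p • w ∈ (V : Set M) \ {1} := by
        rintro p hp w ⟨hw, hw1⟩
        refine ⟨h1 p hp w hw, fun h3 => hw1 ?_⟩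
        rw [Set.mem_singleton_iff] at h3 ⊢
        have h4 : w = p⁻¹ • p • w := (inv_smul_smul p w).symm
        rw [h4, h3, smul_one]
      refine ⟨h2, fun v hv => ?_⟩
      refine orbit_three (T := T) ?_ (fun t ht => h.tx ht) (ncard_Vs h.cV) h2 ⟨h.xV, h.x1⟩ hm hv
      intro h3
      have h4 := ((isSyl_top h.two h.syl).mono hP.le le_top).odd_relIndex
      rw [← Nat.not_even_iff_odd, even_iff_two_dvd] at h4
      exact h4 h3
    · left
      push Not at hm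
      exact hm
  nor := h.nx
  com := by
    intro L hL L' hL' hne a ha b hb
    have hd : Disjoint L L' := by
      rw [disjoint_iff]
      rcases hL.2.2.2 (L ⊓ L') inf_le_left (fun e he => by
        have h1 := hL.2.2.1 he
        have h2 := hL'.2.2.1 he
        exact mem_normalizer_of_conj_le fun z hz => ⟨(mem_normalizer_iff.1 h1 z).1 hz.1, (mem_normalizer_iff.1 h2 z).1 hz.2⟩)
        with h1 | h1
      · exact h1
      · exfalso
        have h2 : L ≤ L' := inf_eq_left.1 h1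
        rcases hL'.2.2.2 L h2 hL.2.2.1 with h3 | h3
        · exact hL.2.1 h3
        · exact hne h3
    exact Cfsg.Agent.Lib.MinNormal.commute_of_disjoint (fun z hz => hL'.2.2.1 (hL.1 hz)) (fun z hz => hL.2.2.1 (hL'.1 hz))
      hd ha hb
  cen := fun L hL a ha hb => hcen L hL a ha hb
  perf := fun L hL => perfect (hsimple L hL) (hcen L hL)
  conj := fun L hL g => map_conj_mem_minSet hL g
  trans := by
    intro L hL L' hL'
    obtain ⟨t, ht, h1⟩ := htr L hL L' hL'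
    exact ⟨t, ht, h1.symm⟩
  gen := by rw [hsup]; exact hET

/-- **LEMMA COMP for `Sys`** -/
theorem exists_KK (h : Sys T A V x y) : ∃ K : Subgroup H, KK K T A V x y := by
  obtain ⟨E, hE, hET, hcen, -, -, ⟨K, hK⟩, -, hsup, hsimple, hcl, htr⟩ := Str.exists_structure h
  have hch := ch_of_two h.toTwo hE hET hsup hsimple hcl htr
  have h1 : minSet E = {K} := by
    apply Set.eq_singleton_iff_unique_mem.2
    exact ⟨hK, fun L hL => hch.main (Str.SysF.moves h) hK hL⟩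
  have h2 : K = E := by
    rw [← hsup, h1, sSup_singleton]
  exact ⟨K, { h with
    norm := by rw [h2]; exact hE
    simple := hsimple K hK
    cen := by rw [h2]; exact hcen
    KT := by rw [h2]; exact hET }⟩

end Cfsg.Agent.Omega.KL.OneK

end
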