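import Cfsg.Agent.Mrg.Omega.KL.QuoT
import Cfsg.Agent.Mrg.Omega.KL.ThmIqG
import Cfsg.Agent.Mrg.Omega.KL.Def
import Cfsg.Agent.Mrg.Omega.KL.LieTwo
import Cfsg.Agent.Mrg.Omega.ML.Ex.RowU33X


/-!
# THEOREM KL, the end (helper233)

From `ExitN` = (E2), all the rows of the exact K-list (helper585, 484):

* `kk_false`, `sys_false` : `KK`, `Sys` are impossible (the exits: Lie type in characteristic two by the gallery
  `LieTwo.not_lie`, `U₃(3)` by helper919);
* **`noInp`** : **THEOREM KL**: `MLK → ExitN → Quo.NoInp`.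
-/

set_option autoImplicit false

namespace Cfsg.Agent.Omega.KL.EndKL

open Subgroup Cfsg Cfsg.Agent.ZN Cfsg.Agent.Omega.KL.Def Cfsg.Agent.Omega.ML.Ex

universe u v

section

variable {H : Type u} [Group H] [Finite H] {M : Type v} [Group M] [Finite M] [MulDistribMulAction H M]
  {K T A : Subgroup H} {V : Subgroup M} {x y : M}

omit [Finite H] [Finite M] in
/-- `K` is not commutative -/
theorem not_comm (h : KK K T A V x y) : ¬ IsMulCommutative K := by
  intro h3
  have hsi := h.simple
  have h4 : K ≤ centralizer (K : Set H) := by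
    intro z hz
    rw [mem_centralizer_iff]
    intro w hw
    exact congrArg Subtype.val (h3.is_comm.comm (⟨w, hw⟩ : K) ⟨z, hz⟩)
  rw [h.cen, le_bot_iff] at h4
  obtain ⟨z, hz⟩ := exists_ne (1 : K)
  exact hz (Subtype.ext (mem_bot.1 (h4 ▸ z.2)))

omit [Finite H] [Finite M] in
/-- `K` is known -/
theorem known (h : KK K T A V x y) : IsKnownSimple' K := by
  have hsi := h.simple
  let e : K ⧸ (⊥ : Subgroup K) ≃* K := QuotientGroup.quotientBot
  exact OddHalf.Known.isKnownSimple'_congr e (ML.Final.not_comm_congr e.symm (not_comm h))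
    (h.KH K ⊥ (ML.Final.simple_congr e.symm h.simple) (ML.Final.not_comm_congr e.symm (not_comm h)))

omit [Finite H] [Finite M] in
theorem atm (h : KK K T A V x y) : Atm M A := h.atom

theorem kk_false (hE : Two.ExitN.{u, v}) (h : KK K T A V x y) : False := by
  rcases hE H M K T A (InN.of_inX h.inX (atm h)) (known h) with h1 | h1
  · exact LieTwo.not_lie h h1
  · exact RowU33X.dead_two h.inX h1 h.x1 h.y1 h.xy (fun t ht => h.tx ht) (fun t ht => h.ty ht)

theorem sys_false (hE : Two.ExitN.{u, v}) (h : Sys T A V x y) : False := by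
  obtain ⟨K, hK⟩ := OneK.exists_KK h
  exact kk_false hE hK

end

/-- **THEOREM KL** -/
theorem noInp (ml : ML.Final.MLK.{u, v}) (hE : Two.ExitN.{u, v}) : Quo.NoInp.{u, v} := by
  intro H _ _ M _ _ _ T A V x y h
  obtain ⟨H', _, _, M', _, _, _, T', A', V', x', y', h1⟩ := GenA.exists_low ml h
  obtain ⟨M'', _, _, _, A'', V'', x'', y'', h2⟩ := GenB.exists_sys ml h1
  exact sys_false hE h2

end Cfsg.Agent.Omega.KL.EndKL
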