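import Cfsg.Agent.Mrg.Omega.ML.LieRow.Row

section


/-!
# THEOREM KL, the groups of Lie type in characteristic two: the gallery (helper233)

`K` is normal in the finite group `H`, seen through its building `Δ` (`FixBN.Sys`, `LieRow.HAct`), `M` is an irreducible
`H`-module over `F_2`.

* `gallery` : a property of chambers which passes from the other chambers of each panel of `d` to `d`, and holds for the
  chambers opposite `c`, holds for all chambers;
* **`fixed_eq`** : `f : C → M` a `K`-equivariant function which is constant on each panel, or (on this panel) the product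
  of two other values; the values of `f` generate `M`: then `|C_M(U c)| ≤ 2`.
-/

set_option autoImplicit false
set_option linter.unusedSectionVars false

namespace Cfsg.Agent.Omega.KL.Gal

open Cfsg.Agent.Tits.Core Cfsg.Agent.Tits.Core.Bldg Cfsg.Agent.Tits.Exchange Cfsg.Agent.Tits
open Cfsg.Agent.FixBN Cfsg.Agent.FixBN.Cox Cfsg.Agent.UGT.U2.FOne Cfsg.Agent.Omega.ML.LieRow

variable {I : Type*} {Mx : CoxeterMatrix I} {W : Type*} [Group W] {cs : CoxeterSystem Mx W} {C : Type*}
  {Δ : Bldg cs C}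

local prefix:100 "ℓ" => cs.length

/-- **The gallery lemma.** -/
theorem gallery [F : OppRes.Cox cs] {Q : C → Prop} (c : C)
    (hQ : ∀ i d, (∀ d', Δ.δ d d' = cs.simple i → Q d') → Q d) (h0 : ∀ e, Δ.Opp c e → Q e) : ∀ d, Q d := by
  have key : ∀ n : ℕ, ∀ d, ℓ (w0 cs) - ℓ (Δ.δ c d) = n → Q d := by
    intro n
    induction n using Nat.strong_induction_on with
    | _ n ih =>
      intro d hn
      by_cases h1 : Δ.Opp c d
      · exact h0 d h1
      have h2 : (Δ.δ c d)⁻¹ * w0 cs ≠ 1 := by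
        intro h3
        apply h1
        change Δ.δ c d = w0 cs
        exact inv_mul_eq_one.1 h3
      obtain ⟨i, hi⟩ := cs.exists_leftDescent_of_ne_one h2
      have hi' : ℓ (cs.simple i * ((Δ.δ c d)⁻¹ * w0 cs)) < ℓ ((Δ.δ c d)⁻¹ * w0 cs) := hi
      have e1 : cs.simple i * ((Δ.δ c d)⁻¹ * w0 cs) = (Δ.δ c d * cs.simple i)⁻¹ * w0 cs := by
        rw [mul_inv_rev, cs.inv_simple, mul_assoc]
      have e2 := F.len_mul_w0 (Δ.δ c d)⁻¹
      have e3 := F.len_mul_w0 (Δ.δ c d * cs.simple i)⁻¹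
      rw [cs.length_inv] at e2 e3
      rw [e1] at hi'
      have hlt : ℓ (Δ.δ c d) < ℓ (Δ.δ c d * cs.simple i) := by omega
      refine hQ i d fun d' hd' => ?_
      have h3 := Δ.step_lt c d d' i hd' hlt
      refine ih (ℓ (w0 cs) - ℓ (Δ.δ c d')) ?_ d' rfl
      rw [h3]
      omega
  exact fun d => key _ d rfl

variable {H : Type*} [Group H] {K : Subgroup H} [MulAction K C] (A : HAct Δ K)
  [F : OppRes.Cox cs] (S : Sys Δ K 2) {M : Type*} [Group M] [MulDistribMulAction H M]

/-- the functionals fixed by `U c` -/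
def Fx (c : C) (u : M → ℤˣ) : Prop :=
  (∀ w w', u (w * w') = u w * u w') ∧ ∀ k ∈ S.U c, ∀ w, u ((k : H) • w) = u w

variable {S}

include A

/-- transport of a fixed functional -/
theorem Fx.smul [K.Normal] {d : C} {u : M → ℤˣ} (h : Fx S d u) (g : H) :
    Fx S (A.θ g d) (fun w => u (g⁻¹ • w)) := by
  refine ⟨fun w w' => by change u (g⁻¹ • (w * w')) = u (g⁻¹ • w) * u (g⁻¹ • w'); rw [smul_mul', h.1], ?_⟩
  intro k hk w
  change u (g⁻¹ • (k : H) • w) = u (g⁻¹ • w)
  have h1 := conj_mem_U A S g⁻¹ hk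
  rw [A.θ_inv_θ] at h1
  have h2 := h.2 _ h1 (g⁻¹ • w)
  rw [MulAut.conjNormal_apply, smul_smul] at h2
  rw [← h2, smul_smul]
  congr 2
  group

omit A in
/-- a functional which is fixed by `U c` and trivial at a point opposite `c` is trivial -/
theorem Fx.eq_one {f : C → M} (hfK : ∀ (k : K) d, f (k • d) = (k : H) • f d)
    (hth : Δ.Thick) (hgen : ∀ N : Subgroup M, (∀ d, f d ∈ N) → N = ⊤)
    (hpan : ∀ i d, (∀ d', Δ.δ d d' = cs.simple i → f d' = f d) ∨
      ∃ d₁ d₂, Δ.δ d d₁ = cs.simple i ∧ Δ.δ d d₂ = cs.simple i ∧ f d = f d₁ * f d₂)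
    {c e : C} (he : Δ.Opp c e) {u : M → ℤˣ} (h : Fx S c u) (hu : u (f e) = 1) : ∀ w, u w = 1 := by
  have h1 : ∀ d, u (f d) = 1 := by
    refine gallery (Δ := Δ) (Q := fun d => u (f d) = 1) c ?_ ?_
    · intro i d hd
      rcases hpan i d with h2 | ⟨d₁, d₂, h2, h3, h4⟩
      · obtain ⟨d', -, -, h3, -⟩ := hth d i
        change u (f d) = 1
        rw [← h2 d' h3]
        exact hd d' h3
      · change u (f d) = 1
        rw [h4, h.1, hd d₁ h2, hd d₂ h3, one_mul]
    · intro e' he'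
      obtain ⟨k, hk, rfl⟩ := S.trans c e e' he he'
      change u (f (k • e)) = 1
      rw [hfK, h.2 k hk, hu]
  have hu1 : u 1 = 1 := by
    have := h.1 1 1
    rw [mul_one] at this
    exact (mul_eq_left.1 this.symm)
  let N : Subgroup M :=
    { carrier := {w | u w = 1}
      one_mem' := hu1
      mul_mem' := fun {a b} (ha : u a = 1) (hb : u b = 1) => by
        change u (a * b) = 1
        rw [h.1, ha, hb, mul_one]
      inv_mem' := fun {a} (ha : u a = 1) => by
        change u a⁻¹ = 1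
        have h1 := h.1 a a⁻¹
        rw [mul_inv_cancel, hu1, ha, one_mul] at h1
        exact h1.symm }
  have hN : N = ⊤ := hgen N h1
  intro w
  have : w ∈ N := by rw [hN]; trivial
  exact this

omit A in
theorem units_sq (z : ℤˣ) : z * z = 1 := by
  rcases Int.units_eq_one_or z with h | h <;> rw [h] <;> rfl

omit A in
/-- there is at most one functional `≠ 1` fixed by `U c` -/
theorem Fx.unique {f : C → M} (hfK : ∀ (k : K) d, f (k • d) = (k : H) • f d)
    (hth : Δ.Thick) (hgen : ∀ N : Subgroup M, (∀ d, f d ∈ N) → N = ⊤)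
    (hpan : ∀ i d, (∀ d', Δ.δ d d' = cs.simple i → f d' = f d) ∨
      ∃ d₁ d₂, Δ.δ d d₁ = cs.simple i ∧ Δ.δ d d₂ = cs.simple i ∧ f d = f d₁ * f d₂)
    {c : C} {u u' : M → ℤˣ} (h : Fx S c u) (h' : Fx S c u') (hu : ∃ w, u w ≠ 1) (hu' : ∃ w, u' w ≠ 1) : u = u' := by
  obtain ⟨e, he⟩ := Δ.exists_δ c (w0 cs)
  have h1 : ∀ {v : M → ℤˣ}, Fx S c v → (∃ w, v w ≠ 1) → v (f e) = -1 := by
    intro v hv hne
    rcases Int.units_eq_one_or (v (f e)) with h2 | h2
    · obtain ⟨w, hw⟩ := hne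
      exact absurd (Fx.eq_one hfK hth hgen hpan he hv h2 w) hw
    · exact h2
  have h2 : Fx S c (fun w => u w * u' w) := by
    refine ⟨fun w w' => ?_, fun k hk w => ?_⟩
    · change u (w * w') * u' (w * w') = u w * u' w * (u w' * u' w')
      rw [h.1, h'.1]
      exact mul_mul_mul_comm _ _ _ _
    · change u ((k : H) • w) * u' ((k : H) • w) = u w * u' w
      rw [h.2 k hk, h'.2 k hk]
  have h3 := Fx.eq_one hfK hth hgen hpan he h2 (by
    change u (f e) * u' (f e) = 1
    rw [h1 h hu, h1 h' hu']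
    decide)
  funext w
  have h4 : u w * u' w = 1 := h3 w
  rw [← mul_one (u w), ← units_sq (u' w), ← mul_assoc, h4, one_mul]

/-- **The fixed points of `U c`.** -/
theorem fixed_eq [K.Normal] [Finite H] [Finite C] [Finite M] (hth : Δ.Thick) (sq : ∀ m : M, m * m = 1)
    (irr : ∀ N : Subgroup M, (∀ h : H, ∀ w ∈ N, h • w ∈ N) → N = ⊥ ∨ N = ⊤)
    {f : C → M} (hfK : ∀ (k : K) d, f (k • d) = (k : H) • f d)
    (hgen : ∀ N : Subgroup M, (∀ d, f d ∈ N) → N = ⊤)
    (hpan : ∀ i d, (∀ d', Δ.δ d d' = cs.simple i → f d' = f d) ∨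
      ∃ d₁ d₂, Δ.δ d d₁ = cs.simple i ∧ Δ.δ d d₂ = cs.simple i ∧ f d = f d₁ * f d₂)
    {c : C} {m m' : M} (hm : ∀ k ∈ S.U c, (k : H) • m = m) (hm' : ∀ k ∈ S.U c, (k : H) • m' = m')
    (h1 : m ≠ 1) (h1' : m' ≠ 1) : m = m' := by
  classical
  have : Fact (Nat.Prime 2) := ⟨Nat.prime_two⟩
  have hMn : Nontrivial M := ⟨m, 1, h1⟩
  -- the fixed functionals
  have hex : ∀ d : C, ∃ u : M → ℤˣ, Fx S d u ∧ ∃ w, u w ≠ 1 := by
    intro d
    have hT : IsPGroup 2 ((S.U d).map K.subtype) := (S.isP d).map _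
    obtain ⟨u, hu, hne, hfix⟩ := exists_functional (H := H) sq hMn hT
    exact ⟨u, ⟨hu, fun k hk w => hfix (k : H) ⟨k, hk, rfl⟩ w⟩, hne⟩
  choose g hg hgne using hex
  have uniq : ∀ (d : C) (u : M → ℤˣ), Fx S d u → (∃ w, u w ≠ 1) → u = g d := fun d u hu hne =>
    Fx.unique hfK hth hgen hpan hu (hg d) hne (hgne d)
  -- equivariance
  have hgH : ∀ (h : H) (d : C) (w : M), g (A.θ h d) w = g d (h⁻¹ • w) := by
    intro h d w
    have h2 := uniq (A.θ h d) _ ((hg d).smul A h) (by
      obtain ⟨w, hw⟩ := hgne d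
      exact ⟨h • w, by rwa [inv_smul_smul]⟩)
    exact (congrFun h2 w).symm
  have hgK : ∀ (k : K) (d : C) (w : M), g (k • d) w = g d ((k : H)⁻¹ • w) := by
    intro k d w
    rw [← A.θ_K, hgH]
  -- the annihilator
  have hg1 : ∀ d, g d 1 = 1 := by
    intro d
    have := (hg d).1 1 1
    rw [mul_one] at this
    exact (mul_eq_left.1 this.symm)
  let N : Subgroup M :=
    { carrier := {w | ∀ d, g d w = 1}
      one_mem' := hg1
      mul_mem' := fun {a b} ha hb d => by rw [(hg d).1, ha d, hb d, mul_one]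
      inv_mem' := fun {a} ha d => by
        have h1 := (hg d).1 a a⁻¹
        rw [mul_inv_cancel, hg1, ha d, one_mul] at h1
        exact h1.symm }
  have hNm : ∀ w, w ∈ N ↔ ∀ d, g d w = 1 := fun _ => Iff.rfl
  have hN : N = ⊥ := by
    rcases irr N (fun h w hw => by
      rw [hNm] at hw ⊢
      intro d
      have h2 := hgH h⁻¹ d w
      rw [inv_inv] at h2
      rw [← h2]
      exact hw _) with h2 | h2
    · exact h2
    · exfalso
      obtain ⟨w, hw⟩ := hgne c
      have h3 : w ∈ N := by rw [h2]; trivial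
      exact hw (h3 c)
  -- the panels
  have hpan' : ∀ i d, (∀ d', Δ.δ d d' = cs.simple i → g d' = g d) ∨
      ∀ w, (∀ d', Δ.δ d d' = cs.simple i → g d' w = 1) → g d w = 1 := by
    intro i d
    set P : Finset C := (Δ.Pan i d).toFinite.toFinset with hP
    have hPm : ∀ a, a ∈ P ↔ a ∈ Δ.Pan i d := fun a => by rw [hP, Set.Finite.mem_toFinset]
    set μ : M → ℤˣ := fun w => ∏ a ∈ P, g a w with hμ
    -- invariance of the panel
    have hinv : ∀ a ∈ Δ.Pan i d, ∀ k ∈ S.U a, ∀ b, b ∈ Δ.Pan i d → k • b ∈ Δ.Pan i d := by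
      intro a ha k hk b hb
      have h2 : b ∈ Δ.Pan i a := by rwa [Δ.Pan_eq_of_mem ha]
      rw [← Δ.Pan_eq_of_mem ha]
      rcases h2 with h2 | h2
      · left; rw [h2, S.fix a k hk]
      · right
        have h3 := S.iso k a b
        rw [S.fix a k hk] at h3
        rw [h3]
        exact h2
    have hμF : ∀ a ∈ Δ.Pan i d, Fx S a μ := by
      intro a ha
      refine ⟨fun w w' => ?_, fun k hk w => ?_⟩
      · change ∏ a ∈ P, g a (w * w') = (∏ a ∈ P, g a w) * ∏ a ∈ P, g a w'
        rw [← Finset.prod_mul_distrib]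
        exact Finset.prod_congr rfl fun b _ => (hg b).1 w w'
      · change ∏ b ∈ P, g b ((k : H) • w) = ∏ b ∈ P, g b w
        refine Finset.prod_bij' (fun b _ => k⁻¹ • b) (fun b _ => k • b) ?_ ?_ ?_ ?_ ?_
        · intro b hb
          rw [hPm] at hb ⊢
          exact hinv a ha k⁻¹ (inv_mem hk) b hb
        · intro b hb
          rw [hPm] at hb ⊢
          exact hinv a ha k hk b hb
        · intro b _; exact smul_inv_smul k b
        · intro b _; exact inv_smul_smul k b
        · intro b _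
          change g b ((k : H) • w) = g (k⁻¹ • b) w
          rw [hgK, Subgroup.coe_inv, inv_inv]
    by_cases hμ1 : ∃ w, μ w ≠ 1
    · left
      intro d' hd'
      rw [← uniq d' μ (hμF d' (Or.inr hd')) hμ1, ← uniq d μ (hμF d (Or.inl rfl)) hμ1]
    · right
      push Not at hμ1
      intro w hw
      have h2 : ∏ a ∈ P, g a w = 1 := hμ1 w
      rw [← Finset.mul_prod_erase P (fun a => g a w) ((hPm d).2 (Or.inl rfl))] at h2
      rw [Finset.prod_eq_one, mul_one] at h2
      · exact h2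
      · intro b hb
        rw [Finset.mem_erase, hPm] at hb
        rcases hb.2 with h3 | h3
        · exact absurd h3 hb.1
        · exact hw b h3
  -- a fixed point with trivial value is trivial
  obtain ⟨e, he⟩ := Δ.exists_δ c (w0 cs)
  have key : ∀ n : M, (∀ k ∈ S.U c, (k : H) • n = n) → g e n = 1 → n = 1 := by
    intro n hn hne
    have h2 : ∀ d, g d n = 1 := by
      refine gallery (Δ := Δ) (Q := fun d => g d n = 1) c ?_ ?_
      · intro i d hd
        rcases hpan' i d with h3 | h3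
        · obtain ⟨d', -, -, h4, -⟩ := hth d i
          change g d n = 1
          rw [← h3 d' h4]
          exact hd d' h4
        · exact h3 n hd
      · intro e' he'
        obtain ⟨k, hk, rfl⟩ := S.trans c e e' he he'
        change g (k • e) n = 1
        have h3 := hn _ (inv_mem hk)
        rw [Subgroup.coe_inv] at h3
        rw [hgK, h3, hne]
    have h3 : n ∈ N := h2
    rwa [hN, Subgroup.mem_bot] at h3
  have hval : ∀ n : M, (∀ k ∈ S.U c, (k : H) • n = n) → n ≠ 1 → g e n = -1 := by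
    intro n hn hne
    rcases Int.units_eq_one_or (g e n) with h2 | h2
    · exact absurd (key n hn h2) hne
    · exact h2
  have h2 := key (m * m') (fun k hk => by rw [smul_mul', hm k hk, hm' k hk]) (by
    rw [(hg e).1, hval m hm h1, hval m' hm' h1']
    decide)
  rw [← mul_one m, ← sq m', ← mul_assoc, h2, one_mul]

end Cfsg.Agent.Omega.KL.Gal

end

section


/-!
# Groups of Lie type in characteristic two over `F_2`: positions (helper233)

`K` normal in `H`, with its building; `f : C → M` equivariant, constant on the panels of type in `J`; one type outside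
`J`, with panels of three chambers, on which `f d = f d₁ * f d₂`. (`PF`)

* `PF.exists_opp` : a functional fixed by `U d` and `≠ 1` at `f c`: some chamber of `Res J c` is opposite `d`;
* `PF.semi` : an element of `O₂(C_H(f c))` which fixes a `U d`-fixed functional `φ` with `φ (f c) ≠ 1` is trivial.
-/

set_option autoImplicit false
set_option linter.unusedSectionVars false

namespace Cfsg.Agent.Omega.KL.Gal

open Cfsg.Agent.Tits.Core Cfsg.Agent.Tits.Core.Bldg Cfsg.Agent.Tits.Exchange Cfsg.Agent.Tits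
open Cfsg.Agent.FixBN Cfsg.Agent.FixBN.Cox Cfsg.Agent.UGT.U2.FOne Cfsg.Agent.Omega.ML.LieRow Cfsg.Agent.ZN

variable {I : Type*} {Mx : CoxeterMatrix I} {W : Type*} [Group W] {cs : CoxeterSystem Mx W} {C : Type*}
  {Δ : Bldg cs C}

local prefix:100 "ℓ" => cs.length

variable {H : Type*} [Group H] {K : Subgroup H} [MulAction K C] (A : HAct Δ K)
  [F : OppRes.Cox cs] {S : Sys Δ K 2} {M : Type*} [Group M] [MulDistribMulAction H M]

/-- the gallery data over `F_2` -/
structure PF (A : HAct Δ K) (J : Set I) (f : C → M) : Prop where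
  fK : ∀ (k : K) d, f (k • d) = (k : H) • f d
  fH : ∀ h d, f (A.θ h d) = h • f d
  gen : ∀ N : Subgroup M, (∀ d, f d ∈ N) → N = ⊤
  const : ∀ i ∈ J, ∀ d d', Δ.δ d d' = cs.simple i → f d' = f d
  ne : ∀ i, i ∉ J → ∀ d d', Δ.δ d d' = cs.simple i → f d' ≠ f d
  sum : ∀ i, i ∉ J → ∀ d a b, Δ.δ d a = cs.simple i → Δ.δ d b = cs.simple i → a ≠ b → f d = f a * f b
  three : ∀ i, i ∉ J → ∀ d a b y, Δ.δ d a = cs.simple i → Δ.δ d b = cs.simple i → a ≠ b → Δ.δ d y = cs.simple i →
    y = a ∨ y = b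
  one : ∀ i j, i ∉ J → j ∉ J → i = j

variable {A} {J : Set I} {f : C → M}

namespace PF

variable (h : PF A J f)

include h

theorem pan (hth : Δ.Thick) (i : I) (d : C) : (∀ d', Δ.δ d d' = cs.simple i → f d' = f d) ∨
    ∃ d₁ d₂, Δ.δ d d₁ = cs.simple i ∧ Δ.δ d d₂ = cs.simple i ∧ f d = f d₁ * f d₂ := by
  by_cases hi : i ∈ J
  · exact Or.inl (h.const i hi d)
  · obtain ⟨a, b, hab, ha, hb⟩ := hth d i
    exact Or.inr ⟨a, b, ha, hb, h.sum i hi d a b ha hb hab⟩

theorem res {c : C} {d : C} (hd : d ∈ Δ.Res J c) : f d = f c := by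
  refine Δ.Res_induction (p := fun y => f y = f c) rfl ?_ hd
  intro y _ z i hi hyz hy
  rw [h.const i hi y z hyz, hy]

/-- a nontrivial `U d`-fixed functional does not vanish at the chambers opposite `d` -/
theorem opp_ne (hth : Δ.Thick) {d e : C} (he : Δ.Opp d e) {u : M → ℤˣ} (hu : Fx S d u) (hne : ∃ w, u w ≠ 1) :
    u (f e) = -1 := by
  rcases Int.units_eq_one_or (u (f e)) with h1 | h1
  · obtain ⟨w, hw⟩ := hne
    exact absurd (Fx.eq_one h.fK hth h.gen (h.pan hth) he hu h1 w) hw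
  · exact h1

/-- **positions** -/
theorem exists_opp (hth : Δ.Thick) {c d : C} {u : M → ℤˣ} (hu : Fx S d u) (hc : u (f c) ≠ 1) :
    ∃ e ∈ Δ.Res J c, Δ.Opp d e := by
  have key : ∀ n : ℕ, ∀ e ∈ Δ.Res J c, ℓ (w0 cs) - ℓ (Δ.δ d e) = n → ∃ e ∈ Δ.Res J c, Δ.Opp d e := by
    intro n
    induction n using Nat.strong_induction_on with
    | _ n ih =>
      intro e heJ hn
      by_cases h1 : Δ.Opp d e
      · exact ⟨e, heJ, h1⟩
      have h2 : (Δ.δ d e)⁻¹ * w0 cs ≠ 1 := by
        intro h3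
        apply h1
        change Δ.δ d e = w0 cs
        exact inv_mul_eq_one.1 h3
      obtain ⟨i, hi⟩ := cs.exists_leftDescent_of_ne_one h2
      have hi' : ℓ (cs.simple i * ((Δ.δ d e)⁻¹ * w0 cs)) < ℓ ((Δ.δ d e)⁻¹ * w0 cs) := hi
      have e1 : cs.simple i * ((Δ.δ d e)⁻¹ * w0 cs) = (Δ.δ d e * cs.simple i)⁻¹ * w0 cs := by
        rw [mul_inv_rev, cs.inv_simple, mul_assoc]
      have e2 := F.len_mul_w0 (Δ.δ d e)⁻¹
      have e3 := F.len_mul_w0 (Δ.δ d e * cs.simple i)⁻¹
      rw [cs.length_inv] at e2 e3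
      rw [e1] at hi'
      have hlt : ℓ (Δ.δ d e) < ℓ (Δ.δ d e * cs.simple i) := by omega
      obtain ⟨a, b, hab, ha, hb⟩ := hth e i
      have hda := Δ.step_lt d e a i ha hlt
      have hdb := Δ.step_lt d e b i hb hlt
      by_cases hiJ : i ∈ J
      · refine ih (ℓ (w0 cs) - ℓ (Δ.δ d a)) ?_ a ?_ rfl
        · rw [hda]; omega
        · refine OppRes.delta_mem_of_mem (y := e) heJ ?_
          rw [ha]
          exact OppRes.simple_mem_WJ hiJ
      · exfalso
        have h3 : u (f e) ≠ 1 := by rwa [h.res heJ]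
        apply h3
        obtain ⟨k, hk, rfl⟩ := S.exists_move (hda.trans hdb.symm)
        rw [h.sum i hiJ e a (k • a) ha hb hab, hu.1, h.fK, hu.2 k hk, units_sq]
  exact key _ c (Δ.self_mem_Res J c) rfl

/-- the type of the stabiliser of the functional -/
theorem op_mem (hth : Δ.Thick) {d d' : C} {i : I} (hd : Δ.δ d d' = cs.simple i) {u : M → ℤˣ} (hu : Fx S d u)
    (hu' : Fx S d' u) (hne : ∃ w, u w ≠ 1) : op cs i ∈ J := by
  by_contra hJ
  set j := op cs i with hj
  have hji : cs.simple j = w0 cs * cs.simple i * w0 cs := F.op i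
  obtain ⟨e, he⟩ := Δ.exists_δ d (w0 cs)
  obtain ⟨e₁, h1, h2⟩ := Δ.exists_step d e j
  rw [he] at h2
  -- the lengths
  have hl : ∀ i, ℓ (w0 cs * cs.simple i) < ℓ (w0 cs * cs.simple i * cs.simple i) := by
    intro i
    have h3 := F.len_w0_mul (cs.simple i)
    rw [cs.length_simple] at h3
    rw [mul_assoc, cs.simple_mul_simple_self, mul_one]
    omega
  -- a third chamber
  obtain ⟨e₂, h3, h4⟩ : ∃ e₂, Δ.δ e e₂ = cs.simple j ∧ e₂ ≠ e₁ := by
    obtain ⟨a, b, hab, ha, hb⟩ := hth e j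
    by_cases h5 : a = e₁
    · exact ⟨b, hb, fun h6 => hab (h5.trans h6.symm)⟩
    · exact ⟨a, ha, h5⟩
  have h12 : Δ.δ e₁ e₂ = cs.simple j := Δ.δ_eq_of_mem_Pan (Or.inr h1) (Or.inr h3) (Ne.symm h4)
  have h5 : Δ.Opp d e₂ := by
    change Δ.δ d e₂ = w0 cs
    have h6 := Δ.step_lt d e₁ e₂ j h12 (by rw [h2]; exact hl j)
    rw [h6, h2, mul_assoc, cs.simple_mul_simple_self, mul_one]
  have h6 : Δ.Opp d' e₁ := by
    have h7 : Δ.δ e₁ d = w0 cs * cs.simple i := by
      rw [Δ.symm d e₁, h2, mul_inv_rev, cs.inv_simple, F.w0_inv, hji, mul_assoc, F.w0_mul_self, mul_one]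
    have h8 := Δ.step_lt e₁ d d' i hd (by rw [h7]; exact hl i)
    rw [h7, mul_assoc, cs.simple_mul_simple_self, mul_one] at h8
    change Δ.δ d' e₁ = w0 cs
    rw [Δ.symm e₁ d', h8, F.w0_inv]
  have h7 := h.opp_ne hth (show Δ.Opp d e from he) hu hne
  have h8 := h.opp_ne hth h5 hu hne
  have h9 := h.opp_ne hth h6 hu' hne
  have h10 := h.sum j hJ e e₁ e₂ h1 h3 (Ne.symm h4)
  rw [h10, hu.1, h8, h9] at h7
  exact absurd h7 (by decide)

theorem op_op (i : I) : op cs (op cs i) = i := by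
  apply F.inj
  rw [F.op, F.op]
  have h := F.w0_mul_self
  calc w0 cs * (w0 cs * cs.simple i * w0 cs) * w0 cs
      = (w0 cs * w0 cs) * cs.simple i * (w0 cs * w0 cs) := by group
    _ = cs.simple i := by rw [h]; group

variable [K.Normal]

/-- `φ` fixed by `U d` and by `U (k • d)` : `k • d` is in the residue of type `op J` of `d` -/
theorem mem_res (hth : Δ.Thick) {d : C} {k : K} {u : M → ℤˣ} (hu : Fx S d u)
    (hu' : Fx S (k • d) u) (hne : ∃ w, u w ≠ 1) : k • d ∈ Δ.Res (op cs '' J) d := by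
  -- the stabiliser of `u`
  let X : Subgroup K :=
    { carrier := {g | ∀ w, u ((g : H) • w) = u w}
      one_mem' := fun w => by rw [OneMemClass.coe_one, one_smul]
      mul_mem' := fun {a b} ha hb w => by rw [Subgroup.coe_mul, mul_smul, ha, hb]
      inv_mem' := fun {a} ha w => by
        have := ha ((a : H)⁻¹ • w)
        rw [smul_inv_smul] at this
        rw [Subgroup.coe_inv]
        exact this.symm }
  have hX : ∀ g : K, g ∈ X ↔ ∀ w, u ((g : H) • w) = u w := fun _ => Iff.rfl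
  have hUX : S.U d ≤ X := fun g hg => hu.2 g hg
  have htp : tp Δ X d ⊆ op cs '' J := by
    rintro i ⟨g, hg, hgd⟩
    refine ⟨op cs i, ?_, h.op_op i⟩
    have h1 := Fx.smul A hu (g : H)
    rw [A.θ_K] at h1
    have h2 : (fun w => u ((g : H)⁻¹ • w)) = u := by
      funext w
      have := X.inv_mem hg
      rw [hX] at this
      have h3 := this w
      rwa [Subgroup.coe_inv] at h3
    rw [h2] at h1
    exact h.op_mem hth hgd hu h1 hne
  have hk : k ∈ X := by
    rw [hX]
    intro w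
    have h1 := Fx.smul A hu (k : H)
    rw [A.θ_K] at h1
    have h2 := Fx.unique h.fK hth h.gen (h.pan hth) h1 hu' (by
      obtain ⟨w, hw⟩ := hne
      exact ⟨(k : H) • w, by rwa [inv_smul_smul]⟩) hne
    have h3 := congrFun h2 ((k : H) • w)
    change u ((k : H)⁻¹ • (k : H) • w) = u ((k : H) • w) at h3
    rw [inv_smul_smul] at h3
    exact h3.symm
  change Δ.δ d (k • d) ∈ WJ cs (op cs '' J)
  exact OppRes.WJ_mono htp (delta_mem_tp S hth hUX k hk)

omit [K.Normal] in
theorem inv [Nonempty C] : A.Inv J := by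
  intro g i hi
  by_contra hn
  obtain ⟨c⟩ := (inferInstance : Nonempty C)
  obtain ⟨d, hd⟩ := Δ.exists_δ c (cs.simple (A.σ g i))
  have h1 : Δ.δ (A.θ g⁻¹ c) (A.θ g⁻¹ d) = cs.simple i := by
    rw [A.δ_θ, hd, A.φ_simple, A.σ_inv_σ]
  have h2 := h.const i hi _ _ h1
  rw [h.fH, h.fH] at h2
  exact h.ne _ hn c d hd (smul_left_cancel _ h2)

/-- the stabiliser of `f c` -/
theorem stab [Nonempty C] (hth : Δ.Thick) {T : Subgroup H} (hKT : K ⊔ T = ⊤) {c : C} (hc : ∀ t ∈ T, A.θ t c = c)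
    (hUc : ∀ k ∈ S.U c, (k : H) • f c = f c) :
    MulAction.stabilizer H (f c) = HAct.Stb J h.inv c := by
  apply le_antisymm
  · intro g hg
    obtain ⟨k, t, ht, rfl⟩ := exists_kt A S hKT g
    have htf : t • f c = f c := by rw [← h.fH, hc t ht]
    rw [MulAction.mem_stabilizer_iff, mul_smul, htf] at hg
    rw [HAct.mem_Stb, A.θ_mul, hc t ht, A.θ_K]
    set X : Subgroup K := (MulAction.stabilizer H (f c)).subgroupOf K with hX
    have hUX : S.U c ≤ X := fun k hk => hUc k hk
    have htp : tp Δ X c ⊆ J := by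
      rintro i ⟨k', hk', hkc⟩
      by_contra hi
      apply h.ne i hi c (k' • c) hkc
      rw [h.fK]
      exact hk'
    exact OppRes.WJ_mono htp (delta_mem_tp S hth hUX k hg)
  · intro g hg
    rw [HAct.mem_Stb] at hg
    rw [MulAction.mem_stabilizer_iff, ← h.fH]
    exact h.res hg

/-- **(O2)**: `O₂(C_H(f c))` is semiregular on the functionals opposite `f c` -/
theorem semi [Nonempty C] [Finite H] (hth : Δ.Thick) (hC : ∀ g : H, (∀ k ∈ K, g * k = k * g) → g = 1)
    (hfa : ∀ g : K, (∀ x : C, g • x = x) → g = 1)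
    {T : Subgroup H} (hT : IsPGroup 2 T) (hTi : ¬ 2 ∣ T.index) (hKT : K ⊔ T = ⊤) {c : C}
    (hc : ∀ t ∈ T, A.θ t c = c) (hUc : ∀ k ∈ S.U c, (k : H) • f c = f c) {t : H}
    (ht : t ∈ o2 (MulAction.stabilizer H (f c))) {d : C} {u : M → ℤˣ} (hu : Fx S d u) (hcu : u (f c) ≠ 1)
    (htu : ∀ w, u (t • w) = u w) : t = 1 := by
  have hne : ∃ w, u w ≠ 1 := ⟨_, hcu⟩
  rw [h.stab (S := S) hth hKT hc hUc] at ht
  -- `t` fixes the residue of `c`
  have htJ : ∀ y ∈ Δ.Res J c, A.θ t y = y := fun y hy => fix_of_o2 A S hth hT hTi h.inv hc ht hy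
  have htc : A.θ t c = c := htJ c (Δ.self_mem_Res J c)
  -- the types
  have hσJ : ∀ i ∈ J, A.σ t i = i := by
    intro i hi
    obtain ⟨y, -, -, hy, -⟩ := hth c i
    apply F.inj
    rw [← A.φ_simple, ← hy, ← A.δ_θ, htc, htJ y (Δ.Pan_subset_Res hi c (Or.inr hy)), hy]
  have hσ : ∀ i, A.σ t i = i := by
    intro i
    by_cases hi : i ∈ J
    · exact hσJ i hi
    · refine h.one _ _ ?_ hi
      intro h1
      have h2 := h.inv t⁻¹ _ h1
      rw [A.σ_inv_σ] at h2
      exact hi h2
  have hφ : ∀ w, A.φ t w = w := by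
    intro w
    obtain ⟨ω, rfl⟩ := cs.wordProd_surjective w
    induction ω with
    | nil => simp
    | cons i ω ih => rw [cs.wordProd_cons, map_mul, ih, A.φ_simple, hσ]
  have hiso : ∀ a b, Δ.δ (A.θ t a) (A.θ t b) = Δ.δ a b := fun a b => by rw [A.δ_θ, hφ]
  -- an opposite chamber
  obtain ⟨e, heJ, he⟩ := h.exists_opp hth hu hcu
  have he' : Δ.Opp e d := by
    change Δ.δ e d = w0 cs
    rw [Δ.symm d e, show Δ.δ d e = w0 cs from he, F.w0_inv]
  have hresEq : ∀ y ∈ Δ.Res J e, y ∈ Δ.Res J c := fun y hy => OppRes.delta_mem_of_mem heJ hy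
  have hte : A.θ t e = e := htJ e heJ
  -- `t` fixes `d`
  have htd : A.θ t d = d := by
    obtain ⟨k, hk⟩ := exists_smul_top S hth d (A.θ t d)
    have h1 := Fx.smul A hu t
    rw [← hk] at h1
    have h2 : (fun w => u (t⁻¹ • w)) = u := by
      funext w
      have h3 := htu (t⁻¹ • w)
      rw [smul_inv_smul] at h3
      exact h3.symm
    rw [h2] at h1
    have hdR := h.mem_res (A := A) hth hu h1 hne
    rw [hk] at hdR
    have hR : OppRes.OppR Δ J e d := OppRes.OppR.of_opp J he'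
    have h1 := OppRes.twist hR hdR
    have h2 : Δ.proj J e (A.θ t d) = Δ.proj J e d := by
      apply Δ.proj_eq_of_isProj
      have h3 := Δ.isProj_proj J e d
      have h4 : ∀ a ∈ Δ.Res J e, Δ.δ (A.θ t d) a = Δ.δ d a := by
        intro a ha
        have h5 := hiso d a
        rwa [htJ a (hresEq a ha)] at h5
      refine ⟨h3.1, fun a ha => ?_⟩
      rw [h4 a ha, h4 _ h3.1]
      exact h3.2 a ha
    rw [h2, Δ.δ_self] at h1
    have h3 : Δ.δ d (A.θ t d) = 1 := by
      have h4 := h1.symm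
      rw [mul_inv_eq_one] at h4
      exact mul_eq_left.1 h4
    exact (Δ.eq_of_δ_eq_one h3).symm
  -- the panels of `e`
  have hpan : ∀ i, ∀ y ∈ Δ.Pan i e, A.θ t y = y := by
    intro i y hy
    by_cases hi : i ∈ J
    · exact htJ y (hresEq y (Δ.Pan_subset_Res hi e hy))
    rcases hy with rfl | hy
    · exact hte
    obtain ⟨a, ha, hda⟩ := Δ.exists_step d e i
    rw [show Δ.δ d e = w0 cs from he] at hda
    have hl : ℓ (w0 cs * cs.simple i) < ℓ (w0 cs * cs.simple i * cs.simple i) := by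
      have h3 := F.len_w0_mul (cs.simple i)
      rw [cs.length_simple] at h3
      rw [mul_assoc, cs.simple_mul_simple_self, mul_one]
      omega
    have hea : Δ.δ e (A.θ t a) = cs.simple i := by
      have h1 := hiso e a
      rwa [hte, ha] at h1
    have hta : A.θ t a = a := by
      by_contra hne
      have h1 : Δ.δ a (A.θ t a) = cs.simple i := Δ.δ_eq_of_mem_Pan (Or.inr ha) (Or.inr hea) (Ne.symm hne)
      have h2 := Δ.step_lt d a _ i h1 (by rw [hda]; exact hl)
      have h3 := hiso d a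
      rw [htd] at h3
      rw [← hda, ← h2, h3] at hl
      exact absurd hl (lt_irrefl _)
    by_cases hya : y = a
    · rw [hya, hta]
    have hety : Δ.δ e (A.θ t y) = cs.simple i := by
      have h1 := hiso e y
      rwa [hte, hy] at h1
    rcases h.three i hi e y a (A.θ t y) hy ha hya hety with h1 | h1
    · exact h1
    · exfalso
      apply hya
      apply A.θ_inj t
      rw [h1, hta]
  have hall : ∀ y, A.θ t y = y := by
    intro y
    refine Rigid.rigid (Δ := Δ) (Δ' := Δ) hth (φ := fun y => A.θ t y) (ψ := fun y => y) (J := Set.univ) (c := e)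
      (d := d) (fun a _ b _ => hiso a b) (fun a _ b _ => rfl) (fun i _ y hy => hpan i y hy) he' htd y ?_
    rw [Δ.Res_univ]; trivial
  -- `t` centralises `K`
  apply hC
  intro k hk
  have h1 : (MulAut.conjNormal t ⟨k, hk⟩ : K) = ⟨k, hk⟩ := by
    rw [← mul_inv_eq_one]
    apply hfa
    intro y
    rw [mul_smul]
    have h2 := θ_conj A S t ⟨k, hk⟩ ((⟨k, hk⟩ : K)⁻¹ • y)
    rw [smul_inv_smul, hall, hall] at h2
    exact h2.symm
  have h2 := congrArg Subtype.val h1
  rw [MulAut.conjNormal_apply] at h2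
  exact mul_inv_eq_iff_eq_mul.1 h2

end PF

end Cfsg.Agent.Omega.KL.Gal

end
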